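import Cfsg.Agent.Lib.Lead.PF.Tab
import Cfsg.Agent.Lib.Helper6.ONTCData

/-! # The outer automorphism group of the O'Nan group: the columns of the coset table as maps (generated) -/

set_option autoImplicit false
set_option maxRecDepth 100000

namespace Cfsg.Agent.Lib.Helper5.ONOut

open Cfsg.Agent.PF Cfsg.Agent.Lib.Helper6 Cfsg.Agent.Lib.Helper6.TC Cfsg.Agent.Lib.Helper6.NatArr Cfsg.Agent.Lib.Helper5
open Cfsg.Agent.PL (Acts evalF)

/-- the map of the letter `i` -/
noncomputable def fgen (i : ℕ) : ℕ → ℕ := fun a => ONTC.tab.nxt a i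

end Cfsg.Agent.Lib.Helper5.ONOut
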