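import Cfsg.Agent.Lib.Helper5.ONOut.Bridge
import Cfsg.Agent.Lib.Helper6.ONTC
import Cfsg.Agent.Lib.Helper5.ONOut.Fgen

/-! # The outer automorphism group of the O'Nan group: the permutation group on the rows of the coset table (generated) -/

set_option autoImplicit false
set_option maxRecDepth 100000

namespace Cfsg.Agent.Lib.Helper5.ONOut

open Cfsg.Agent.PF Cfsg.Agent.Lib.Helper6 Cfsg.Agent.Lib.Helper6.TC Cfsg.Agent.Lib.Helper6.NatArr Cfsg.Agent.Lib.Helper5
open Cfsg.Agent.PL (Acts evalF)

/-- the permutation group on the 122760 rows of the coset table -/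
noncomputable abbrev P : Subgroup (Equiv.Perm (Fin 122760)) := GenBridge.Prange ONTC.data

theorem rep_fgen {i : ℕ} (hi : i < 8) : Rep P (fgen i) := GenBridge.rep_gen ONTC.data (x := i) hi

/-- the permutation of the letter `i` -/
noncomputable def gP (i : ℕ) : Equiv.Perm (Fin 122760) := ONTC.data.P i

theorem acts_fgen {i : ℕ} (hi : i < 8) : Acts (gP i) (fgen i) := GenBridge.acts_P ONTC.data (x := i) hi

end Cfsg.Agent.Lib.Helper5.ONOut
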