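import Cfsg.Agent.Lib.Lead.PF.Tab
import Cfsg.Agent.Lib.Helper6.SimpG

/-!
# Coset tables of groups presented on letters that need not be involutions: the permutation group on the rows,
homomorphisms given by tables, and automorphisms

For the data `D` of a verified coset enumeration (where some letters may be inverses of generators that are not
involutions) the permutation group on the rows is the range of the action `D.ρ`.  A family of maps of points, one for
each letter, that are actions of elements of this group and satisfy the relators pointwise, gives a homomorphism from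
the presented group to the permutation group; if the presented group is finite and simple and the action is faithful
this is an automorphism of the permutation group.
-/

set_option autoImplicit false

noncomputable section

namespace Cfsg.Agent.Lib.Helper5.GenBridge

open Cfsg.Spor Cfsg.Agent.Lib.Helper6 Cfsg.Agent.Lib.Helper6.TC Cfsg.Agent.Lib.Helper6.TCG
  Cfsg.Agent.Lib.Helper6.TCGS Cfsg.Agent.Lib.Helper6.NatArr
open Cfsg.Agent.PL (Acts)
open Cfsg.Agent.PF (Rep Reps wordF acts_prod acts_inv)

variable {α : Type} [DecidableEq α] {edges : List (α × ℕ × α)} {extra : List (FreeGroup α)}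
  {S : Set (FreeGroup α)} (D : GenData edges extra S)

/-- the permutation group on the rows -/
def Prange : Subgroup (Equiv.Perm (Fin D.T.n)) := D.ρ.range

theorem letter_lt {x : ℕ} (hx : x < D.T.g) : x < D.c.g := by rw [← D.hTg]; exact hx

/-- the permutation of a letter lies in the permutation group -/
theorem P_mem {x : ℕ} (hx : x < D.T.g) : D.P x ∈ Prange D := by
  refine ⟨(D.γ x)⁻¹, ?_⟩
  rw [map_inv, SimpG.ρ_γ D (letter_lt D hx), inv_inv]

/-- the permutation of a letter acts by the column of the table -/
theorem acts_P {x : ℕ} (hx : x < D.T.g) : Acts (D.P x) fun a => D.T.nxt a x := by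
  intro q hq
  exact TCG.perm_apply D.chk_tab hx ⟨q, hq⟩

/-- the column `x` of the table is the action of an element of the permutation group -/
theorem rep_gen {x : ℕ} (hx : x < D.T.g) : Rep (Prange D) fun a => D.T.nxt a x :=
  ⟨D.P x, P_mem D hx, acts_P D hx⟩

theorem iv_lt' {x : ℕ} (hx : x < D.T.g) : ivN D.ivs x < D.T.g := (iv_spec D.chk_tab hx).1

/-- the image of a letter under the action is the permutation of the inverse letter -/
theorem ρ_γ_iv {x : ℕ} (hx : x < D.T.g) : D.ρ (D.γ x) = D.P (ivN D.ivs x) := by
  rw [SimpG.ρ_γ D (letter_lt D hx)]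
  exact (perm_iv D.chk_tab hx).symm

/-- the image of a word under the action is the product of the permutations of the inverse letters -/
theorem ρ_wordG_prod (w : List ℕ) (hw : ∀ x ∈ w, x < D.T.g) :
    D.ρ (SimpG.wordG D w) = (w.map fun x => D.P (ivN D.ivs x)).prod := by
  unfold SimpG.wordG
  rw [map_list_prod, List.map_map]
  congr 1
  apply List.map_congr_left
  intro x hx
  exact ρ_γ_iv D (hw x hx)

/-! ### faithful actions -/

section faithful

variable (hinj : Function.Injective D.ρ)

/-- the isomorphism onto the permutation group -/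
def iso : CoxPresented α edges extra ≃* ↥(Prange D) := MonoidHom.ofInjective hinj

theorem iso_val (z : CoxPresented α edges extra) : (iso D hinj z).1 = D.ρ z := rfl

include hinj in
theorem card_Prange {N : ℕ} (h : Nat.card (CoxPresented α edges extra) = N) : Nat.card ↥(Prange D) = N := by
  rw [← h]
  exact (Nat.card_congr (iso D hinj).toEquiv).symm

end faithful

/-! ### homomorphisms given by tables -/

/-- the relators are mapped to one by a map of the generators that satisfies the relators of the nodes, of the pairs
of nodes, and the further relators as words in the letters -/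
theorem lift_eq_one_of {K : Type} [Group K] (F : α → K)
    (hnode : ∀ x, x < D.gn → F (D.gen x) * F (D.gen x) = 1)
    (hpair : ∀ i j, i < j → j < D.gn → (F (D.gen j) * F (D.gen i)) ^ coxLabel edges (D.gen i) (D.gen j) = 1)
    (hex : ∀ p ∈ D.extraPow, (((List.replicate p.2 p.1).flatten).map
      (fun x => FreeGroup.lift F (lt D.gen D.sgn x))).prod = 1) :
    ∀ r ∈ coxRelators edges ∪ {r | r ∈ extra}, FreeGroup.lift F r = 1 := by
  have hnode' : ∀ a ∈ coxNodes edges, F a * F a = 1 := by
    intro a ha
    have := hnode (D.code a) (D.hnode a ha)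
    rwa [(D.hcode a).2.1] at this
  intro r hr
  rcases hr with ⟨x, hx, y, hy, rfl⟩ | hr
  · rw [map_pow, map_mul, FreeGroup.lift_apply_of, FreeGroup.lift_apply_of]
    have hcx := D.hnode x hx
    have hcy := D.hnode y hy
    have hgx := (D.hcode x).2.1
    have hgy := (D.hcode y).2.1
    rcases Nat.lt_trichotomy (D.code x) (D.code y) with h | h | h
    · have := hpair _ _ h hcy
      rw [hgx, hgy] at this
      exact pow_comm_eq_one this
    · have hxy : x = y := by rw [← hgx, ← hgy, h]
      subst hxy
      have : coxLabel edges x x = 1 := by simp [coxLabel]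
      rw [this, pow_one]
      exact hnode' x hx
    · have := hpair _ _ h hcx
      rw [hgx, hgy, coxLabel_comm edges y x] at this
      exact this
  · exact (D.hextra F hnode').2 hex r hr

/-- the data of a homomorphism to the permutation group: a map of points for each letter -/
structure HomData where
  /-- the map of the image of the letter -/
  fp : ℕ → ℕ → ℕ
  hrep : ∀ l, l < D.T.g → Rep (Prange D) (fp l)
  hinv : ∀ l, l < D.T.g → ∀ q, q < D.T.n → fp (ivN D.ivs l) (fp l q) = q
  hpair : ∀ i j, i < j → j < D.gn → ∀ q, q < D.T.n →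
    (fun q => fp j (fp i q))^[coxLabel edges (D.gen i) (D.gen j)] q = q
  hextra : ∀ p ∈ D.extraPow, ∀ q, q < D.T.n → wordF (((List.replicate p.2 p.1).flatten).map fp) q = q

namespace HomData

variable {D}
variable (h : HomData D)

/-- the image of a generator -/
def F (a : α) : ↥(Prange D) :=
  ⟨Classical.choose (h.hrep (D.code a) (by rw [D.hTg]; exact (D.hcode a).1)),
    (Classical.choose_spec (h.hrep (D.code a) (by rw [D.hTg]; exact (D.hcode a).1))).1⟩

theorem acts_F (a : α) : Acts (h.F a).1 (h.fp (D.code a)) :=
  (Classical.choose_spec (h.hrep (D.code a) (by rw [D.hTg]; exact (D.hcode a).1))).2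

/-- the image of a letter -/
def L (l : ℕ) : ↥(Prange D) := FreeGroup.lift h.F (lt D.gen D.sgn l)

theorem acts_L {l : ℕ} (hl : l < D.T.g) : Acts (h.L l).1 (h.fp l) := by
  have hl' : l < D.c.g := by rw [← D.hTg]; exact hl
  obtain ⟨h1, h2, h3⟩ := D.hletter l hl'
  unfold L lt
  cases hs : D.sgn l
  · obtain ⟨h4, _, _⟩ := h3 hs
    rw [cond_false, FreeGroup.lift_apply_of]
    have := h.acts_F (D.gen l)
    rwa [h4] at this
  · obtain ⟨_, h4⟩ := h2 hs
    rw [cond_true, map_inv, FreeGroup.lift_apply_of]
    have h5 := h.acts_F (D.gen l)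
    rw [h4] at h5
    have hiv := iv_spec D.chk_tab hl
    show Acts ((h.F (D.gen l)).1)⁻¹ (h.fp l)
    refine acts_inv h5 ?_
    intro q hq
    have := h.hinv (ivN D.ivs l) hiv.1 q hq
    rwa [hiv.2] at this

theorem node_sq {x : ℕ} (hx : x < D.gn) : h.F (D.gen x) * h.F (D.gen x) = 1 := by
  obtain ⟨_, h2, h3, h4⟩ := D.hlow x hx
  have hxg : x < D.T.g := by rw [D.hTg]; exact lt_of_lt_of_le hx D.hgn
  have ha := h.acts_F (D.gen x)
  rw [h4] at ha
  apply Subtype.ext
  show (h.F (D.gen x)).1 * (h.F (D.gen x)).1 = 1
  refine (ha.mul ha).eq_one ?_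
  intro q hq
  have := h.hinv x hxg q hq
  rwa [h3] at this

theorem pair_pow {i j : ℕ} (hij : i < j) (hj : j < D.gn) :
    (h.F (D.gen j) * h.F (D.gen i)) ^ coxLabel edges (D.gen i) (D.gen j) = 1 := by
  obtain ⟨_, _, _, hi4⟩ := D.hlow i (lt_trans hij hj)
  obtain ⟨_, _, _, hj4⟩ := D.hlow j hj
  have hai := h.acts_F (D.gen i)
  have haj := h.acts_F (D.gen j)
  rw [hi4] at hai
  rw [hj4] at haj
  apply Subtype.ext
  show ((h.F (D.gen j)).1 * (h.F (D.gen i)).1) ^ coxLabel edges (D.gen i) (D.gen j) = 1
  exact ((haj.mul hai).pow _).eq_one (h.hpair i j hij hj)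

theorem acts_letters : ∀ (w : List ℕ), (∀ l ∈ w, l < D.T.g) →
    Acts ((w.map fun l => h.L l).prod).1 (wordF (w.map h.fp))
  | [], _ => fun _ _ => rfl
  | l :: w, hw => by
    rw [List.map_cons, List.prod_cons, List.map_cons]
    exact (h.acts_L (hw l List.mem_cons_self)).mul
      (acts_letters w fun l' hl' => hw l' (List.mem_cons_of_mem _ hl'))

theorem extra_prod {p : List ℕ × ℕ} (hp : p ∈ D.extraPow) :
    (((List.replicate p.2 p.1).flatten).map (fun x => FreeGroup.lift h.F (lt D.gen D.sgn x))).prod = 1 := by
  have hm := List.mem_append_right (coxPairs edges D.gen D.gn) hp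
  obtain ⟨h1, _⟩ := rev_prod_eq_one_of_minsOK D.chk_tab D.chk_pows hm
  have hl : ∀ x ∈ (List.replicate p.2 p.1).flatten, x < D.T.g := by
    intro x hx
    rw [List.mem_flatten] at hx
    obtain ⟨l, hl, hxl⟩ := hx
    rw [List.eq_of_mem_replicate hl] at hxl
    exact h1 x hxl
  apply Subtype.ext
  exact (h.acts_letters _ hl).eq_one (h.hextra p hp)

/-- the homomorphism -/
def φ : CoxPresented α edges extra →* ↥(Prange D) :=
  PresentedGroup.toGroup (f := h.F)
    (lift_eq_one_of D h.F (fun _ hx => h.node_sq hx) (fun _ _ hij hj => h.pair_pow hij hj)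
      (fun _ hp => h.extra_prod hp))

theorem φ_γ (l : ℕ) : h.φ (D.γ l) = h.L l := by
  have : h.φ.comp (PresentedGroup.mk _) = FreeGroup.lift h.F := by
    apply FreeGroup.ext_hom
    intro a
    rw [MonoidHom.comp_apply, FreeGroup.lift_apply_of]
    exact PresentedGroup.toGroup.of _
  unfold L
  rw [← this]
  rfl

/-- the image of a word acts by the composition of the maps of its letters -/
theorem acts_φ_wordG (w : List ℕ) (hw : ∀ l ∈ w, l < D.T.g) :
    Acts (h.φ (SimpG.wordG D w)).1 (wordF (w.map h.fp)) := by
  have e : h.φ (SimpG.wordG D w) = (w.map fun l => h.L l).prod := by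
    unfold SimpG.wordG
    rw [map_list_prod, List.map_map]
    rfl
  rw [e]
  exact h.acts_letters w hw

/-- **The automorphism of the permutation group given by the tables**, for a finite simple group acting faithfully. -/
theorem exists_aut (hinj : Function.Injective D.ρ) [Finite (CoxPresented α edges extra)]
    [IsSimpleGroup (CoxPresented α edges extra)] {l₀ q₀ : ℕ} (hl₀ : l₀ < D.T.g) (hq₀ : q₀ < D.T.n)
    (hne : h.fp l₀ q₀ ≠ q₀) :
    ∃ σ : MulAut ↥(Prange D), ∀ z : CoxPresented α edges extra, σ (iso D hinj z) = h.φ z := by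
  have hφ1 : h.φ (D.γ l₀) ≠ 1 := by
    intro e
    have := (h.acts_L hl₀).ne_one hq₀ hne
    rw [← h.φ_γ, e] at this
    exact this rfl
  have hker : h.φ.ker = ⊥ := by
    rcases (h.φ.normal_ker).eq_bot_or_eq_top with hk | hk
    · exact hk
    · exfalso
      apply hφ1
      rw [← MonoidHom.mem_ker, hk]
      exact Subgroup.mem_top _
  have hφinj : Function.Injective h.φ := (MonoidHom.ker_eq_bot_iff _).1 hker
  let ψ : ↥(Prange D) →* ↥(Prange D) := h.φ.comp (iso D hinj).symm.toMonoidHom
  have hψinj : Function.Injective ψ := hφinj.comp (iso D hinj).symm.injective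
  have hfin : Finite ↥(Prange D) := Finite.of_equiv _ (iso D hinj).toEquiv
  have hψbij : Function.Bijective ψ := ⟨hψinj, Finite.surjective_of_injective hψinj⟩
  refine ⟨MulEquiv.ofBijective ψ hψbij, ?_⟩
  intro z
  show h.φ ((iso D hinj).symm (iso D hinj z)) = h.φ z
  rw [MulEquiv.symm_apply_apply]

end HomData

end Cfsg.Agent.Lib.Helper5.GenBridge

end
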