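import Cfsg.Agent.Lib.Helper5.ONOut.D0

/-! # The outer automorphism group of the O'Nan group: the check of the table of the element number 0 (generated) -/

set_option autoImplicit false
set_option maxRecDepth 100000

namespace Cfsg.Agent.Lib.Helper5.ONOut

open Cfsg.Agent.PF Cfsg.Agent.Lib.Helper6 Cfsg.Agent.Lib.Helper6.TC Cfsg.Agent.Lib.Helper6.NatArr Cfsg.Agent.Lib.Helper5
open Cfsg.Agent.PL (Acts evalF)

theorem eq0_0 : allR 0 24552 (fun q => Nat.beq (f0 q) (fgen 0 q)) = true := by decide +kernel

theorem eq0_1 : allR 24552 24552 (fun q => Nat.beq (f0 q) (fgen 0 q)) = true := by decide +kernel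

theorem eq0_2 : allR 49104 24552 (fun q => Nat.beq (f0 q) (fgen 0 q)) = true := by decide +kernel

theorem eq0_3 : allR 73656 24552 (fun q => Nat.beq (f0 q) (fgen 0 q)) = true := by decide +kernel

theorem eq0_4 : allR 98208 24552 (fun q => Nat.beq (f0 q) (fgen 0 q)) = true := by decide +kernel


end Cfsg.Agent.Lib.Helper5.ONOut
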