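import Cfsg.Agent.Lib.Helper5.ONOut.D12

/-! # The outer automorphism group of the O'Nan group: the check of the table of the element number 12 (generated) -/

set_option autoImplicit false
set_option maxRecDepth 100000

namespace Cfsg.Agent.Lib.Helper5.ONOut

open Cfsg.Agent.PF Cfsg.Agent.Lib.Helper6 Cfsg.Agent.Lib.Helper6.TC Cfsg.Agent.Lib.Helper6.NatArr Cfsg.Agent.Lib.Helper5
open Cfsg.Agent.PL (Acts evalF)

theorem eq12_0 : allR 0 6138 (fun q => Nat.beq (f12 q) ((fun q => f2 (f1 (f4 (f8 (f8 (f6 (f3 (f7 (f4 (f0 (f6 (f8 (f10 (f1 (f2 (q)))))))))))))))) q)) = true := by decide +kernel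

theorem eq12_1 : allR 6138 6138 (fun q => Nat.beq (f12 q) ((fun q => f2 (f1 (f4 (f8 (f8 (f6 (f3 (f7 (f4 (f0 (f6 (f8 (f10 (f1 (f2 (q)))))))))))))))) q)) = true := by decide +kernel

theorem eq12_2 : allR 12276 6138 (fun q => Nat.beq (f12 q) ((fun q => f2 (f1 (f4 (f8 (f8 (f6 (f3 (f7 (f4 (f0 (f6 (f8 (f10 (f1 (f2 (q)))))))))))))))) q)) = true := by decide +kernel

theorem eq12_3 : allR 18414 6138 (fun q => Nat.beq (f12 q) ((fun q => f2 (f1 (f4 (f8 (f8 (f6 (f3 (f7 (f4 (f0 (f6 (f8 (f10 (f1 (f2 (q)))))))))))))))) q)) = true := by decide +kernel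

theorem eq12_4 : allR 24552 6138 (fun q => Nat.beq (f12 q) ((fun q => f2 (f1 (f4 (f8 (f8 (f6 (f3 (f7 (f4 (f0 (f6 (f8 (f10 (f1 (f2 (q)))))))))))))))) q)) = true := by decide +kernel

theorem eq12_5 : allR 30690 6138 (fun q => Nat.beq (f12 q) ((fun q => f2 (f1 (f4 (f8 (f8 (f6 (f3 (f7 (f4 (f0 (f6 (f8 (f10 (f1 (f2 (q)))))))))))))))) q)) = true := by decide +kernel

theorem eq12_6 : allR 36828 6138 (fun q => Nat.beq (f12 q) ((fun q => f2 (f1 (f4 (f8 (f8 (f6 (f3 (f7 (f4 (f0 (f6 (f8 (f10 (f1 (f2 (q)))))))))))))))) q)) = true := by decide +kernel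

theorem eq12_7 : allR 42966 6138 (fun q => Nat.beq (f12 q) ((fun q => f2 (f1 (f4 (f8 (f8 (f6 (f3 (f7 (f4 (f0 (f6 (f8 (f10 (f1 (f2 (q)))))))))))))))) q)) = true := by decide +kernel

theorem eq12_8 : allR 49104 6138 (fun q => Nat.beq (f12 q) ((fun q => f2 (f1 (f4 (f8 (f8 (f6 (f3 (f7 (f4 (f0 (f6 (f8 (f10 (f1 (f2 (q)))))))))))))))) q)) = true := by decide +kernel

theorem eq12_9 : allR 55242 6138 (fun q => Nat.beq (f12 q) ((fun q => f2 (f1 (f4 (f8 (f8 (f6 (f3 (f7 (f4 (f0 (f6 (f8 (f10 (f1 (f2 (q)))))))))))))))) q)) = true := by decide +kernel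

theorem eq12_10 : allR 61380 6138 (fun q => Nat.beq (f12 q) ((fun q => f2 (f1 (f4 (f8 (f8 (f6 (f3 (f7 (f4 (f0 (f6 (f8 (f10 (f1 (f2 (q)))))))))))))))) q)) = true := by decide +kernel

theorem eq12_11 : allR 67518 6138 (fun q => Nat.beq (f12 q) ((fun q => f2 (f1 (f4 (f8 (f8 (f6 (f3 (f7 (f4 (f0 (f6 (f8 (f10 (f1 (f2 (q)))))))))))))))) q)) = true := by decide +kernel

theorem eq12_12 : allR 73656 6138 (fun q => Nat.beq (f12 q) ((fun q => f2 (f1 (f4 (f8 (f8 (f6 (f3 (f7 (f4 (f0 (f6 (f8 (f10 (f1 (f2 (q)))))))))))))))) q)) = true := by decide +kernel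

theorem eq12_13 : allR 79794 6138 (fun q => Nat.beq (f12 q) ((fun q => f2 (f1 (f4 (f8 (f8 (f6 (f3 (f7 (f4 (f0 (f6 (f8 (f10 (f1 (f2 (q)))))))))))))))) q)) = true := by decide +kernel

theorem eq12_14 : allR 85932 6138 (fun q => Nat.beq (f12 q) ((fun q => f2 (f1 (f4 (f8 (f8 (f6 (f3 (f7 (f4 (f0 (f6 (f8 (f10 (f1 (f2 (q)))))))))))))))) q)) = true := by decide +kernel

theorem eq12_15 : allR 92070 6138 (fun q => Nat.beq (f12 q) ((fun q => f2 (f1 (f4 (f8 (f8 (f6 (f3 (f7 (f4 (f0 (f6 (f8 (f10 (f1 (f2 (q)))))))))))))))) q)) = true := by decide +kernel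

theorem eq12_16 : allR 98208 6138 (fun q => Nat.beq (f12 q) ((fun q => f2 (f1 (f4 (f8 (f8 (f6 (f3 (f7 (f4 (f0 (f6 (f8 (f10 (f1 (f2 (q)))))))))))))))) q)) = true := by decide +kernel

theorem eq12_17 : allR 104346 6138 (fun q => Nat.beq (f12 q) ((fun q => f2 (f1 (f4 (f8 (f8 (f6 (f3 (f7 (f4 (f0 (f6 (f8 (f10 (f1 (f2 (q)))))))))))))))) q)) = true := by decide +kernel

theorem eq12_18 : allR 110484 6138 (fun q => Nat.beq (f12 q) ((fun q => f2 (f1 (f4 (f8 (f8 (f6 (f3 (f7 (f4 (f0 (f6 (f8 (f10 (f1 (f2 (q)))))))))))))))) q)) = true := by decide +kernel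

theorem eq12_19 : allR 116622 6138 (fun q => Nat.beq (f12 q) ((fun q => f2 (f1 (f4 (f8 (f8 (f6 (f3 (f7 (f4 (f0 (f6 (f8 (f10 (f1 (f2 (q)))))))))))))))) q)) = true := by decide +kernel


end Cfsg.Agent.Lib.Helper5.ONOut
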