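import Cfsg.Agent.Lib.Helper5.ONOut.D13

/-! # The outer automorphism group of the O'Nan group: the check of the table of the element number 13 (generated) -/

set_option autoImplicit false
set_option maxRecDepth 100000

namespace Cfsg.Agent.Lib.Helper5.ONOut

open Cfsg.Agent.PF Cfsg.Agent.Lib.Helper6 Cfsg.Agent.Lib.Helper6.TC Cfsg.Agent.Lib.Helper6.NatArr Cfsg.Agent.Lib.Helper5
open Cfsg.Agent.PL (Acts evalF)

theorem eq13_25 : allR 99000 3960 (fun q => Nat.beq (f13 q) ((fun q => f10 (f11 (f12 (f10 (f12 (f12 (f10 (f11 (f11 (f1 (f0 (f2 (f12 (f2 (f9 (f11 (f11 (f4 (f1 (f11 (f5 (f11 (f11 (f8 (q))))))))))))))))))))))))) q)) = true := by decide +kernel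

theorem eq13_26 : allR 102960 3960 (fun q => Nat.beq (f13 q) ((fun q => f10 (f11 (f12 (f10 (f12 (f12 (f10 (f11 (f11 (f1 (f0 (f2 (f12 (f2 (f9 (f11 (f11 (f4 (f1 (f11 (f5 (f11 (f11 (f8 (q))))))))))))))))))))))))) q)) = true := by decide +kernel

theorem eq13_27 : allR 106920 3960 (fun q => Nat.beq (f13 q) ((fun q => f10 (f11 (f12 (f10 (f12 (f12 (f10 (f11 (f11 (f1 (f0 (f2 (f12 (f2 (f9 (f11 (f11 (f4 (f1 (f11 (f5 (f11 (f11 (f8 (q))))))))))))))))))))))))) q)) = true := by decide +kernel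

theorem eq13_28 : allR 110880 3960 (fun q => Nat.beq (f13 q) ((fun q => f10 (f11 (f12 (f10 (f12 (f12 (f10 (f11 (f11 (f1 (f0 (f2 (f12 (f2 (f9 (f11 (f11 (f4 (f1 (f11 (f5 (f11 (f11 (f8 (q))))))))))))))))))))))))) q)) = true := by decide +kernel

theorem eq13_29 : allR 114840 3960 (fun q => Nat.beq (f13 q) ((fun q => f10 (f11 (f12 (f10 (f12 (f12 (f10 (f11 (f11 (f1 (f0 (f2 (f12 (f2 (f9 (f11 (f11 (f4 (f1 (f11 (f5 (f11 (f11 (f8 (q))))))))))))))))))))))))) q)) = true := by decide +kernel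

theorem eq13_30 : allR 118800 3960 (fun q => Nat.beq (f13 q) ((fun q => f10 (f11 (f12 (f10 (f12 (f12 (f10 (f11 (f11 (f1 (f0 (f2 (f12 (f2 (f9 (f11 (f11 (f4 (f1 (f11 (f5 (f11 (f11 (f8 (q))))))))))))))))))))))))) q)) = true := by decide +kernel


end Cfsg.Agent.Lib.Helper5.ONOut
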