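import Cfsg.Agent.Lib.Helper5.ONOut.D14

/-! # The outer automorphism group of the O'Nan group: the check of the table of the element number 14 (generated) -/

set_option autoImplicit false
set_option maxRecDepth 100000

namespace Cfsg.Agent.Lib.Helper5.ONOut

open Cfsg.Agent.PF Cfsg.Agent.Lib.Helper6 Cfsg.Agent.Lib.Helper6.TC Cfsg.Agent.Lib.Helper6.NatArr Cfsg.Agent.Lib.Helper5
open Cfsg.Agent.PL (Acts evalF)

theorem eq14_0 : allR 0 4385 (fun q => Nat.beq (f14 q) ((fun q => f9 (f11 (f13 (f12 (f10 (f13 (f9 (f10 (f3 (f12 (f5 (f4 (f13 (f6 (f8 (f13 (f10 (f3 (f4 (f4 (f9 (q)))))))))))))))))))))) q)) = true := by decide +kernel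

theorem eq14_1 : allR 4385 4385 (fun q => Nat.beq (f14 q) ((fun q => f9 (f11 (f13 (f12 (f10 (f13 (f9 (f10 (f3 (f12 (f5 (f4 (f13 (f6 (f8 (f13 (f10 (f3 (f4 (f4 (f9 (q)))))))))))))))))))))) q)) = true := by decide +kernel

theorem eq14_2 : allR 8770 4385 (fun q => Nat.beq (f14 q) ((fun q => f9 (f11 (f13 (f12 (f10 (f13 (f9 (f10 (f3 (f12 (f5 (f4 (f13 (f6 (f8 (f13 (f10 (f3 (f4 (f4 (f9 (q)))))))))))))))))))))) q)) = true := by decide +kernel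

theorem eq14_3 : allR 13155 4385 (fun q => Nat.beq (f14 q) ((fun q => f9 (f11 (f13 (f12 (f10 (f13 (f9 (f10 (f3 (f12 (f5 (f4 (f13 (f6 (f8 (f13 (f10 (f3 (f4 (f4 (f9 (q)))))))))))))))))))))) q)) = true := by decide +kernel

theorem eq14_4 : allR 17540 4385 (fun q => Nat.beq (f14 q) ((fun q => f9 (f11 (f13 (f12 (f10 (f13 (f9 (f10 (f3 (f12 (f5 (f4 (f13 (f6 (f8 (f13 (f10 (f3 (f4 (f4 (f9 (q)))))))))))))))))))))) q)) = true := by decide +kernel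

theorem eq14_5 : allR 21925 4385 (fun q => Nat.beq (f14 q) ((fun q => f9 (f11 (f13 (f12 (f10 (f13 (f9 (f10 (f3 (f12 (f5 (f4 (f13 (f6 (f8 (f13 (f10 (f3 (f4 (f4 (f9 (q)))))))))))))))))))))) q)) = true := by decide +kernel

theorem eq14_6 : allR 26310 4385 (fun q => Nat.beq (f14 q) ((fun q => f9 (f11 (f13 (f12 (f10 (f13 (f9 (f10 (f3 (f12 (f5 (f4 (f13 (f6 (f8 (f13 (f10 (f3 (f4 (f4 (f9 (q)))))))))))))))))))))) q)) = true := by decide +kernel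

theorem eq14_7 : allR 30695 4385 (fun q => Nat.beq (f14 q) ((fun q => f9 (f11 (f13 (f12 (f10 (f13 (f9 (f10 (f3 (f12 (f5 (f4 (f13 (f6 (f8 (f13 (f10 (f3 (f4 (f4 (f9 (q)))))))))))))))))))))) q)) = true := by decide +kernel

theorem eq14_8 : allR 35080 4385 (fun q => Nat.beq (f14 q) ((fun q => f9 (f11 (f13 (f12 (f10 (f13 (f9 (f10 (f3 (f12 (f5 (f4 (f13 (f6 (f8 (f13 (f10 (f3 (f4 (f4 (f9 (q)))))))))))))))))))))) q)) = true := by decide +kernel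

theorem eq14_9 : allR 39465 4385 (fun q => Nat.beq (f14 q) ((fun q => f9 (f11 (f13 (f12 (f10 (f13 (f9 (f10 (f3 (f12 (f5 (f4 (f13 (f6 (f8 (f13 (f10 (f3 (f4 (f4 (f9 (q)))))))))))))))))))))) q)) = true := by decide +kernel

theorem eq14_10 : allR 43850 4385 (fun q => Nat.beq (f14 q) ((fun q => f9 (f11 (f13 (f12 (f10 (f13 (f9 (f10 (f3 (f12 (f5 (f4 (f13 (f6 (f8 (f13 (f10 (f3 (f4 (f4 (f9 (q)))))))))))))))))))))) q)) = true := by decide +kernel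

theorem eq14_11 : allR 48235 4385 (fun q => Nat.beq (f14 q) ((fun q => f9 (f11 (f13 (f12 (f10 (f13 (f9 (f10 (f3 (f12 (f5 (f4 (f13 (f6 (f8 (f13 (f10 (f3 (f4 (f4 (f9 (q)))))))))))))))))))))) q)) = true := by decide +kernel

theorem eq14_12 : allR 52620 4385 (fun q => Nat.beq (f14 q) ((fun q => f9 (f11 (f13 (f12 (f10 (f13 (f9 (f10 (f3 (f12 (f5 (f4 (f13 (f6 (f8 (f13 (f10 (f3 (f4 (f4 (f9 (q)))))))))))))))))))))) q)) = true := by decide +kernel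

theorem eq14_13 : allR 57005 4385 (fun q => Nat.beq (f14 q) ((fun q => f9 (f11 (f13 (f12 (f10 (f13 (f9 (f10 (f3 (f12 (f5 (f4 (f13 (f6 (f8 (f13 (f10 (f3 (f4 (f4 (f9 (q)))))))))))))))))))))) q)) = true := by decide +kernel

theorem eq14_14 : allR 61390 4385 (fun q => Nat.beq (f14 q) ((fun q => f9 (f11 (f13 (f12 (f10 (f13 (f9 (f10 (f3 (f12 (f5 (f4 (f13 (f6 (f8 (f13 (f10 (f3 (f4 (f4 (f9 (q)))))))))))))))))))))) q)) = true := by decide +kernel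

theorem eq14_15 : allR 65775 4385 (fun q => Nat.beq (f14 q) ((fun q => f9 (f11 (f13 (f12 (f10 (f13 (f9 (f10 (f3 (f12 (f5 (f4 (f13 (f6 (f8 (f13 (f10 (f3 (f4 (f4 (f9 (q)))))))))))))))))))))) q)) = true := by decide +kernel

theorem eq14_16 : allR 70160 4385 (fun q => Nat.beq (f14 q) ((fun q => f9 (f11 (f13 (f12 (f10 (f13 (f9 (f10 (f3 (f12 (f5 (f4 (f13 (f6 (f8 (f13 (f10 (f3 (f4 (f4 (f9 (q)))))))))))))))))))))) q)) = true := by decide +kernel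

theorem eq14_17 : allR 74545 4385 (fun q => Nat.beq (f14 q) ((fun q => f9 (f11 (f13 (f12 (f10 (f13 (f9 (f10 (f3 (f12 (f5 (f4 (f13 (f6 (f8 (f13 (f10 (f3 (f4 (f4 (f9 (q)))))))))))))))))))))) q)) = true := by decide +kernel

theorem eq14_18 : allR 78930 4385 (fun q => Nat.beq (f14 q) ((fun q => f9 (f11 (f13 (f12 (f10 (f13 (f9 (f10 (f3 (f12 (f5 (f4 (f13 (f6 (f8 (f13 (f10 (f3 (f4 (f4 (f9 (q)))))))))))))))))))))) q)) = true := by decide +kernel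

theorem eq14_19 : allR 83315 4385 (fun q => Nat.beq (f14 q) ((fun q => f9 (f11 (f13 (f12 (f10 (f13 (f9 (f10 (f3 (f12 (f5 (f4 (f13 (f6 (f8 (f13 (f10 (f3 (f4 (f4 (f9 (q)))))))))))))))))))))) q)) = true := by decide +kernel

theorem eq14_20 : allR 87700 4385 (fun q => Nat.beq (f14 q) ((fun q => f9 (f11 (f13 (f12 (f10 (f13 (f9 (f10 (f3 (f12 (f5 (f4 (f13 (f6 (f8 (f13 (f10 (f3 (f4 (f4 (f9 (q)))))))))))))))))))))) q)) = true := by decide +kernel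

theorem eq14_21 : allR 92085 4385 (fun q => Nat.beq (f14 q) ((fun q => f9 (f11 (f13 (f12 (f10 (f13 (f9 (f10 (f3 (f12 (f5 (f4 (f13 (f6 (f8 (f13 (f10 (f3 (f4 (f4 (f9 (q)))))))))))))))))))))) q)) = true := by decide +kernel

theorem eq14_22 : allR 96470 4385 (fun q => Nat.beq (f14 q) ((fun q => f9 (f11 (f13 (f12 (f10 (f13 (f9 (f10 (f3 (f12 (f5 (f4 (f13 (f6 (f8 (f13 (f10 (f3 (f4 (f4 (f9 (q)))))))))))))))))))))) q)) = true := by decide +kernel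

theorem eq14_23 : allR 100855 4385 (fun q => Nat.beq (f14 q) ((fun q => f9 (f11 (f13 (f12 (f10 (f13 (f9 (f10 (f3 (f12 (f5 (f4 (f13 (f6 (f8 (f13 (f10 (f3 (f4 (f4 (f9 (q)))))))))))))))))))))) q)) = true := by decide +kernel

theorem eq14_24 : allR 105240 4385 (fun q => Nat.beq (f14 q) ((fun q => f9 (f11 (f13 (f12 (f10 (f13 (f9 (f10 (f3 (f12 (f5 (f4 (f13 (f6 (f8 (f13 (f10 (f3 (f4 (f4 (f9 (q)))))))))))))))))))))) q)) = true := by decide +kernel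


end Cfsg.Agent.Lib.Helper5.ONOut
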