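import Cfsg.Agent.Lib.Helper5.ONOut.D14

/-! # The outer automorphism group of the O'Nan group: the check of the table of the element number 14 (generated) -/

set_option autoImplicit false
set_option maxRecDepth 100000

namespace Cfsg.Agent.Lib.Helper5.ONOut

open Cfsg.Agent.PF Cfsg.Agent.Lib.Helper6 Cfsg.Agent.Lib.Helper6.TC Cfsg.Agent.Lib.Helper6.NatArr Cfsg.Agent.Lib.Helper5
open Cfsg.Agent.PL (Acts evalF)

theorem eq14_25 : allR 109625 4385 (fun q => Nat.beq (f14 q) ((fun q => f9 (f11 (f13 (f12 (f10 (f13 (f9 (f10 (f3 (f12 (f5 (f4 (f13 (f6 (f8 (f13 (f10 (f3 (f4 (f4 (f9 (q)))))))))))))))))))))) q)) = true := by decide +kernel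

theorem eq14_26 : allR 114010 4385 (fun q => Nat.beq (f14 q) ((fun q => f9 (f11 (f13 (f12 (f10 (f13 (f9 (f10 (f3 (f12 (f5 (f4 (f13 (f6 (f8 (f13 (f10 (f3 (f4 (f4 (f9 (q)))))))))))))))))))))) q)) = true := by decide +kernel

theorem eq14_27 : allR 118395 4365 (fun q => Nat.beq (f14 q) ((fun q => f9 (f11 (f13 (f12 (f10 (f13 (f9 (f10 (f3 (f12 (f5 (f4 (f13 (f6 (f8 (f13 (f10 (f3 (f4 (f4 (f9 (q)))))))))))))))))))))) q)) = true := by decide +kernel


end Cfsg.Agent.Lib.Helper5.ONOut
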