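import Cfsg.Agent.Lib.Helper5.ONOut.D15

/-! # The outer automorphism group of the O'Nan group: the check of the table of the element number 15 (generated) -/

set_option autoImplicit false
set_option maxRecDepth 100000

namespace Cfsg.Agent.Lib.Helper5.ONOut

open Cfsg.Agent.PF Cfsg.Agent.Lib.Helper6 Cfsg.Agent.Lib.Helper6.TC Cfsg.Agent.Lib.Helper6.NatArr Cfsg.Agent.Lib.Helper5
open Cfsg.Agent.PL (Acts evalF)

theorem eq15_0 : allR 0 4911 (fun q => Nat.beq (f15 q) ((fun q => f9 (f11 (f12 (f12 (f9 (f12 (f4 (f12 (f11 (f12 (f0 (f7 (f13 (f8 (f6 (f9 (f13 (f0 (f7 (q)))))))))))))))))))) q)) = true := by decide +kernel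

theorem eq15_1 : allR 4911 4911 (fun q => Nat.beq (f15 q) ((fun q => f9 (f11 (f12 (f12 (f9 (f12 (f4 (f12 (f11 (f12 (f0 (f7 (f13 (f8 (f6 (f9 (f13 (f0 (f7 (q)))))))))))))))))))) q)) = true := by decide +kernel

theorem eq15_2 : allR 9822 4911 (fun q => Nat.beq (f15 q) ((fun q => f9 (f11 (f12 (f12 (f9 (f12 (f4 (f12 (f11 (f12 (f0 (f7 (f13 (f8 (f6 (f9 (f13 (f0 (f7 (q)))))))))))))))))))) q)) = true := by decide +kernel

theorem eq15_3 : allR 14733 4911 (fun q => Nat.beq (f15 q) ((fun q => f9 (f11 (f12 (f12 (f9 (f12 (f4 (f12 (f11 (f12 (f0 (f7 (f13 (f8 (f6 (f9 (f13 (f0 (f7 (q)))))))))))))))))))) q)) = true := by decide +kernel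

theorem eq15_4 : allR 19644 4911 (fun q => Nat.beq (f15 q) ((fun q => f9 (f11 (f12 (f12 (f9 (f12 (f4 (f12 (f11 (f12 (f0 (f7 (f13 (f8 (f6 (f9 (f13 (f0 (f7 (q)))))))))))))))))))) q)) = true := by decide +kernel

theorem eq15_5 : allR 24555 4911 (fun q => Nat.beq (f15 q) ((fun q => f9 (f11 (f12 (f12 (f9 (f12 (f4 (f12 (f11 (f12 (f0 (f7 (f13 (f8 (f6 (f9 (f13 (f0 (f7 (q)))))))))))))))))))) q)) = true := by decide +kernel

theorem eq15_6 : allR 29466 4911 (fun q => Nat.beq (f15 q) ((fun q => f9 (f11 (f12 (f12 (f9 (f12 (f4 (f12 (f11 (f12 (f0 (f7 (f13 (f8 (f6 (f9 (f13 (f0 (f7 (q)))))))))))))))))))) q)) = true := by decide +kernel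

theorem eq15_7 : allR 34377 4911 (fun q => Nat.beq (f15 q) ((fun q => f9 (f11 (f12 (f12 (f9 (f12 (f4 (f12 (f11 (f12 (f0 (f7 (f13 (f8 (f6 (f9 (f13 (f0 (f7 (q)))))))))))))))))))) q)) = true := by decide +kernel

theorem eq15_8 : allR 39288 4911 (fun q => Nat.beq (f15 q) ((fun q => f9 (f11 (f12 (f12 (f9 (f12 (f4 (f12 (f11 (f12 (f0 (f7 (f13 (f8 (f6 (f9 (f13 (f0 (f7 (q)))))))))))))))))))) q)) = true := by decide +kernel

theorem eq15_9 : allR 44199 4911 (fun q => Nat.beq (f15 q) ((fun q => f9 (f11 (f12 (f12 (f9 (f12 (f4 (f12 (f11 (f12 (f0 (f7 (f13 (f8 (f6 (f9 (f13 (f0 (f7 (q)))))))))))))))))))) q)) = true := by decide +kernel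

theorem eq15_10 : allR 49110 4911 (fun q => Nat.beq (f15 q) ((fun q => f9 (f11 (f12 (f12 (f9 (f12 (f4 (f12 (f11 (f12 (f0 (f7 (f13 (f8 (f6 (f9 (f13 (f0 (f7 (q)))))))))))))))))))) q)) = true := by decide +kernel

theorem eq15_11 : allR 54021 4911 (fun q => Nat.beq (f15 q) ((fun q => f9 (f11 (f12 (f12 (f9 (f12 (f4 (f12 (f11 (f12 (f0 (f7 (f13 (f8 (f6 (f9 (f13 (f0 (f7 (q)))))))))))))))))))) q)) = true := by decide +kernel

theorem eq15_12 : allR 58932 4911 (fun q => Nat.beq (f15 q) ((fun q => f9 (f11 (f12 (f12 (f9 (f12 (f4 (f12 (f11 (f12 (f0 (f7 (f13 (f8 (f6 (f9 (f13 (f0 (f7 (q)))))))))))))))))))) q)) = true := by decide +kernel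

theorem eq15_13 : allR 63843 4911 (fun q => Nat.beq (f15 q) ((fun q => f9 (f11 (f12 (f12 (f9 (f12 (f4 (f12 (f11 (f12 (f0 (f7 (f13 (f8 (f6 (f9 (f13 (f0 (f7 (q)))))))))))))))))))) q)) = true := by decide +kernel

theorem eq15_14 : allR 68754 4911 (fun q => Nat.beq (f15 q) ((fun q => f9 (f11 (f12 (f12 (f9 (f12 (f4 (f12 (f11 (f12 (f0 (f7 (f13 (f8 (f6 (f9 (f13 (f0 (f7 (q)))))))))))))))))))) q)) = true := by decide +kernel

theorem eq15_15 : allR 73665 4911 (fun q => Nat.beq (f15 q) ((fun q => f9 (f11 (f12 (f12 (f9 (f12 (f4 (f12 (f11 (f12 (f0 (f7 (f13 (f8 (f6 (f9 (f13 (f0 (f7 (q)))))))))))))))))))) q)) = true := by decide +kernel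

theorem eq15_16 : allR 78576 4911 (fun q => Nat.beq (f15 q) ((fun q => f9 (f11 (f12 (f12 (f9 (f12 (f4 (f12 (f11 (f12 (f0 (f7 (f13 (f8 (f6 (f9 (f13 (f0 (f7 (q)))))))))))))))))))) q)) = true := by decide +kernel

theorem eq15_17 : allR 83487 4911 (fun q => Nat.beq (f15 q) ((fun q => f9 (f11 (f12 (f12 (f9 (f12 (f4 (f12 (f11 (f12 (f0 (f7 (f13 (f8 (f6 (f9 (f13 (f0 (f7 (q)))))))))))))))))))) q)) = true := by decide +kernel

theorem eq15_18 : allR 88398 4911 (fun q => Nat.beq (f15 q) ((fun q => f9 (f11 (f12 (f12 (f9 (f12 (f4 (f12 (f11 (f12 (f0 (f7 (f13 (f8 (f6 (f9 (f13 (f0 (f7 (q)))))))))))))))))))) q)) = true := by decide +kernel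

theorem eq15_19 : allR 93309 4911 (fun q => Nat.beq (f15 q) ((fun q => f9 (f11 (f12 (f12 (f9 (f12 (f4 (f12 (f11 (f12 (f0 (f7 (f13 (f8 (f6 (f9 (f13 (f0 (f7 (q)))))))))))))))))))) q)) = true := by decide +kernel

theorem eq15_20 : allR 98220 4911 (fun q => Nat.beq (f15 q) ((fun q => f9 (f11 (f12 (f12 (f9 (f12 (f4 (f12 (f11 (f12 (f0 (f7 (f13 (f8 (f6 (f9 (f13 (f0 (f7 (q)))))))))))))))))))) q)) = true := by decide +kernel

theorem eq15_21 : allR 103131 4911 (fun q => Nat.beq (f15 q) ((fun q => f9 (f11 (f12 (f12 (f9 (f12 (f4 (f12 (f11 (f12 (f0 (f7 (f13 (f8 (f6 (f9 (f13 (f0 (f7 (q)))))))))))))))))))) q)) = true := by decide +kernel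

theorem eq15_22 : allR 108042 4911 (fun q => Nat.beq (f15 q) ((fun q => f9 (f11 (f12 (f12 (f9 (f12 (f4 (f12 (f11 (f12 (f0 (f7 (f13 (f8 (f6 (f9 (f13 (f0 (f7 (q)))))))))))))))))))) q)) = true := by decide +kernel

theorem eq15_23 : allR 112953 4911 (fun q => Nat.beq (f15 q) ((fun q => f9 (f11 (f12 (f12 (f9 (f12 (f4 (f12 (f11 (f12 (f0 (f7 (f13 (f8 (f6 (f9 (f13 (f0 (f7 (q)))))))))))))))))))) q)) = true := by decide +kernel

theorem eq15_24 : allR 117864 4896 (fun q => Nat.beq (f15 q) ((fun q => f9 (f11 (f12 (f12 (f9 (f12 (f4 (f12 (f11 (f12 (f0 (f7 (f13 (f8 (f6 (f9 (f13 (f0 (f7 (q)))))))))))))))))))) q)) = true := by decide +kernel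


end Cfsg.Agent.Lib.Helper5.ONOut
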