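import Cfsg.Agent.Lib.Helper5.ONOut.D19

/-! # The outer automorphism group of the O'Nan group: the check of the table of the element number 19 (generated) -/

set_option autoImplicit false
set_option maxRecDepth 100000

namespace Cfsg.Agent.Lib.Helper5.ONOut

open Cfsg.Agent.PF Cfsg.Agent.Lib.Helper6 Cfsg.Agent.Lib.Helper6.TC Cfsg.Agent.Lib.Helper6.NatArr Cfsg.Agent.Lib.Helper5
open Cfsg.Agent.PL (Acts evalF)

theorem eq19_0 : allR 0 4092 (fun q => Nat.beq (f19 q) ((fun q => f18 (f18 (f17 (f18 (f17 (f18 (f17 (f18 (f17 (f17 (f18 (f17 (f6 (f1 (f4 (f16 (f1 (f14 (f16 (f8 (f1 (f0 (f11 (q)))))))))))))))))))))))) q)) = true := by decide +kernel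

theorem eq19_1 : allR 4092 4092 (fun q => Nat.beq (f19 q) ((fun q => f18 (f18 (f17 (f18 (f17 (f18 (f17 (f18 (f17 (f17 (f18 (f17 (f6 (f1 (f4 (f16 (f1 (f14 (f16 (f8 (f1 (f0 (f11 (q)))))))))))))))))))))))) q)) = true := by decide +kernel

theorem eq19_2 : allR 8184 4092 (fun q => Nat.beq (f19 q) ((fun q => f18 (f18 (f17 (f18 (f17 (f18 (f17 (f18 (f17 (f17 (f18 (f17 (f6 (f1 (f4 (f16 (f1 (f14 (f16 (f8 (f1 (f0 (f11 (q)))))))))))))))))))))))) q)) = true := by decide +kernel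

theorem eq19_3 : allR 12276 4092 (fun q => Nat.beq (f19 q) ((fun q => f18 (f18 (f17 (f18 (f17 (f18 (f17 (f18 (f17 (f17 (f18 (f17 (f6 (f1 (f4 (f16 (f1 (f14 (f16 (f8 (f1 (f0 (f11 (q)))))))))))))))))))))))) q)) = true := by decide +kernel

theorem eq19_4 : allR 16368 4092 (fun q => Nat.beq (f19 q) ((fun q => f18 (f18 (f17 (f18 (f17 (f18 (f17 (f18 (f17 (f17 (f18 (f17 (f6 (f1 (f4 (f16 (f1 (f14 (f16 (f8 (f1 (f0 (f11 (q)))))))))))))))))))))))) q)) = true := by decide +kernel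

theorem eq19_5 : allR 20460 4092 (fun q => Nat.beq (f19 q) ((fun q => f18 (f18 (f17 (f18 (f17 (f18 (f17 (f18 (f17 (f17 (f18 (f17 (f6 (f1 (f4 (f16 (f1 (f14 (f16 (f8 (f1 (f0 (f11 (q)))))))))))))))))))))))) q)) = true := by decide +kernel

theorem eq19_6 : allR 24552 4092 (fun q => Nat.beq (f19 q) ((fun q => f18 (f18 (f17 (f18 (f17 (f18 (f17 (f18 (f17 (f17 (f18 (f17 (f6 (f1 (f4 (f16 (f1 (f14 (f16 (f8 (f1 (f0 (f11 (q)))))))))))))))))))))))) q)) = true := by decide +kernel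

theorem eq19_7 : allR 28644 4092 (fun q => Nat.beq (f19 q) ((fun q => f18 (f18 (f17 (f18 (f17 (f18 (f17 (f18 (f17 (f17 (f18 (f17 (f6 (f1 (f4 (f16 (f1 (f14 (f16 (f8 (f1 (f0 (f11 (q)))))))))))))))))))))))) q)) = true := by decide +kernel

theorem eq19_8 : allR 32736 4092 (fun q => Nat.beq (f19 q) ((fun q => f18 (f18 (f17 (f18 (f17 (f18 (f17 (f18 (f17 (f17 (f18 (f17 (f6 (f1 (f4 (f16 (f1 (f14 (f16 (f8 (f1 (f0 (f11 (q)))))))))))))))))))))))) q)) = true := by decide +kernel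

theorem eq19_9 : allR 36828 4092 (fun q => Nat.beq (f19 q) ((fun q => f18 (f18 (f17 (f18 (f17 (f18 (f17 (f18 (f17 (f17 (f18 (f17 (f6 (f1 (f4 (f16 (f1 (f14 (f16 (f8 (f1 (f0 (f11 (q)))))))))))))))))))))))) q)) = true := by decide +kernel

theorem eq19_10 : allR 40920 4092 (fun q => Nat.beq (f19 q) ((fun q => f18 (f18 (f17 (f18 (f17 (f18 (f17 (f18 (f17 (f17 (f18 (f17 (f6 (f1 (f4 (f16 (f1 (f14 (f16 (f8 (f1 (f0 (f11 (q)))))))))))))))))))))))) q)) = true := by decide +kernel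

theorem eq19_11 : allR 45012 4092 (fun q => Nat.beq (f19 q) ((fun q => f18 (f18 (f17 (f18 (f17 (f18 (f17 (f18 (f17 (f17 (f18 (f17 (f6 (f1 (f4 (f16 (f1 (f14 (f16 (f8 (f1 (f0 (f11 (q)))))))))))))))))))))))) q)) = true := by decide +kernel

theorem eq19_12 : allR 49104 4092 (fun q => Nat.beq (f19 q) ((fun q => f18 (f18 (f17 (f18 (f17 (f18 (f17 (f18 (f17 (f17 (f18 (f17 (f6 (f1 (f4 (f16 (f1 (f14 (f16 (f8 (f1 (f0 (f11 (q)))))))))))))))))))))))) q)) = true := by decide +kernel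

theorem eq19_13 : allR 53196 4092 (fun q => Nat.beq (f19 q) ((fun q => f18 (f18 (f17 (f18 (f17 (f18 (f17 (f18 (f17 (f17 (f18 (f17 (f6 (f1 (f4 (f16 (f1 (f14 (f16 (f8 (f1 (f0 (f11 (q)))))))))))))))))))))))) q)) = true := by decide +kernel

theorem eq19_14 : allR 57288 4092 (fun q => Nat.beq (f19 q) ((fun q => f18 (f18 (f17 (f18 (f17 (f18 (f17 (f18 (f17 (f17 (f18 (f17 (f6 (f1 (f4 (f16 (f1 (f14 (f16 (f8 (f1 (f0 (f11 (q)))))))))))))))))))))))) q)) = true := by decide +kernel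

theorem eq19_15 : allR 61380 4092 (fun q => Nat.beq (f19 q) ((fun q => f18 (f18 (f17 (f18 (f17 (f18 (f17 (f18 (f17 (f17 (f18 (f17 (f6 (f1 (f4 (f16 (f1 (f14 (f16 (f8 (f1 (f0 (f11 (q)))))))))))))))))))))))) q)) = true := by decide +kernel

theorem eq19_16 : allR 65472 4092 (fun q => Nat.beq (f19 q) ((fun q => f18 (f18 (f17 (f18 (f17 (f18 (f17 (f18 (f17 (f17 (f18 (f17 (f6 (f1 (f4 (f16 (f1 (f14 (f16 (f8 (f1 (f0 (f11 (q)))))))))))))))))))))))) q)) = true := by decide +kernel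

theorem eq19_17 : allR 69564 4092 (fun q => Nat.beq (f19 q) ((fun q => f18 (f18 (f17 (f18 (f17 (f18 (f17 (f18 (f17 (f17 (f18 (f17 (f6 (f1 (f4 (f16 (f1 (f14 (f16 (f8 (f1 (f0 (f11 (q)))))))))))))))))))))))) q)) = true := by decide +kernel

theorem eq19_18 : allR 73656 4092 (fun q => Nat.beq (f19 q) ((fun q => f18 (f18 (f17 (f18 (f17 (f18 (f17 (f18 (f17 (f17 (f18 (f17 (f6 (f1 (f4 (f16 (f1 (f14 (f16 (f8 (f1 (f0 (f11 (q)))))))))))))))))))))))) q)) = true := by decide +kernel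

theorem eq19_19 : allR 77748 4092 (fun q => Nat.beq (f19 q) ((fun q => f18 (f18 (f17 (f18 (f17 (f18 (f17 (f18 (f17 (f17 (f18 (f17 (f6 (f1 (f4 (f16 (f1 (f14 (f16 (f8 (f1 (f0 (f11 (q)))))))))))))))))))))))) q)) = true := by decide +kernel

theorem eq19_20 : allR 81840 4092 (fun q => Nat.beq (f19 q) ((fun q => f18 (f18 (f17 (f18 (f17 (f18 (f17 (f18 (f17 (f17 (f18 (f17 (f6 (f1 (f4 (f16 (f1 (f14 (f16 (f8 (f1 (f0 (f11 (q)))))))))))))))))))))))) q)) = true := by decide +kernel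

theorem eq19_21 : allR 85932 4092 (fun q => Nat.beq (f19 q) ((fun q => f18 (f18 (f17 (f18 (f17 (f18 (f17 (f18 (f17 (f17 (f18 (f17 (f6 (f1 (f4 (f16 (f1 (f14 (f16 (f8 (f1 (f0 (f11 (q)))))))))))))))))))))))) q)) = true := by decide +kernel

theorem eq19_22 : allR 90024 4092 (fun q => Nat.beq (f19 q) ((fun q => f18 (f18 (f17 (f18 (f17 (f18 (f17 (f18 (f17 (f17 (f18 (f17 (f6 (f1 (f4 (f16 (f1 (f14 (f16 (f8 (f1 (f0 (f11 (q)))))))))))))))))))))))) q)) = true := by decide +kernel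

theorem eq19_23 : allR 94116 4092 (fun q => Nat.beq (f19 q) ((fun q => f18 (f18 (f17 (f18 (f17 (f18 (f17 (f18 (f17 (f17 (f18 (f17 (f6 (f1 (f4 (f16 (f1 (f14 (f16 (f8 (f1 (f0 (f11 (q)))))))))))))))))))))))) q)) = true := by decide +kernel

theorem eq19_24 : allR 98208 4092 (fun q => Nat.beq (f19 q) ((fun q => f18 (f18 (f17 (f18 (f17 (f18 (f17 (f18 (f17 (f17 (f18 (f17 (f6 (f1 (f4 (f16 (f1 (f14 (f16 (f8 (f1 (f0 (f11 (q)))))))))))))))))))))))) q)) = true := by decide +kernel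


end Cfsg.Agent.Lib.Helper5.ONOut
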