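import Cfsg.Agent.Lib.Helper5.ONOut.D19

/-! # The outer automorphism group of the O'Nan group: the check of the table of the element number 19 (generated) -/

set_option autoImplicit false
set_option maxRecDepth 100000

namespace Cfsg.Agent.Lib.Helper5.ONOut

open Cfsg.Agent.PF Cfsg.Agent.Lib.Helper6 Cfsg.Agent.Lib.Helper6.TC Cfsg.Agent.Lib.Helper6.NatArr Cfsg.Agent.Lib.Helper5
open Cfsg.Agent.PL (Acts evalF)

theorem eq19_25 : allR 102300 4092 (fun q => Nat.beq (f19 q) ((fun q => f18 (f18 (f17 (f18 (f17 (f18 (f17 (f18 (f17 (f17 (f18 (f17 (f6 (f1 (f4 (f16 (f1 (f14 (f16 (f8 (f1 (f0 (f11 (q)))))))))))))))))))))))) q)) = true := by decide +kernel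

theorem eq19_26 : allR 106392 4092 (fun q => Nat.beq (f19 q) ((fun q => f18 (f18 (f17 (f18 (f17 (f18 (f17 (f18 (f17 (f17 (f18 (f17 (f6 (f1 (f4 (f16 (f1 (f14 (f16 (f8 (f1 (f0 (f11 (q)))))))))))))))))))))))) q)) = true := by decide +kernel

theorem eq19_27 : allR 110484 4092 (fun q => Nat.beq (f19 q) ((fun q => f18 (f18 (f17 (f18 (f17 (f18 (f17 (f18 (f17 (f17 (f18 (f17 (f6 (f1 (f4 (f16 (f1 (f14 (f16 (f8 (f1 (f0 (f11 (q)))))))))))))))))))))))) q)) = true := by decide +kernel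

theorem eq19_28 : allR 114576 4092 (fun q => Nat.beq (f19 q) ((fun q => f18 (f18 (f17 (f18 (f17 (f18 (f17 (f18 (f17 (f17 (f18 (f17 (f6 (f1 (f4 (f16 (f1 (f14 (f16 (f8 (f1 (f0 (f11 (q)))))))))))))))))))))))) q)) = true := by decide +kernel

theorem eq19_29 : allR 118668 4092 (fun q => Nat.beq (f19 q) ((fun q => f18 (f18 (f17 (f18 (f17 (f18 (f17 (f18 (f17 (f17 (f18 (f17 (f6 (f1 (f4 (f16 (f1 (f14 (f16 (f8 (f1 (f0 (f11 (q)))))))))))))))))))))))) q)) = true := by decide +kernel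


end Cfsg.Agent.Lib.Helper5.ONOut
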