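import Cfsg.Agent.Lib.Helper5.ONOut.D20

/-! # The outer automorphism group of the O'Nan group: the check of the table of the element number 20 (generated) -/

set_option autoImplicit false
set_option maxRecDepth 100000

namespace Cfsg.Agent.Lib.Helper5.ONOut

open Cfsg.Agent.PF Cfsg.Agent.Lib.Helper6 Cfsg.Agent.Lib.Helper6.TC Cfsg.Agent.Lib.Helper6.NatArr Cfsg.Agent.Lib.Helper5
open Cfsg.Agent.PL (Acts evalF)

theorem eq20_0 : allR 0 8184 (fun q => Nat.beq (f20 q) ((fun q => f17 (f18 (f17 (f19 (f18 (f18 (f18 (f19 (f17 (f19 (f17 (q)))))))))))) q)) = true := by decide +kernel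

theorem eq20_1 : allR 8184 8184 (fun q => Nat.beq (f20 q) ((fun q => f17 (f18 (f17 (f19 (f18 (f18 (f18 (f19 (f17 (f19 (f17 (q)))))))))))) q)) = true := by decide +kernel

theorem eq20_2 : allR 16368 8184 (fun q => Nat.beq (f20 q) ((fun q => f17 (f18 (f17 (f19 (f18 (f18 (f18 (f19 (f17 (f19 (f17 (q)))))))))))) q)) = true := by decide +kernel

theorem eq20_3 : allR 24552 8184 (fun q => Nat.beq (f20 q) ((fun q => f17 (f18 (f17 (f19 (f18 (f18 (f18 (f19 (f17 (f19 (f17 (q)))))))))))) q)) = true := by decide +kernel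

theorem eq20_4 : allR 32736 8184 (fun q => Nat.beq (f20 q) ((fun q => f17 (f18 (f17 (f19 (f18 (f18 (f18 (f19 (f17 (f19 (f17 (q)))))))))))) q)) = true := by decide +kernel

theorem eq20_5 : allR 40920 8184 (fun q => Nat.beq (f20 q) ((fun q => f17 (f18 (f17 (f19 (f18 (f18 (f18 (f19 (f17 (f19 (f17 (q)))))))))))) q)) = true := by decide +kernel

theorem eq20_6 : allR 49104 8184 (fun q => Nat.beq (f20 q) ((fun q => f17 (f18 (f17 (f19 (f18 (f18 (f18 (f19 (f17 (f19 (f17 (q)))))))))))) q)) = true := by decide +kernel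

theorem eq20_7 : allR 57288 8184 (fun q => Nat.beq (f20 q) ((fun q => f17 (f18 (f17 (f19 (f18 (f18 (f18 (f19 (f17 (f19 (f17 (q)))))))))))) q)) = true := by decide +kernel

theorem eq20_8 : allR 65472 8184 (fun q => Nat.beq (f20 q) ((fun q => f17 (f18 (f17 (f19 (f18 (f18 (f18 (f19 (f17 (f19 (f17 (q)))))))))))) q)) = true := by decide +kernel

theorem eq20_9 : allR 73656 8184 (fun q => Nat.beq (f20 q) ((fun q => f17 (f18 (f17 (f19 (f18 (f18 (f18 (f19 (f17 (f19 (f17 (q)))))))))))) q)) = true := by decide +kernel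

theorem eq20_10 : allR 81840 8184 (fun q => Nat.beq (f20 q) ((fun q => f17 (f18 (f17 (f19 (f18 (f18 (f18 (f19 (f17 (f19 (f17 (q)))))))))))) q)) = true := by decide +kernel

theorem eq20_11 : allR 90024 8184 (fun q => Nat.beq (f20 q) ((fun q => f17 (f18 (f17 (f19 (f18 (f18 (f18 (f19 (f17 (f19 (f17 (q)))))))))))) q)) = true := by decide +kernel

theorem eq20_12 : allR 98208 8184 (fun q => Nat.beq (f20 q) ((fun q => f17 (f18 (f17 (f19 (f18 (f18 (f18 (f19 (f17 (f19 (f17 (q)))))))))))) q)) = true := by decide +kernel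

theorem eq20_13 : allR 106392 8184 (fun q => Nat.beq (f20 q) ((fun q => f17 (f18 (f17 (f19 (f18 (f18 (f18 (f19 (f17 (f19 (f17 (q)))))))))))) q)) = true := by decide +kernel

theorem eq20_14 : allR 114576 8184 (fun q => Nat.beq (f20 q) ((fun q => f17 (f18 (f17 (f19 (f18 (f18 (f18 (f19 (f17 (f19 (f17 (q)))))))))))) q)) = true := by decide +kernel


end Cfsg.Agent.Lib.Helper5.ONOut
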