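import Cfsg.Agent.Lib.Helper5.ONOut.D21

/-! # The outer automorphism group of the O'Nan group: the check of the table of the element number 21 (generated) -/

set_option autoImplicit false
set_option maxRecDepth 100000

namespace Cfsg.Agent.Lib.Helper5.ONOut

open Cfsg.Agent.PF Cfsg.Agent.Lib.Helper6 Cfsg.Agent.Lib.Helper6.TC Cfsg.Agent.Lib.Helper6.NatArr Cfsg.Agent.Lib.Helper5
open Cfsg.Agent.PL (Acts evalF)

theorem eq21_0 : allR 0 4722 (fun q => Nat.beq (f21 q) ((fun q => f17 (f19 (f19 (f20 (f17 (f19 (f18 (f17 (f19 (f17 (f11 (f18 (f8 (f20 (f5 (f10 (f5 (f4 (f16 (f16 (q))))))))))))))))))))) q)) = true := by decide +kernel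

theorem eq21_1 : allR 4722 4722 (fun q => Nat.beq (f21 q) ((fun q => f17 (f19 (f19 (f20 (f17 (f19 (f18 (f17 (f19 (f17 (f11 (f18 (f8 (f20 (f5 (f10 (f5 (f4 (f16 (f16 (q))))))))))))))))))))) q)) = true := by decide +kernel

theorem eq21_2 : allR 9444 4722 (fun q => Nat.beq (f21 q) ((fun q => f17 (f19 (f19 (f20 (f17 (f19 (f18 (f17 (f19 (f17 (f11 (f18 (f8 (f20 (f5 (f10 (f5 (f4 (f16 (f16 (q))))))))))))))))))))) q)) = true := by decide +kernel

theorem eq21_3 : allR 14166 4722 (fun q => Nat.beq (f21 q) ((fun q => f17 (f19 (f19 (f20 (f17 (f19 (f18 (f17 (f19 (f17 (f11 (f18 (f8 (f20 (f5 (f10 (f5 (f4 (f16 (f16 (q))))))))))))))))))))) q)) = true := by decide +kernel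

theorem eq21_4 : allR 18888 4722 (fun q => Nat.beq (f21 q) ((fun q => f17 (f19 (f19 (f20 (f17 (f19 (f18 (f17 (f19 (f17 (f11 (f18 (f8 (f20 (f5 (f10 (f5 (f4 (f16 (f16 (q))))))))))))))))))))) q)) = true := by decide +kernel

theorem eq21_5 : allR 23610 4722 (fun q => Nat.beq (f21 q) ((fun q => f17 (f19 (f19 (f20 (f17 (f19 (f18 (f17 (f19 (f17 (f11 (f18 (f8 (f20 (f5 (f10 (f5 (f4 (f16 (f16 (q))))))))))))))))))))) q)) = true := by decide +kernel

theorem eq21_6 : allR 28332 4722 (fun q => Nat.beq (f21 q) ((fun q => f17 (f19 (f19 (f20 (f17 (f19 (f18 (f17 (f19 (f17 (f11 (f18 (f8 (f20 (f5 (f10 (f5 (f4 (f16 (f16 (q))))))))))))))))))))) q)) = true := by decide +kernel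

theorem eq21_7 : allR 33054 4722 (fun q => Nat.beq (f21 q) ((fun q => f17 (f19 (f19 (f20 (f17 (f19 (f18 (f17 (f19 (f17 (f11 (f18 (f8 (f20 (f5 (f10 (f5 (f4 (f16 (f16 (q))))))))))))))))))))) q)) = true := by decide +kernel

theorem eq21_8 : allR 37776 4722 (fun q => Nat.beq (f21 q) ((fun q => f17 (f19 (f19 (f20 (f17 (f19 (f18 (f17 (f19 (f17 (f11 (f18 (f8 (f20 (f5 (f10 (f5 (f4 (f16 (f16 (q))))))))))))))))))))) q)) = true := by decide +kernel

theorem eq21_9 : allR 42498 4722 (fun q => Nat.beq (f21 q) ((fun q => f17 (f19 (f19 (f20 (f17 (f19 (f18 (f17 (f19 (f17 (f11 (f18 (f8 (f20 (f5 (f10 (f5 (f4 (f16 (f16 (q))))))))))))))))))))) q)) = true := by decide +kernel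

theorem eq21_10 : allR 47220 4722 (fun q => Nat.beq (f21 q) ((fun q => f17 (f19 (f19 (f20 (f17 (f19 (f18 (f17 (f19 (f17 (f11 (f18 (f8 (f20 (f5 (f10 (f5 (f4 (f16 (f16 (q))))))))))))))))))))) q)) = true := by decide +kernel

theorem eq21_11 : allR 51942 4722 (fun q => Nat.beq (f21 q) ((fun q => f17 (f19 (f19 (f20 (f17 (f19 (f18 (f17 (f19 (f17 (f11 (f18 (f8 (f20 (f5 (f10 (f5 (f4 (f16 (f16 (q))))))))))))))))))))) q)) = true := by decide +kernel

theorem eq21_12 : allR 56664 4722 (fun q => Nat.beq (f21 q) ((fun q => f17 (f19 (f19 (f20 (f17 (f19 (f18 (f17 (f19 (f17 (f11 (f18 (f8 (f20 (f5 (f10 (f5 (f4 (f16 (f16 (q))))))))))))))))))))) q)) = true := by decide +kernel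

theorem eq21_13 : allR 61386 4722 (fun q => Nat.beq (f21 q) ((fun q => f17 (f19 (f19 (f20 (f17 (f19 (f18 (f17 (f19 (f17 (f11 (f18 (f8 (f20 (f5 (f10 (f5 (f4 (f16 (f16 (q))))))))))))))))))))) q)) = true := by decide +kernel

theorem eq21_14 : allR 66108 4722 (fun q => Nat.beq (f21 q) ((fun q => f17 (f19 (f19 (f20 (f17 (f19 (f18 (f17 (f19 (f17 (f11 (f18 (f8 (f20 (f5 (f10 (f5 (f4 (f16 (f16 (q))))))))))))))))))))) q)) = true := by decide +kernel

theorem eq21_15 : allR 70830 4722 (fun q => Nat.beq (f21 q) ((fun q => f17 (f19 (f19 (f20 (f17 (f19 (f18 (f17 (f19 (f17 (f11 (f18 (f8 (f20 (f5 (f10 (f5 (f4 (f16 (f16 (q))))))))))))))))))))) q)) = true := by decide +kernel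

theorem eq21_16 : allR 75552 4722 (fun q => Nat.beq (f21 q) ((fun q => f17 (f19 (f19 (f20 (f17 (f19 (f18 (f17 (f19 (f17 (f11 (f18 (f8 (f20 (f5 (f10 (f5 (f4 (f16 (f16 (q))))))))))))))))))))) q)) = true := by decide +kernel

theorem eq21_17 : allR 80274 4722 (fun q => Nat.beq (f21 q) ((fun q => f17 (f19 (f19 (f20 (f17 (f19 (f18 (f17 (f19 (f17 (f11 (f18 (f8 (f20 (f5 (f10 (f5 (f4 (f16 (f16 (q))))))))))))))))))))) q)) = true := by decide +kernel

theorem eq21_18 : allR 84996 4722 (fun q => Nat.beq (f21 q) ((fun q => f17 (f19 (f19 (f20 (f17 (f19 (f18 (f17 (f19 (f17 (f11 (f18 (f8 (f20 (f5 (f10 (f5 (f4 (f16 (f16 (q))))))))))))))))))))) q)) = true := by decide +kernel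

theorem eq21_19 : allR 89718 4722 (fun q => Nat.beq (f21 q) ((fun q => f17 (f19 (f19 (f20 (f17 (f19 (f18 (f17 (f19 (f17 (f11 (f18 (f8 (f20 (f5 (f10 (f5 (f4 (f16 (f16 (q))))))))))))))))))))) q)) = true := by decide +kernel

theorem eq21_20 : allR 94440 4722 (fun q => Nat.beq (f21 q) ((fun q => f17 (f19 (f19 (f20 (f17 (f19 (f18 (f17 (f19 (f17 (f11 (f18 (f8 (f20 (f5 (f10 (f5 (f4 (f16 (f16 (q))))))))))))))))))))) q)) = true := by decide +kernel

theorem eq21_21 : allR 99162 4722 (fun q => Nat.beq (f21 q) ((fun q => f17 (f19 (f19 (f20 (f17 (f19 (f18 (f17 (f19 (f17 (f11 (f18 (f8 (f20 (f5 (f10 (f5 (f4 (f16 (f16 (q))))))))))))))))))))) q)) = true := by decide +kernel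

theorem eq21_22 : allR 103884 4722 (fun q => Nat.beq (f21 q) ((fun q => f17 (f19 (f19 (f20 (f17 (f19 (f18 (f17 (f19 (f17 (f11 (f18 (f8 (f20 (f5 (f10 (f5 (f4 (f16 (f16 (q))))))))))))))))))))) q)) = true := by decide +kernel

theorem eq21_23 : allR 108606 4722 (fun q => Nat.beq (f21 q) ((fun q => f17 (f19 (f19 (f20 (f17 (f19 (f18 (f17 (f19 (f17 (f11 (f18 (f8 (f20 (f5 (f10 (f5 (f4 (f16 (f16 (q))))))))))))))))))))) q)) = true := by decide +kernel

theorem eq21_24 : allR 113328 4722 (fun q => Nat.beq (f21 q) ((fun q => f17 (f19 (f19 (f20 (f17 (f19 (f18 (f17 (f19 (f17 (f11 (f18 (f8 (f20 (f5 (f10 (f5 (f4 (f16 (f16 (q))))))))))))))))))))) q)) = true := by decide +kernel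


end Cfsg.Agent.Lib.Helper5.ONOut
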