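import Cfsg.Agent.Lib.Helper5.ONOut.D21

/-! # The outer automorphism group of the O'Nan group: the check of the table of the element number 21 (generated) -/

set_option autoImplicit false
set_option maxRecDepth 100000

namespace Cfsg.Agent.Lib.Helper5.ONOut

open Cfsg.Agent.PF Cfsg.Agent.Lib.Helper6 Cfsg.Agent.Lib.Helper6.TC Cfsg.Agent.Lib.Helper6.NatArr Cfsg.Agent.Lib.Helper5
open Cfsg.Agent.PL (Acts evalF)

theorem eq21_25 : allR 118050 4710 (fun q => Nat.beq (f21 q) ((fun q => f17 (f19 (f19 (f20 (f17 (f19 (f18 (f17 (f19 (f17 (f11 (f18 (f8 (f20 (f5 (f10 (f5 (f4 (f16 (f16 (q))))))))))))))))))))) q)) = true := by decide +kernel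


end Cfsg.Agent.Lib.Helper5.ONOut
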