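import Cfsg.Agent.Lib.Helper5.ONOut.D22

/-! # The outer automorphism group of the O'Nan group: the check of the table of the element number 22 (generated) -/

set_option autoImplicit false
set_option maxRecDepth 100000

namespace Cfsg.Agent.Lib.Helper5.ONOut

open Cfsg.Agent.PF Cfsg.Agent.Lib.Helper6 Cfsg.Agent.Lib.Helper6.TC Cfsg.Agent.Lib.Helper6.NatArr Cfsg.Agent.Lib.Helper5
open Cfsg.Agent.PL (Acts evalF)

theorem eq22_0 : allR 0 5115 (fun q => Nat.beq (f22 q) ((fun q => f17 (f20 (f18 (f21 (f21 (f17 (f21 (f17 (f8 (f4 (f12 (f18 (f11 (f18 (f11 (f11 (f14 (f5 (q))))))))))))))))))) q)) = true := by decide +kernel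

theorem eq22_1 : allR 5115 5115 (fun q => Nat.beq (f22 q) ((fun q => f17 (f20 (f18 (f21 (f21 (f17 (f21 (f17 (f8 (f4 (f12 (f18 (f11 (f18 (f11 (f11 (f14 (f5 (q))))))))))))))))))) q)) = true := by decide +kernel

theorem eq22_2 : allR 10230 5115 (fun q => Nat.beq (f22 q) ((fun q => f17 (f20 (f18 (f21 (f21 (f17 (f21 (f17 (f8 (f4 (f12 (f18 (f11 (f18 (f11 (f11 (f14 (f5 (q))))))))))))))))))) q)) = true := by decide +kernel

theorem eq22_3 : allR 15345 5115 (fun q => Nat.beq (f22 q) ((fun q => f17 (f20 (f18 (f21 (f21 (f17 (f21 (f17 (f8 (f4 (f12 (f18 (f11 (f18 (f11 (f11 (f14 (f5 (q))))))))))))))))))) q)) = true := by decide +kernel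

theorem eq22_4 : allR 20460 5115 (fun q => Nat.beq (f22 q) ((fun q => f17 (f20 (f18 (f21 (f21 (f17 (f21 (f17 (f8 (f4 (f12 (f18 (f11 (f18 (f11 (f11 (f14 (f5 (q))))))))))))))))))) q)) = true := by decide +kernel

theorem eq22_5 : allR 25575 5115 (fun q => Nat.beq (f22 q) ((fun q => f17 (f20 (f18 (f21 (f21 (f17 (f21 (f17 (f8 (f4 (f12 (f18 (f11 (f18 (f11 (f11 (f14 (f5 (q))))))))))))))))))) q)) = true := by decide +kernel

theorem eq22_6 : allR 30690 5115 (fun q => Nat.beq (f22 q) ((fun q => f17 (f20 (f18 (f21 (f21 (f17 (f21 (f17 (f8 (f4 (f12 (f18 (f11 (f18 (f11 (f11 (f14 (f5 (q))))))))))))))))))) q)) = true := by decide +kernel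

theorem eq22_7 : allR 35805 5115 (fun q => Nat.beq (f22 q) ((fun q => f17 (f20 (f18 (f21 (f21 (f17 (f21 (f17 (f8 (f4 (f12 (f18 (f11 (f18 (f11 (f11 (f14 (f5 (q))))))))))))))))))) q)) = true := by decide +kernel

theorem eq22_8 : allR 40920 5115 (fun q => Nat.beq (f22 q) ((fun q => f17 (f20 (f18 (f21 (f21 (f17 (f21 (f17 (f8 (f4 (f12 (f18 (f11 (f18 (f11 (f11 (f14 (f5 (q))))))))))))))))))) q)) = true := by decide +kernel

theorem eq22_9 : allR 46035 5115 (fun q => Nat.beq (f22 q) ((fun q => f17 (f20 (f18 (f21 (f21 (f17 (f21 (f17 (f8 (f4 (f12 (f18 (f11 (f18 (f11 (f11 (f14 (f5 (q))))))))))))))))))) q)) = true := by decide +kernel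

theorem eq22_10 : allR 51150 5115 (fun q => Nat.beq (f22 q) ((fun q => f17 (f20 (f18 (f21 (f21 (f17 (f21 (f17 (f8 (f4 (f12 (f18 (f11 (f18 (f11 (f11 (f14 (f5 (q))))))))))))))))))) q)) = true := by decide +kernel

theorem eq22_11 : allR 56265 5115 (fun q => Nat.beq (f22 q) ((fun q => f17 (f20 (f18 (f21 (f21 (f17 (f21 (f17 (f8 (f4 (f12 (f18 (f11 (f18 (f11 (f11 (f14 (f5 (q))))))))))))))))))) q)) = true := by decide +kernel

theorem eq22_12 : allR 61380 5115 (fun q => Nat.beq (f22 q) ((fun q => f17 (f20 (f18 (f21 (f21 (f17 (f21 (f17 (f8 (f4 (f12 (f18 (f11 (f18 (f11 (f11 (f14 (f5 (q))))))))))))))))))) q)) = true := by decide +kernel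

theorem eq22_13 : allR 66495 5115 (fun q => Nat.beq (f22 q) ((fun q => f17 (f20 (f18 (f21 (f21 (f17 (f21 (f17 (f8 (f4 (f12 (f18 (f11 (f18 (f11 (f11 (f14 (f5 (q))))))))))))))))))) q)) = true := by decide +kernel

theorem eq22_14 : allR 71610 5115 (fun q => Nat.beq (f22 q) ((fun q => f17 (f20 (f18 (f21 (f21 (f17 (f21 (f17 (f8 (f4 (f12 (f18 (f11 (f18 (f11 (f11 (f14 (f5 (q))))))))))))))))))) q)) = true := by decide +kernel

theorem eq22_15 : allR 76725 5115 (fun q => Nat.beq (f22 q) ((fun q => f17 (f20 (f18 (f21 (f21 (f17 (f21 (f17 (f8 (f4 (f12 (f18 (f11 (f18 (f11 (f11 (f14 (f5 (q))))))))))))))))))) q)) = true := by decide +kernel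

theorem eq22_16 : allR 81840 5115 (fun q => Nat.beq (f22 q) ((fun q => f17 (f20 (f18 (f21 (f21 (f17 (f21 (f17 (f8 (f4 (f12 (f18 (f11 (f18 (f11 (f11 (f14 (f5 (q))))))))))))))))))) q)) = true := by decide +kernel

theorem eq22_17 : allR 86955 5115 (fun q => Nat.beq (f22 q) ((fun q => f17 (f20 (f18 (f21 (f21 (f17 (f21 (f17 (f8 (f4 (f12 (f18 (f11 (f18 (f11 (f11 (f14 (f5 (q))))))))))))))))))) q)) = true := by decide +kernel

theorem eq22_18 : allR 92070 5115 (fun q => Nat.beq (f22 q) ((fun q => f17 (f20 (f18 (f21 (f21 (f17 (f21 (f17 (f8 (f4 (f12 (f18 (f11 (f18 (f11 (f11 (f14 (f5 (q))))))))))))))))))) q)) = true := by decide +kernel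

theorem eq22_19 : allR 97185 5115 (fun q => Nat.beq (f22 q) ((fun q => f17 (f20 (f18 (f21 (f21 (f17 (f21 (f17 (f8 (f4 (f12 (f18 (f11 (f18 (f11 (f11 (f14 (f5 (q))))))))))))))))))) q)) = true := by decide +kernel

theorem eq22_20 : allR 102300 5115 (fun q => Nat.beq (f22 q) ((fun q => f17 (f20 (f18 (f21 (f21 (f17 (f21 (f17 (f8 (f4 (f12 (f18 (f11 (f18 (f11 (f11 (f14 (f5 (q))))))))))))))))))) q)) = true := by decide +kernel

theorem eq22_21 : allR 107415 5115 (fun q => Nat.beq (f22 q) ((fun q => f17 (f20 (f18 (f21 (f21 (f17 (f21 (f17 (f8 (f4 (f12 (f18 (f11 (f18 (f11 (f11 (f14 (f5 (q))))))))))))))))))) q)) = true := by decide +kernel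

theorem eq22_22 : allR 112530 5115 (fun q => Nat.beq (f22 q) ((fun q => f17 (f20 (f18 (f21 (f21 (f17 (f21 (f17 (f8 (f4 (f12 (f18 (f11 (f18 (f11 (f11 (f14 (f5 (q))))))))))))))))))) q)) = true := by decide +kernel

theorem eq22_23 : allR 117645 5115 (fun q => Nat.beq (f22 q) ((fun q => f17 (f20 (f18 (f21 (f21 (f17 (f21 (f17 (f8 (f4 (f12 (f18 (f11 (f18 (f11 (f11 (f14 (f5 (q))))))))))))))))))) q)) = true := by decide +kernel


end Cfsg.Agent.Lib.Helper5.ONOut
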