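import Cfsg.Agent.Lib.Helper5.ONOut.D25

/-! # The outer automorphism group of the O'Nan group: the check of the table of the element number 25 (generated) -/

set_option autoImplicit false
set_option maxRecDepth 100000

namespace Cfsg.Agent.Lib.Helper5.ONOut

open Cfsg.Agent.PF Cfsg.Agent.Lib.Helper6 Cfsg.Agent.Lib.Helper6.TC Cfsg.Agent.Lib.Helper6.NatArr Cfsg.Agent.Lib.Helper5
open Cfsg.Agent.PL (Acts evalF)

theorem eq25_0 : allR 0 5115 (fun q => Nat.beq (f25 q) ((fun q => f16 (f16 (f23 (f8 (f16 (f8 (f8 (f24 (f24 (f8 (f24 (f23 (f16 (f8 (f23 (f8 (f8 (f8 (q))))))))))))))))))) q)) = true := by decide +kernel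

theorem eq25_1 : allR 5115 5115 (fun q => Nat.beq (f25 q) ((fun q => f16 (f16 (f23 (f8 (f16 (f8 (f8 (f24 (f24 (f8 (f24 (f23 (f16 (f8 (f23 (f8 (f8 (f8 (q))))))))))))))))))) q)) = true := by decide +kernel

theorem eq25_2 : allR 10230 5115 (fun q => Nat.beq (f25 q) ((fun q => f16 (f16 (f23 (f8 (f16 (f8 (f8 (f24 (f24 (f8 (f24 (f23 (f16 (f8 (f23 (f8 (f8 (f8 (q))))))))))))))))))) q)) = true := by decide +kernel

theorem eq25_3 : allR 15345 5115 (fun q => Nat.beq (f25 q) ((fun q => f16 (f16 (f23 (f8 (f16 (f8 (f8 (f24 (f24 (f8 (f24 (f23 (f16 (f8 (f23 (f8 (f8 (f8 (q))))))))))))))))))) q)) = true := by decide +kernel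

theorem eq25_4 : allR 20460 5115 (fun q => Nat.beq (f25 q) ((fun q => f16 (f16 (f23 (f8 (f16 (f8 (f8 (f24 (f24 (f8 (f24 (f23 (f16 (f8 (f23 (f8 (f8 (f8 (q))))))))))))))))))) q)) = true := by decide +kernel

theorem eq25_5 : allR 25575 5115 (fun q => Nat.beq (f25 q) ((fun q => f16 (f16 (f23 (f8 (f16 (f8 (f8 (f24 (f24 (f8 (f24 (f23 (f16 (f8 (f23 (f8 (f8 (f8 (q))))))))))))))))))) q)) = true := by decide +kernel

theorem eq25_6 : allR 30690 5115 (fun q => Nat.beq (f25 q) ((fun q => f16 (f16 (f23 (f8 (f16 (f8 (f8 (f24 (f24 (f8 (f24 (f23 (f16 (f8 (f23 (f8 (f8 (f8 (q))))))))))))))))))) q)) = true := by decide +kernel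

theorem eq25_7 : allR 35805 5115 (fun q => Nat.beq (f25 q) ((fun q => f16 (f16 (f23 (f8 (f16 (f8 (f8 (f24 (f24 (f8 (f24 (f23 (f16 (f8 (f23 (f8 (f8 (f8 (q))))))))))))))))))) q)) = true := by decide +kernel

theorem eq25_8 : allR 40920 5115 (fun q => Nat.beq (f25 q) ((fun q => f16 (f16 (f23 (f8 (f16 (f8 (f8 (f24 (f24 (f8 (f24 (f23 (f16 (f8 (f23 (f8 (f8 (f8 (q))))))))))))))))))) q)) = true := by decide +kernel

theorem eq25_9 : allR 46035 5115 (fun q => Nat.beq (f25 q) ((fun q => f16 (f16 (f23 (f8 (f16 (f8 (f8 (f24 (f24 (f8 (f24 (f23 (f16 (f8 (f23 (f8 (f8 (f8 (q))))))))))))))))))) q)) = true := by decide +kernel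

theorem eq25_10 : allR 51150 5115 (fun q => Nat.beq (f25 q) ((fun q => f16 (f16 (f23 (f8 (f16 (f8 (f8 (f24 (f24 (f8 (f24 (f23 (f16 (f8 (f23 (f8 (f8 (f8 (q))))))))))))))))))) q)) = true := by decide +kernel

theorem eq25_11 : allR 56265 5115 (fun q => Nat.beq (f25 q) ((fun q => f16 (f16 (f23 (f8 (f16 (f8 (f8 (f24 (f24 (f8 (f24 (f23 (f16 (f8 (f23 (f8 (f8 (f8 (q))))))))))))))))))) q)) = true := by decide +kernel

theorem eq25_12 : allR 61380 5115 (fun q => Nat.beq (f25 q) ((fun q => f16 (f16 (f23 (f8 (f16 (f8 (f8 (f24 (f24 (f8 (f24 (f23 (f16 (f8 (f23 (f8 (f8 (f8 (q))))))))))))))))))) q)) = true := by decide +kernel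

theorem eq25_13 : allR 66495 5115 (fun q => Nat.beq (f25 q) ((fun q => f16 (f16 (f23 (f8 (f16 (f8 (f8 (f24 (f24 (f8 (f24 (f23 (f16 (f8 (f23 (f8 (f8 (f8 (q))))))))))))))))))) q)) = true := by decide +kernel

theorem eq25_14 : allR 71610 5115 (fun q => Nat.beq (f25 q) ((fun q => f16 (f16 (f23 (f8 (f16 (f8 (f8 (f24 (f24 (f8 (f24 (f23 (f16 (f8 (f23 (f8 (f8 (f8 (q))))))))))))))))))) q)) = true := by decide +kernel

theorem eq25_15 : allR 76725 5115 (fun q => Nat.beq (f25 q) ((fun q => f16 (f16 (f23 (f8 (f16 (f8 (f8 (f24 (f24 (f8 (f24 (f23 (f16 (f8 (f23 (f8 (f8 (f8 (q))))))))))))))))))) q)) = true := by decide +kernel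

theorem eq25_16 : allR 81840 5115 (fun q => Nat.beq (f25 q) ((fun q => f16 (f16 (f23 (f8 (f16 (f8 (f8 (f24 (f24 (f8 (f24 (f23 (f16 (f8 (f23 (f8 (f8 (f8 (q))))))))))))))))))) q)) = true := by decide +kernel

theorem eq25_17 : allR 86955 5115 (fun q => Nat.beq (f25 q) ((fun q => f16 (f16 (f23 (f8 (f16 (f8 (f8 (f24 (f24 (f8 (f24 (f23 (f16 (f8 (f23 (f8 (f8 (f8 (q))))))))))))))))))) q)) = true := by decide +kernel

theorem eq25_18 : allR 92070 5115 (fun q => Nat.beq (f25 q) ((fun q => f16 (f16 (f23 (f8 (f16 (f8 (f8 (f24 (f24 (f8 (f24 (f23 (f16 (f8 (f23 (f8 (f8 (f8 (q))))))))))))))))))) q)) = true := by decide +kernel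

theorem eq25_19 : allR 97185 5115 (fun q => Nat.beq (f25 q) ((fun q => f16 (f16 (f23 (f8 (f16 (f8 (f8 (f24 (f24 (f8 (f24 (f23 (f16 (f8 (f23 (f8 (f8 (f8 (q))))))))))))))))))) q)) = true := by decide +kernel

theorem eq25_20 : allR 102300 5115 (fun q => Nat.beq (f25 q) ((fun q => f16 (f16 (f23 (f8 (f16 (f8 (f8 (f24 (f24 (f8 (f24 (f23 (f16 (f8 (f23 (f8 (f8 (f8 (q))))))))))))))))))) q)) = true := by decide +kernel

theorem eq25_21 : allR 107415 5115 (fun q => Nat.beq (f25 q) ((fun q => f16 (f16 (f23 (f8 (f16 (f8 (f8 (f24 (f24 (f8 (f24 (f23 (f16 (f8 (f23 (f8 (f8 (f8 (q))))))))))))))))))) q)) = true := by decide +kernel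

theorem eq25_22 : allR 112530 5115 (fun q => Nat.beq (f25 q) ((fun q => f16 (f16 (f23 (f8 (f16 (f8 (f8 (f24 (f24 (f8 (f24 (f23 (f16 (f8 (f23 (f8 (f8 (f8 (q))))))))))))))))))) q)) = true := by decide +kernel

theorem eq25_23 : allR 117645 5115 (fun q => Nat.beq (f25 q) ((fun q => f16 (f16 (f23 (f8 (f16 (f8 (f8 (f24 (f24 (f8 (f24 (f23 (f16 (f8 (f23 (f8 (f8 (f8 (q))))))))))))))))))) q)) = true := by decide +kernel


end Cfsg.Agent.Lib.Helper5.ONOut
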