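import Cfsg.Agent.Lib.Helper5.ONOut.D26

/-! # The outer automorphism group of the O'Nan group: the check of the table of the element number 26 (generated) -/

set_option autoImplicit false
set_option maxRecDepth 100000

namespace Cfsg.Agent.Lib.Helper5.ONOut

open Cfsg.Agent.PF Cfsg.Agent.Lib.Helper6 Cfsg.Agent.Lib.Helper6.TC Cfsg.Agent.Lib.Helper6.NatArr Cfsg.Agent.Lib.Helper5
open Cfsg.Agent.PL (Acts evalF)

theorem eq26_0 : allR 0 2923 (fun q => Nat.beq (f26 q) ((fun q => f24 (f24 (f24 (f24 (f25 (f24 (f25 (f24 (f25 (f24 (f25 (f24 (f25 (f24 (f24 (f25 (f23 (f25 (f24 (f23 (f25 (f23 (f16 (f8 (f24 (f16 (f24 (f8 (f25 (f16 (f24 (f24 (f25 (q)))))))))))))))))))))))))))))))))) q)) = true := by decide +kernel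

theorem eq26_1 : allR 2923 2923 (fun q => Nat.beq (f26 q) ((fun q => f24 (f24 (f24 (f24 (f25 (f24 (f25 (f24 (f25 (f24 (f25 (f24 (f25 (f24 (f24 (f25 (f23 (f25 (f24 (f23 (f25 (f23 (f16 (f8 (f24 (f16 (f24 (f8 (f25 (f16 (f24 (f24 (f25 (q)))))))))))))))))))))))))))))))))) q)) = true := by decide +kernel

theorem eq26_2 : allR 5846 2923 (fun q => Nat.beq (f26 q) ((fun q => f24 (f24 (f24 (f24 (f25 (f24 (f25 (f24 (f25 (f24 (f25 (f24 (f25 (f24 (f24 (f25 (f23 (f25 (f24 (f23 (f25 (f23 (f16 (f8 (f24 (f16 (f24 (f8 (f25 (f16 (f24 (f24 (f25 (q)))))))))))))))))))))))))))))))))) q)) = true := by decide +kernel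

theorem eq26_3 : allR 8769 2923 (fun q => Nat.beq (f26 q) ((fun q => f24 (f24 (f24 (f24 (f25 (f24 (f25 (f24 (f25 (f24 (f25 (f24 (f25 (f24 (f24 (f25 (f23 (f25 (f24 (f23 (f25 (f23 (f16 (f8 (f24 (f16 (f24 (f8 (f25 (f16 (f24 (f24 (f25 (q)))))))))))))))))))))))))))))))))) q)) = true := by decide +kernel

theorem eq26_4 : allR 11692 2923 (fun q => Nat.beq (f26 q) ((fun q => f24 (f24 (f24 (f24 (f25 (f24 (f25 (f24 (f25 (f24 (f25 (f24 (f25 (f24 (f24 (f25 (f23 (f25 (f24 (f23 (f25 (f23 (f16 (f8 (f24 (f16 (f24 (f8 (f25 (f16 (f24 (f24 (f25 (q)))))))))))))))))))))))))))))))))) q)) = true := by decide +kernel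

theorem eq26_5 : allR 14615 2923 (fun q => Nat.beq (f26 q) ((fun q => f24 (f24 (f24 (f24 (f25 (f24 (f25 (f24 (f25 (f24 (f25 (f24 (f25 (f24 (f24 (f25 (f23 (f25 (f24 (f23 (f25 (f23 (f16 (f8 (f24 (f16 (f24 (f8 (f25 (f16 (f24 (f24 (f25 (q)))))))))))))))))))))))))))))))))) q)) = true := by decide +kernel

theorem eq26_6 : allR 17538 2923 (fun q => Nat.beq (f26 q) ((fun q => f24 (f24 (f24 (f24 (f25 (f24 (f25 (f24 (f25 (f24 (f25 (f24 (f25 (f24 (f24 (f25 (f23 (f25 (f24 (f23 (f25 (f23 (f16 (f8 (f24 (f16 (f24 (f8 (f25 (f16 (f24 (f24 (f25 (q)))))))))))))))))))))))))))))))))) q)) = true := by decide +kernel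

theorem eq26_7 : allR 20461 2923 (fun q => Nat.beq (f26 q) ((fun q => f24 (f24 (f24 (f24 (f25 (f24 (f25 (f24 (f25 (f24 (f25 (f24 (f25 (f24 (f24 (f25 (f23 (f25 (f24 (f23 (f25 (f23 (f16 (f8 (f24 (f16 (f24 (f8 (f25 (f16 (f24 (f24 (f25 (q)))))))))))))))))))))))))))))))))) q)) = true := by decide +kernel

theorem eq26_8 : allR 23384 2923 (fun q => Nat.beq (f26 q) ((fun q => f24 (f24 (f24 (f24 (f25 (f24 (f25 (f24 (f25 (f24 (f25 (f24 (f25 (f24 (f24 (f25 (f23 (f25 (f24 (f23 (f25 (f23 (f16 (f8 (f24 (f16 (f24 (f8 (f25 (f16 (f24 (f24 (f25 (q)))))))))))))))))))))))))))))))))) q)) = true := by decide +kernel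

theorem eq26_9 : allR 26307 2923 (fun q => Nat.beq (f26 q) ((fun q => f24 (f24 (f24 (f24 (f25 (f24 (f25 (f24 (f25 (f24 (f25 (f24 (f25 (f24 (f24 (f25 (f23 (f25 (f24 (f23 (f25 (f23 (f16 (f8 (f24 (f16 (f24 (f8 (f25 (f16 (f24 (f24 (f25 (q)))))))))))))))))))))))))))))))))) q)) = true := by decide +kernel

theorem eq26_10 : allR 29230 2923 (fun q => Nat.beq (f26 q) ((fun q => f24 (f24 (f24 (f24 (f25 (f24 (f25 (f24 (f25 (f24 (f25 (f24 (f25 (f24 (f24 (f25 (f23 (f25 (f24 (f23 (f25 (f23 (f16 (f8 (f24 (f16 (f24 (f8 (f25 (f16 (f24 (f24 (f25 (q)))))))))))))))))))))))))))))))))) q)) = true := by decide +kernel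

theorem eq26_11 : allR 32153 2923 (fun q => Nat.beq (f26 q) ((fun q => f24 (f24 (f24 (f24 (f25 (f24 (f25 (f24 (f25 (f24 (f25 (f24 (f25 (f24 (f24 (f25 (f23 (f25 (f24 (f23 (f25 (f23 (f16 (f8 (f24 (f16 (f24 (f8 (f25 (f16 (f24 (f24 (f25 (q)))))))))))))))))))))))))))))))))) q)) = true := by decide +kernel

theorem eq26_12 : allR 35076 2923 (fun q => Nat.beq (f26 q) ((fun q => f24 (f24 (f24 (f24 (f25 (f24 (f25 (f24 (f25 (f24 (f25 (f24 (f25 (f24 (f24 (f25 (f23 (f25 (f24 (f23 (f25 (f23 (f16 (f8 (f24 (f16 (f24 (f8 (f25 (f16 (f24 (f24 (f25 (q)))))))))))))))))))))))))))))))))) q)) = true := by decide +kernel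

theorem eq26_13 : allR 37999 2923 (fun q => Nat.beq (f26 q) ((fun q => f24 (f24 (f24 (f24 (f25 (f24 (f25 (f24 (f25 (f24 (f25 (f24 (f25 (f24 (f24 (f25 (f23 (f25 (f24 (f23 (f25 (f23 (f16 (f8 (f24 (f16 (f24 (f8 (f25 (f16 (f24 (f24 (f25 (q)))))))))))))))))))))))))))))))))) q)) = true := by decide +kernel

theorem eq26_14 : allR 40922 2923 (fun q => Nat.beq (f26 q) ((fun q => f24 (f24 (f24 (f24 (f25 (f24 (f25 (f24 (f25 (f24 (f25 (f24 (f25 (f24 (f24 (f25 (f23 (f25 (f24 (f23 (f25 (f23 (f16 (f8 (f24 (f16 (f24 (f8 (f25 (f16 (f24 (f24 (f25 (q)))))))))))))))))))))))))))))))))) q)) = true := by decide +kernel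

theorem eq26_15 : allR 43845 2923 (fun q => Nat.beq (f26 q) ((fun q => f24 (f24 (f24 (f24 (f25 (f24 (f25 (f24 (f25 (f24 (f25 (f24 (f25 (f24 (f24 (f25 (f23 (f25 (f24 (f23 (f25 (f23 (f16 (f8 (f24 (f16 (f24 (f8 (f25 (f16 (f24 (f24 (f25 (q)))))))))))))))))))))))))))))))))) q)) = true := by decide +kernel

theorem eq26_16 : allR 46768 2923 (fun q => Nat.beq (f26 q) ((fun q => f24 (f24 (f24 (f24 (f25 (f24 (f25 (f24 (f25 (f24 (f25 (f24 (f25 (f24 (f24 (f25 (f23 (f25 (f24 (f23 (f25 (f23 (f16 (f8 (f24 (f16 (f24 (f8 (f25 (f16 (f24 (f24 (f25 (q)))))))))))))))))))))))))))))))))) q)) = true := by decide +kernel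

theorem eq26_17 : allR 49691 2923 (fun q => Nat.beq (f26 q) ((fun q => f24 (f24 (f24 (f24 (f25 (f24 (f25 (f24 (f25 (f24 (f25 (f24 (f25 (f24 (f24 (f25 (f23 (f25 (f24 (f23 (f25 (f23 (f16 (f8 (f24 (f16 (f24 (f8 (f25 (f16 (f24 (f24 (f25 (q)))))))))))))))))))))))))))))))))) q)) = true := by decide +kernel

theorem eq26_18 : allR 52614 2923 (fun q => Nat.beq (f26 q) ((fun q => f24 (f24 (f24 (f24 (f25 (f24 (f25 (f24 (f25 (f24 (f25 (f24 (f25 (f24 (f24 (f25 (f23 (f25 (f24 (f23 (f25 (f23 (f16 (f8 (f24 (f16 (f24 (f8 (f25 (f16 (f24 (f24 (f25 (q)))))))))))))))))))))))))))))))))) q)) = true := by decide +kernel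

theorem eq26_19 : allR 55537 2923 (fun q => Nat.beq (f26 q) ((fun q => f24 (f24 (f24 (f24 (f25 (f24 (f25 (f24 (f25 (f24 (f25 (f24 (f25 (f24 (f24 (f25 (f23 (f25 (f24 (f23 (f25 (f23 (f16 (f8 (f24 (f16 (f24 (f8 (f25 (f16 (f24 (f24 (f25 (q)))))))))))))))))))))))))))))))))) q)) = true := by decide +kernel

theorem eq26_20 : allR 58460 2923 (fun q => Nat.beq (f26 q) ((fun q => f24 (f24 (f24 (f24 (f25 (f24 (f25 (f24 (f25 (f24 (f25 (f24 (f25 (f24 (f24 (f25 (f23 (f25 (f24 (f23 (f25 (f23 (f16 (f8 (f24 (f16 (f24 (f8 (f25 (f16 (f24 (f24 (f25 (q)))))))))))))))))))))))))))))))))) q)) = true := by decide +kernel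

theorem eq26_21 : allR 61383 2923 (fun q => Nat.beq (f26 q) ((fun q => f24 (f24 (f24 (f24 (f25 (f24 (f25 (f24 (f25 (f24 (f25 (f24 (f25 (f24 (f24 (f25 (f23 (f25 (f24 (f23 (f25 (f23 (f16 (f8 (f24 (f16 (f24 (f8 (f25 (f16 (f24 (f24 (f25 (q)))))))))))))))))))))))))))))))))) q)) = true := by decide +kernel

theorem eq26_22 : allR 64306 2923 (fun q => Nat.beq (f26 q) ((fun q => f24 (f24 (f24 (f24 (f25 (f24 (f25 (f24 (f25 (f24 (f25 (f24 (f25 (f24 (f24 (f25 (f23 (f25 (f24 (f23 (f25 (f23 (f16 (f8 (f24 (f16 (f24 (f8 (f25 (f16 (f24 (f24 (f25 (q)))))))))))))))))))))))))))))))))) q)) = true := by decide +kernel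

theorem eq26_23 : allR 67229 2923 (fun q => Nat.beq (f26 q) ((fun q => f24 (f24 (f24 (f24 (f25 (f24 (f25 (f24 (f25 (f24 (f25 (f24 (f25 (f24 (f24 (f25 (f23 (f25 (f24 (f23 (f25 (f23 (f16 (f8 (f24 (f16 (f24 (f8 (f25 (f16 (f24 (f24 (f25 (q)))))))))))))))))))))))))))))))))) q)) = true := by decide +kernel

theorem eq26_24 : allR 70152 2923 (fun q => Nat.beq (f26 q) ((fun q => f24 (f24 (f24 (f24 (f25 (f24 (f25 (f24 (f25 (f24 (f25 (f24 (f25 (f24 (f24 (f25 (f23 (f25 (f24 (f23 (f25 (f23 (f16 (f8 (f24 (f16 (f24 (f8 (f25 (f16 (f24 (f24 (f25 (q)))))))))))))))))))))))))))))))))) q)) = true := by decide +kernel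


end Cfsg.Agent.Lib.Helper5.ONOut
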