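import Cfsg.Agent.Lib.Helper5.ONOut.D26

/-! # The outer automorphism group of the O'Nan group: the check of the table of the element number 26 (generated) -/

set_option autoImplicit false
set_option maxRecDepth 100000

namespace Cfsg.Agent.Lib.Helper5.ONOut

open Cfsg.Agent.PF Cfsg.Agent.Lib.Helper6 Cfsg.Agent.Lib.Helper6.TC Cfsg.Agent.Lib.Helper6.NatArr Cfsg.Agent.Lib.Helper5
open Cfsg.Agent.PL (Acts evalF)

theorem eq26_25 : allR 73075 2923 (fun q => Nat.beq (f26 q) ((fun q => f24 (f24 (f24 (f24 (f25 (f24 (f25 (f24 (f25 (f24 (f25 (f24 (f25 (f24 (f24 (f25 (f23 (f25 (f24 (f23 (f25 (f23 (f16 (f8 (f24 (f16 (f24 (f8 (f25 (f16 (f24 (f24 (f25 (q)))))))))))))))))))))))))))))))))) q)) = true := by decide +kernel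

theorem eq26_26 : allR 75998 2923 (fun q => Nat.beq (f26 q) ((fun q => f24 (f24 (f24 (f24 (f25 (f24 (f25 (f24 (f25 (f24 (f25 (f24 (f25 (f24 (f24 (f25 (f23 (f25 (f24 (f23 (f25 (f23 (f16 (f8 (f24 (f16 (f24 (f8 (f25 (f16 (f24 (f24 (f25 (q)))))))))))))))))))))))))))))))))) q)) = true := by decide +kernel

theorem eq26_27 : allR 78921 2923 (fun q => Nat.beq (f26 q) ((fun q => f24 (f24 (f24 (f24 (f25 (f24 (f25 (f24 (f25 (f24 (f25 (f24 (f25 (f24 (f24 (f25 (f23 (f25 (f24 (f23 (f25 (f23 (f16 (f8 (f24 (f16 (f24 (f8 (f25 (f16 (f24 (f24 (f25 (q)))))))))))))))))))))))))))))))))) q)) = true := by decide +kernel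

theorem eq26_28 : allR 81844 2923 (fun q => Nat.beq (f26 q) ((fun q => f24 (f24 (f24 (f24 (f25 (f24 (f25 (f24 (f25 (f24 (f25 (f24 (f25 (f24 (f24 (f25 (f23 (f25 (f24 (f23 (f25 (f23 (f16 (f8 (f24 (f16 (f24 (f8 (f25 (f16 (f24 (f24 (f25 (q)))))))))))))))))))))))))))))))))) q)) = true := by decide +kernel

theorem eq26_29 : allR 84767 2923 (fun q => Nat.beq (f26 q) ((fun q => f24 (f24 (f24 (f24 (f25 (f24 (f25 (f24 (f25 (f24 (f25 (f24 (f25 (f24 (f24 (f25 (f23 (f25 (f24 (f23 (f25 (f23 (f16 (f8 (f24 (f16 (f24 (f8 (f25 (f16 (f24 (f24 (f25 (q)))))))))))))))))))))))))))))))))) q)) = true := by decide +kernel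

theorem eq26_30 : allR 87690 2923 (fun q => Nat.beq (f26 q) ((fun q => f24 (f24 (f24 (f24 (f25 (f24 (f25 (f24 (f25 (f24 (f25 (f24 (f25 (f24 (f24 (f25 (f23 (f25 (f24 (f23 (f25 (f23 (f16 (f8 (f24 (f16 (f24 (f8 (f25 (f16 (f24 (f24 (f25 (q)))))))))))))))))))))))))))))))))) q)) = true := by decide +kernel

theorem eq26_31 : allR 90613 2923 (fun q => Nat.beq (f26 q) ((fun q => f24 (f24 (f24 (f24 (f25 (f24 (f25 (f24 (f25 (f24 (f25 (f24 (f25 (f24 (f24 (f25 (f23 (f25 (f24 (f23 (f25 (f23 (f16 (f8 (f24 (f16 (f24 (f8 (f25 (f16 (f24 (f24 (f25 (q)))))))))))))))))))))))))))))))))) q)) = true := by decide +kernel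

theorem eq26_32 : allR 93536 2923 (fun q => Nat.beq (f26 q) ((fun q => f24 (f24 (f24 (f24 (f25 (f24 (f25 (f24 (f25 (f24 (f25 (f24 (f25 (f24 (f24 (f25 (f23 (f25 (f24 (f23 (f25 (f23 (f16 (f8 (f24 (f16 (f24 (f8 (f25 (f16 (f24 (f24 (f25 (q)))))))))))))))))))))))))))))))))) q)) = true := by decide +kernel

theorem eq26_33 : allR 96459 2923 (fun q => Nat.beq (f26 q) ((fun q => f24 (f24 (f24 (f24 (f25 (f24 (f25 (f24 (f25 (f24 (f25 (f24 (f25 (f24 (f24 (f25 (f23 (f25 (f24 (f23 (f25 (f23 (f16 (f8 (f24 (f16 (f24 (f8 (f25 (f16 (f24 (f24 (f25 (q)))))))))))))))))))))))))))))))))) q)) = true := by decide +kernel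

theorem eq26_34 : allR 99382 2923 (fun q => Nat.beq (f26 q) ((fun q => f24 (f24 (f24 (f24 (f25 (f24 (f25 (f24 (f25 (f24 (f25 (f24 (f25 (f24 (f24 (f25 (f23 (f25 (f24 (f23 (f25 (f23 (f16 (f8 (f24 (f16 (f24 (f8 (f25 (f16 (f24 (f24 (f25 (q)))))))))))))))))))))))))))))))))) q)) = true := by decide +kernel

theorem eq26_35 : allR 102305 2923 (fun q => Nat.beq (f26 q) ((fun q => f24 (f24 (f24 (f24 (f25 (f24 (f25 (f24 (f25 (f24 (f25 (f24 (f25 (f24 (f24 (f25 (f23 (f25 (f24 (f23 (f25 (f23 (f16 (f8 (f24 (f16 (f24 (f8 (f25 (f16 (f24 (f24 (f25 (q)))))))))))))))))))))))))))))))))) q)) = true := by decide +kernel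

theorem eq26_36 : allR 105228 2923 (fun q => Nat.beq (f26 q) ((fun q => f24 (f24 (f24 (f24 (f25 (f24 (f25 (f24 (f25 (f24 (f25 (f24 (f25 (f24 (f24 (f25 (f23 (f25 (f24 (f23 (f25 (f23 (f16 (f8 (f24 (f16 (f24 (f8 (f25 (f16 (f24 (f24 (f25 (q)))))))))))))))))))))))))))))))))) q)) = true := by decide +kernel

theorem eq26_37 : allR 108151 2923 (fun q => Nat.beq (f26 q) ((fun q => f24 (f24 (f24 (f24 (f25 (f24 (f25 (f24 (f25 (f24 (f25 (f24 (f25 (f24 (f24 (f25 (f23 (f25 (f24 (f23 (f25 (f23 (f16 (f8 (f24 (f16 (f24 (f8 (f25 (f16 (f24 (f24 (f25 (q)))))))))))))))))))))))))))))))))) q)) = true := by decide +kernel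

theorem eq26_38 : allR 111074 2923 (fun q => Nat.beq (f26 q) ((fun q => f24 (f24 (f24 (f24 (f25 (f24 (f25 (f24 (f25 (f24 (f25 (f24 (f25 (f24 (f24 (f25 (f23 (f25 (f24 (f23 (f25 (f23 (f16 (f8 (f24 (f16 (f24 (f8 (f25 (f16 (f24 (f24 (f25 (q)))))))))))))))))))))))))))))))))) q)) = true := by decide +kernel

theorem eq26_39 : allR 113997 2923 (fun q => Nat.beq (f26 q) ((fun q => f24 (f24 (f24 (f24 (f25 (f24 (f25 (f24 (f25 (f24 (f25 (f24 (f25 (f24 (f24 (f25 (f23 (f25 (f24 (f23 (f25 (f23 (f16 (f8 (f24 (f16 (f24 (f8 (f25 (f16 (f24 (f24 (f25 (q)))))))))))))))))))))))))))))))))) q)) = true := by decide +kernel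

theorem eq26_40 : allR 116920 2923 (fun q => Nat.beq (f26 q) ((fun q => f24 (f24 (f24 (f24 (f25 (f24 (f25 (f24 (f25 (f24 (f25 (f24 (f25 (f24 (f24 (f25 (f23 (f25 (f24 (f23 (f25 (f23 (f16 (f8 (f24 (f16 (f24 (f8 (f25 (f16 (f24 (f24 (f25 (q)))))))))))))))))))))))))))))))))) q)) = true := by decide +kernel

theorem eq26_41 : allR 119843 2917 (fun q => Nat.beq (f26 q) ((fun q => f24 (f24 (f24 (f24 (f25 (f24 (f25 (f24 (f25 (f24 (f25 (f24 (f25 (f24 (f24 (f25 (f23 (f25 (f24 (f23 (f25 (f23 (f16 (f8 (f24 (f16 (f24 (f8 (f25 (f16 (f24 (f24 (f25 (q)))))))))))))))))))))))))))))))))) q)) = true := by decide +kernel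


end Cfsg.Agent.Lib.Helper5.ONOut
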