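import Cfsg.Agent.Lib.Helper5.ONOut.D27

/-! # The outer automorphism group of the O'Nan group: the check of the table of the element number 27 (generated) -/

set_option autoImplicit false
set_option maxRecDepth 100000

namespace Cfsg.Agent.Lib.Helper5.ONOut

open Cfsg.Agent.PF Cfsg.Agent.Lib.Helper6 Cfsg.Agent.Lib.Helper6.TC Cfsg.Agent.Lib.Helper6.NatArr Cfsg.Agent.Lib.Helper5
open Cfsg.Agent.PL (Acts evalF)

theorem eq27_0 : allR 0 3508 (fun q => Nat.beq (f27 q) ((fun q => f25 (f24 (f25 (f26 (f26 (f26 (f26 (f25 (f24 (f26 (f8 (f26 (f23 (f26 (f16 (f23 (f16 (f26 (f16 (f24 (f23 (f8 (f24 (f25 (f26 (f8 (f16 (q)))))))))))))))))))))))))))) q)) = true := by decide +kernel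

theorem eq27_1 : allR 3508 3508 (fun q => Nat.beq (f27 q) ((fun q => f25 (f24 (f25 (f26 (f26 (f26 (f26 (f25 (f24 (f26 (f8 (f26 (f23 (f26 (f16 (f23 (f16 (f26 (f16 (f24 (f23 (f8 (f24 (f25 (f26 (f8 (f16 (q)))))))))))))))))))))))))))) q)) = true := by decide +kernel

theorem eq27_2 : allR 7016 3508 (fun q => Nat.beq (f27 q) ((fun q => f25 (f24 (f25 (f26 (f26 (f26 (f26 (f25 (f24 (f26 (f8 (f26 (f23 (f26 (f16 (f23 (f16 (f26 (f16 (f24 (f23 (f8 (f24 (f25 (f26 (f8 (f16 (q)))))))))))))))))))))))))))) q)) = true := by decide +kernel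

theorem eq27_3 : allR 10524 3508 (fun q => Nat.beq (f27 q) ((fun q => f25 (f24 (f25 (f26 (f26 (f26 (f26 (f25 (f24 (f26 (f8 (f26 (f23 (f26 (f16 (f23 (f16 (f26 (f16 (f24 (f23 (f8 (f24 (f25 (f26 (f8 (f16 (q)))))))))))))))))))))))))))) q)) = true := by decide +kernel

theorem eq27_4 : allR 14032 3508 (fun q => Nat.beq (f27 q) ((fun q => f25 (f24 (f25 (f26 (f26 (f26 (f26 (f25 (f24 (f26 (f8 (f26 (f23 (f26 (f16 (f23 (f16 (f26 (f16 (f24 (f23 (f8 (f24 (f25 (f26 (f8 (f16 (q)))))))))))))))))))))))))))) q)) = true := by decide +kernel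

theorem eq27_5 : allR 17540 3508 (fun q => Nat.beq (f27 q) ((fun q => f25 (f24 (f25 (f26 (f26 (f26 (f26 (f25 (f24 (f26 (f8 (f26 (f23 (f26 (f16 (f23 (f16 (f26 (f16 (f24 (f23 (f8 (f24 (f25 (f26 (f8 (f16 (q)))))))))))))))))))))))))))) q)) = true := by decide +kernel

theorem eq27_6 : allR 21048 3508 (fun q => Nat.beq (f27 q) ((fun q => f25 (f24 (f25 (f26 (f26 (f26 (f26 (f25 (f24 (f26 (f8 (f26 (f23 (f26 (f16 (f23 (f16 (f26 (f16 (f24 (f23 (f8 (f24 (f25 (f26 (f8 (f16 (q)))))))))))))))))))))))))))) q)) = true := by decide +kernel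

theorem eq27_7 : allR 24556 3508 (fun q => Nat.beq (f27 q) ((fun q => f25 (f24 (f25 (f26 (f26 (f26 (f26 (f25 (f24 (f26 (f8 (f26 (f23 (f26 (f16 (f23 (f16 (f26 (f16 (f24 (f23 (f8 (f24 (f25 (f26 (f8 (f16 (q)))))))))))))))))))))))))))) q)) = true := by decide +kernel

theorem eq27_8 : allR 28064 3508 (fun q => Nat.beq (f27 q) ((fun q => f25 (f24 (f25 (f26 (f26 (f26 (f26 (f25 (f24 (f26 (f8 (f26 (f23 (f26 (f16 (f23 (f16 (f26 (f16 (f24 (f23 (f8 (f24 (f25 (f26 (f8 (f16 (q)))))))))))))))))))))))))))) q)) = true := by decide +kernel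

theorem eq27_9 : allR 31572 3508 (fun q => Nat.beq (f27 q) ((fun q => f25 (f24 (f25 (f26 (f26 (f26 (f26 (f25 (f24 (f26 (f8 (f26 (f23 (f26 (f16 (f23 (f16 (f26 (f16 (f24 (f23 (f8 (f24 (f25 (f26 (f8 (f16 (q)))))))))))))))))))))))))))) q)) = true := by decide +kernel

theorem eq27_10 : allR 35080 3508 (fun q => Nat.beq (f27 q) ((fun q => f25 (f24 (f25 (f26 (f26 (f26 (f26 (f25 (f24 (f26 (f8 (f26 (f23 (f26 (f16 (f23 (f16 (f26 (f16 (f24 (f23 (f8 (f24 (f25 (f26 (f8 (f16 (q)))))))))))))))))))))))))))) q)) = true := by decide +kernel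

theorem eq27_11 : allR 38588 3508 (fun q => Nat.beq (f27 q) ((fun q => f25 (f24 (f25 (f26 (f26 (f26 (f26 (f25 (f24 (f26 (f8 (f26 (f23 (f26 (f16 (f23 (f16 (f26 (f16 (f24 (f23 (f8 (f24 (f25 (f26 (f8 (f16 (q)))))))))))))))))))))))))))) q)) = true := by decide +kernel

theorem eq27_12 : allR 42096 3508 (fun q => Nat.beq (f27 q) ((fun q => f25 (f24 (f25 (f26 (f26 (f26 (f26 (f25 (f24 (f26 (f8 (f26 (f23 (f26 (f16 (f23 (f16 (f26 (f16 (f24 (f23 (f8 (f24 (f25 (f26 (f8 (f16 (q)))))))))))))))))))))))))))) q)) = true := by decide +kernel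

theorem eq27_13 : allR 45604 3508 (fun q => Nat.beq (f27 q) ((fun q => f25 (f24 (f25 (f26 (f26 (f26 (f26 (f25 (f24 (f26 (f8 (f26 (f23 (f26 (f16 (f23 (f16 (f26 (f16 (f24 (f23 (f8 (f24 (f25 (f26 (f8 (f16 (q)))))))))))))))))))))))))))) q)) = true := by decide +kernel

theorem eq27_14 : allR 49112 3508 (fun q => Nat.beq (f27 q) ((fun q => f25 (f24 (f25 (f26 (f26 (f26 (f26 (f25 (f24 (f26 (f8 (f26 (f23 (f26 (f16 (f23 (f16 (f26 (f16 (f24 (f23 (f8 (f24 (f25 (f26 (f8 (f16 (q)))))))))))))))))))))))))))) q)) = true := by decide +kernel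

theorem eq27_15 : allR 52620 3508 (fun q => Nat.beq (f27 q) ((fun q => f25 (f24 (f25 (f26 (f26 (f26 (f26 (f25 (f24 (f26 (f8 (f26 (f23 (f26 (f16 (f23 (f16 (f26 (f16 (f24 (f23 (f8 (f24 (f25 (f26 (f8 (f16 (q)))))))))))))))))))))))))))) q)) = true := by decide +kernel

theorem eq27_16 : allR 56128 3508 (fun q => Nat.beq (f27 q) ((fun q => f25 (f24 (f25 (f26 (f26 (f26 (f26 (f25 (f24 (f26 (f8 (f26 (f23 (f26 (f16 (f23 (f16 (f26 (f16 (f24 (f23 (f8 (f24 (f25 (f26 (f8 (f16 (q)))))))))))))))))))))))))))) q)) = true := by decide +kernel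

theorem eq27_17 : allR 59636 3508 (fun q => Nat.beq (f27 q) ((fun q => f25 (f24 (f25 (f26 (f26 (f26 (f26 (f25 (f24 (f26 (f8 (f26 (f23 (f26 (f16 (f23 (f16 (f26 (f16 (f24 (f23 (f8 (f24 (f25 (f26 (f8 (f16 (q)))))))))))))))))))))))))))) q)) = true := by decide +kernel

theorem eq27_18 : allR 63144 3508 (fun q => Nat.beq (f27 q) ((fun q => f25 (f24 (f25 (f26 (f26 (f26 (f26 (f25 (f24 (f26 (f8 (f26 (f23 (f26 (f16 (f23 (f16 (f26 (f16 (f24 (f23 (f8 (f24 (f25 (f26 (f8 (f16 (q)))))))))))))))))))))))))))) q)) = true := by decide +kernel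

theorem eq27_19 : allR 66652 3508 (fun q => Nat.beq (f27 q) ((fun q => f25 (f24 (f25 (f26 (f26 (f26 (f26 (f25 (f24 (f26 (f8 (f26 (f23 (f26 (f16 (f23 (f16 (f26 (f16 (f24 (f23 (f8 (f24 (f25 (f26 (f8 (f16 (q)))))))))))))))))))))))))))) q)) = true := by decide +kernel

theorem eq27_20 : allR 70160 3508 (fun q => Nat.beq (f27 q) ((fun q => f25 (f24 (f25 (f26 (f26 (f26 (f26 (f25 (f24 (f26 (f8 (f26 (f23 (f26 (f16 (f23 (f16 (f26 (f16 (f24 (f23 (f8 (f24 (f25 (f26 (f8 (f16 (q)))))))))))))))))))))))))))) q)) = true := by decide +kernel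

theorem eq27_21 : allR 73668 3508 (fun q => Nat.beq (f27 q) ((fun q => f25 (f24 (f25 (f26 (f26 (f26 (f26 (f25 (f24 (f26 (f8 (f26 (f23 (f26 (f16 (f23 (f16 (f26 (f16 (f24 (f23 (f8 (f24 (f25 (f26 (f8 (f16 (q)))))))))))))))))))))))))))) q)) = true := by decide +kernel

theorem eq27_22 : allR 77176 3508 (fun q => Nat.beq (f27 q) ((fun q => f25 (f24 (f25 (f26 (f26 (f26 (f26 (f25 (f24 (f26 (f8 (f26 (f23 (f26 (f16 (f23 (f16 (f26 (f16 (f24 (f23 (f8 (f24 (f25 (f26 (f8 (f16 (q)))))))))))))))))))))))))))) q)) = true := by decide +kernel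

theorem eq27_23 : allR 80684 3508 (fun q => Nat.beq (f27 q) ((fun q => f25 (f24 (f25 (f26 (f26 (f26 (f26 (f25 (f24 (f26 (f8 (f26 (f23 (f26 (f16 (f23 (f16 (f26 (f16 (f24 (f23 (f8 (f24 (f25 (f26 (f8 (f16 (q)))))))))))))))))))))))))))) q)) = true := by decide +kernel

theorem eq27_24 : allR 84192 3508 (fun q => Nat.beq (f27 q) ((fun q => f25 (f24 (f25 (f26 (f26 (f26 (f26 (f25 (f24 (f26 (f8 (f26 (f23 (f26 (f16 (f23 (f16 (f26 (f16 (f24 (f23 (f8 (f24 (f25 (f26 (f8 (f16 (q)))))))))))))))))))))))))))) q)) = true := by decide +kernel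


end Cfsg.Agent.Lib.Helper5.ONOut
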