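import Cfsg.Agent.Lib.Helper5.ONOut.D27

/-! # The outer automorphism group of the O'Nan group: the check of the table of the element number 27 (generated) -/

set_option autoImplicit false
set_option maxRecDepth 100000

namespace Cfsg.Agent.Lib.Helper5.ONOut

open Cfsg.Agent.PF Cfsg.Agent.Lib.Helper6 Cfsg.Agent.Lib.Helper6.TC Cfsg.Agent.Lib.Helper6.NatArr Cfsg.Agent.Lib.Helper5
open Cfsg.Agent.PL (Acts evalF)

theorem eq27_25 : allR 87700 3508 (fun q => Nat.beq (f27 q) ((fun q => f25 (f24 (f25 (f26 (f26 (f26 (f26 (f25 (f24 (f26 (f8 (f26 (f23 (f26 (f16 (f23 (f16 (f26 (f16 (f24 (f23 (f8 (f24 (f25 (f26 (f8 (f16 (q)))))))))))))))))))))))))))) q)) = true := by decide +kernel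

theorem eq27_26 : allR 91208 3508 (fun q => Nat.beq (f27 q) ((fun q => f25 (f24 (f25 (f26 (f26 (f26 (f26 (f25 (f24 (f26 (f8 (f26 (f23 (f26 (f16 (f23 (f16 (f26 (f16 (f24 (f23 (f8 (f24 (f25 (f26 (f8 (f16 (q)))))))))))))))))))))))))))) q)) = true := by decide +kernel

theorem eq27_27 : allR 94716 3508 (fun q => Nat.beq (f27 q) ((fun q => f25 (f24 (f25 (f26 (f26 (f26 (f26 (f25 (f24 (f26 (f8 (f26 (f23 (f26 (f16 (f23 (f16 (f26 (f16 (f24 (f23 (f8 (f24 (f25 (f26 (f8 (f16 (q)))))))))))))))))))))))))))) q)) = true := by decide +kernel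

theorem eq27_28 : allR 98224 3508 (fun q => Nat.beq (f27 q) ((fun q => f25 (f24 (f25 (f26 (f26 (f26 (f26 (f25 (f24 (f26 (f8 (f26 (f23 (f26 (f16 (f23 (f16 (f26 (f16 (f24 (f23 (f8 (f24 (f25 (f26 (f8 (f16 (q)))))))))))))))))))))))))))) q)) = true := by decide +kernel

theorem eq27_29 : allR 101732 3508 (fun q => Nat.beq (f27 q) ((fun q => f25 (f24 (f25 (f26 (f26 (f26 (f26 (f25 (f24 (f26 (f8 (f26 (f23 (f26 (f16 (f23 (f16 (f26 (f16 (f24 (f23 (f8 (f24 (f25 (f26 (f8 (f16 (q)))))))))))))))))))))))))))) q)) = true := by decide +kernel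

theorem eq27_30 : allR 105240 3508 (fun q => Nat.beq (f27 q) ((fun q => f25 (f24 (f25 (f26 (f26 (f26 (f26 (f25 (f24 (f26 (f8 (f26 (f23 (f26 (f16 (f23 (f16 (f26 (f16 (f24 (f23 (f8 (f24 (f25 (f26 (f8 (f16 (q)))))))))))))))))))))))))))) q)) = true := by decide +kernel

theorem eq27_31 : allR 108748 3508 (fun q => Nat.beq (f27 q) ((fun q => f25 (f24 (f25 (f26 (f26 (f26 (f26 (f25 (f24 (f26 (f8 (f26 (f23 (f26 (f16 (f23 (f16 (f26 (f16 (f24 (f23 (f8 (f24 (f25 (f26 (f8 (f16 (q)))))))))))))))))))))))))))) q)) = true := by decide +kernel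

theorem eq27_32 : allR 112256 3508 (fun q => Nat.beq (f27 q) ((fun q => f25 (f24 (f25 (f26 (f26 (f26 (f26 (f25 (f24 (f26 (f8 (f26 (f23 (f26 (f16 (f23 (f16 (f26 (f16 (f24 (f23 (f8 (f24 (f25 (f26 (f8 (f16 (q)))))))))))))))))))))))))))) q)) = true := by decide +kernel

theorem eq27_33 : allR 115764 3508 (fun q => Nat.beq (f27 q) ((fun q => f25 (f24 (f25 (f26 (f26 (f26 (f26 (f25 (f24 (f26 (f8 (f26 (f23 (f26 (f16 (f23 (f16 (f26 (f16 (f24 (f23 (f8 (f24 (f25 (f26 (f8 (f16 (q)))))))))))))))))))))))))))) q)) = true := by decide +kernel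

theorem eq27_34 : allR 119272 3488 (fun q => Nat.beq (f27 q) ((fun q => f25 (f24 (f25 (f26 (f26 (f26 (f26 (f25 (f24 (f26 (f8 (f26 (f23 (f26 (f16 (f23 (f16 (f26 (f16 (f24 (f23 (f8 (f24 (f25 (f26 (f8 (f16 (q)))))))))))))))))))))))))))) q)) = true := by decide +kernel


end Cfsg.Agent.Lib.Helper5.ONOut
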