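import Cfsg.Agent.Lib.Helper5.ONOut.D8

/-! # The outer automorphism group of the O'Nan group: the check of the table of the element number 8 (generated) -/

set_option autoImplicit false
set_option maxRecDepth 100000

namespace Cfsg.Agent.Lib.Helper5.ONOut

open Cfsg.Agent.PF Cfsg.Agent.Lib.Helper6 Cfsg.Agent.Lib.Helper6.TC Cfsg.Agent.Lib.Helper6.NatArr Cfsg.Agent.Lib.Helper5
open Cfsg.Agent.PL (Acts evalF)

theorem eq8_0 : allR 0 15345 (fun q => Nat.beq (f8 q) ((fun q => f1 (f6 (f2 (f3 (f4 (q)))))) q)) = true := by decide +kernel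

theorem eq8_1 : allR 15345 15345 (fun q => Nat.beq (f8 q) ((fun q => f1 (f6 (f2 (f3 (f4 (q)))))) q)) = true := by decide +kernel

theorem eq8_2 : allR 30690 15345 (fun q => Nat.beq (f8 q) ((fun q => f1 (f6 (f2 (f3 (f4 (q)))))) q)) = true := by decide +kernel

theorem eq8_3 : allR 46035 15345 (fun q => Nat.beq (f8 q) ((fun q => f1 (f6 (f2 (f3 (f4 (q)))))) q)) = true := by decide +kernel

theorem eq8_4 : allR 61380 15345 (fun q => Nat.beq (f8 q) ((fun q => f1 (f6 (f2 (f3 (f4 (q)))))) q)) = true := by decide +kernel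

theorem eq8_5 : allR 76725 15345 (fun q => Nat.beq (f8 q) ((fun q => f1 (f6 (f2 (f3 (f4 (q)))))) q)) = true := by decide +kernel

theorem eq8_6 : allR 92070 15345 (fun q => Nat.beq (f8 q) ((fun q => f1 (f6 (f2 (f3 (f4 (q)))))) q)) = true := by decide +kernel

theorem eq8_7 : allR 107415 15345 (fun q => Nat.beq (f8 q) ((fun q => f1 (f6 (f2 (f3 (f4 (q)))))) q)) = true := by decide +kernel


end Cfsg.Agent.Lib.Helper5.ONOut
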