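import Cfsg.Agent.Lib.Helper5.ONOut.D9

/-! # The outer automorphism group of the O'Nan group: the check of the table of the element number 9 (generated) -/

set_option autoImplicit false
set_option maxRecDepth 100000

namespace Cfsg.Agent.Lib.Helper5.ONOut

open Cfsg.Agent.PF Cfsg.Agent.Lib.Helper6 Cfsg.Agent.Lib.Helper6.TC Cfsg.Agent.Lib.Helper6.NatArr Cfsg.Agent.Lib.Helper5
open Cfsg.Agent.PL (Acts evalF)

theorem eq9_0 : allR 0 7673 (fun q => Nat.beq (f9 q) ((fun q => f1 (f0 (f3 (f4 (f4 (f1 (f7 (f7 (f7 (f6 (f3 (f1 (q))))))))))))) q)) = true := by decide +kernel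

theorem eq9_1 : allR 7673 7673 (fun q => Nat.beq (f9 q) ((fun q => f1 (f0 (f3 (f4 (f4 (f1 (f7 (f7 (f7 (f6 (f3 (f1 (q))))))))))))) q)) = true := by decide +kernel

theorem eq9_2 : allR 15346 7673 (fun q => Nat.beq (f9 q) ((fun q => f1 (f0 (f3 (f4 (f4 (f1 (f7 (f7 (f7 (f6 (f3 (f1 (q))))))))))))) q)) = true := by decide +kernel

theorem eq9_3 : allR 23019 7673 (fun q => Nat.beq (f9 q) ((fun q => f1 (f0 (f3 (f4 (f4 (f1 (f7 (f7 (f7 (f6 (f3 (f1 (q))))))))))))) q)) = true := by decide +kernel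

theorem eq9_4 : allR 30692 7673 (fun q => Nat.beq (f9 q) ((fun q => f1 (f0 (f3 (f4 (f4 (f1 (f7 (f7 (f7 (f6 (f3 (f1 (q))))))))))))) q)) = true := by decide +kernel

theorem eq9_5 : allR 38365 7673 (fun q => Nat.beq (f9 q) ((fun q => f1 (f0 (f3 (f4 (f4 (f1 (f7 (f7 (f7 (f6 (f3 (f1 (q))))))))))))) q)) = true := by decide +kernel

theorem eq9_6 : allR 46038 7673 (fun q => Nat.beq (f9 q) ((fun q => f1 (f0 (f3 (f4 (f4 (f1 (f7 (f7 (f7 (f6 (f3 (f1 (q))))))))))))) q)) = true := by decide +kernel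

theorem eq9_7 : allR 53711 7673 (fun q => Nat.beq (f9 q) ((fun q => f1 (f0 (f3 (f4 (f4 (f1 (f7 (f7 (f7 (f6 (f3 (f1 (q))))))))))))) q)) = true := by decide +kernel

theorem eq9_8 : allR 61384 7673 (fun q => Nat.beq (f9 q) ((fun q => f1 (f0 (f3 (f4 (f4 (f1 (f7 (f7 (f7 (f6 (f3 (f1 (q))))))))))))) q)) = true := by decide +kernel

theorem eq9_9 : allR 69057 7673 (fun q => Nat.beq (f9 q) ((fun q => f1 (f0 (f3 (f4 (f4 (f1 (f7 (f7 (f7 (f6 (f3 (f1 (q))))))))))))) q)) = true := by decide +kernel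

theorem eq9_10 : allR 76730 7673 (fun q => Nat.beq (f9 q) ((fun q => f1 (f0 (f3 (f4 (f4 (f1 (f7 (f7 (f7 (f6 (f3 (f1 (q))))))))))))) q)) = true := by decide +kernel

theorem eq9_11 : allR 84403 7673 (fun q => Nat.beq (f9 q) ((fun q => f1 (f0 (f3 (f4 (f4 (f1 (f7 (f7 (f7 (f6 (f3 (f1 (q))))))))))))) q)) = true := by decide +kernel

theorem eq9_12 : allR 92076 7673 (fun q => Nat.beq (f9 q) ((fun q => f1 (f0 (f3 (f4 (f4 (f1 (f7 (f7 (f7 (f6 (f3 (f1 (q))))))))))))) q)) = true := by decide +kernel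

theorem eq9_13 : allR 99749 7673 (fun q => Nat.beq (f9 q) ((fun q => f1 (f0 (f3 (f4 (f4 (f1 (f7 (f7 (f7 (f6 (f3 (f1 (q))))))))))))) q)) = true := by decide +kernel

theorem eq9_14 : allR 107422 7673 (fun q => Nat.beq (f9 q) ((fun q => f1 (f0 (f3 (f4 (f4 (f1 (f7 (f7 (f7 (f6 (f3 (f1 (q))))))))))))) q)) = true := by decide +kernel

theorem eq9_15 : allR 115095 7665 (fun q => Nat.beq (f9 q) ((fun q => f1 (f0 (f3 (f4 (f4 (f1 (f7 (f7 (f7 (f6 (f3 (f1 (q))))))))))))) q)) = true := by decide +kernel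


end Cfsg.Agent.Lib.Helper5.ONOut
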