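import Cfsg.Agent.Lib.Helper5.ONOut.DP0

/-! # The outer automorphism group of the O'Nan group: the check of the table of the image of the letter 0 (generated) -/

set_option autoImplicit false
set_option maxRecDepth 100000

namespace Cfsg.Agent.Lib.Helper5.ONOut

open Cfsg.Agent.PF Cfsg.Agent.Lib.Helper6 Cfsg.Agent.Lib.Helper6.TC Cfsg.Agent.Lib.Helper6.NatArr Cfsg.Agent.Lib.Helper5
open Cfsg.Agent.PL (Acts evalF)

theorem eqP0_0 : allR 0 8769 (fun q => Nat.beq (p0 q) ((fun q => f14 (f13 (f15 (f13 (f11 (f10 (f15 (f13 (f12 (f15 (q))))))))))) q)) = true := by decide +kernel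

theorem eqP0_1 : allR 8769 8769 (fun q => Nat.beq (p0 q) ((fun q => f14 (f13 (f15 (f13 (f11 (f10 (f15 (f13 (f12 (f15 (q))))))))))) q)) = true := by decide +kernel

theorem eqP0_2 : allR 17538 8769 (fun q => Nat.beq (p0 q) ((fun q => f14 (f13 (f15 (f13 (f11 (f10 (f15 (f13 (f12 (f15 (q))))))))))) q)) = true := by decide +kernel

theorem eqP0_3 : allR 26307 8769 (fun q => Nat.beq (p0 q) ((fun q => f14 (f13 (f15 (f13 (f11 (f10 (f15 (f13 (f12 (f15 (q))))))))))) q)) = true := by decide +kernel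

theorem eqP0_4 : allR 35076 8769 (fun q => Nat.beq (p0 q) ((fun q => f14 (f13 (f15 (f13 (f11 (f10 (f15 (f13 (f12 (f15 (q))))))))))) q)) = true := by decide +kernel

theorem eqP0_5 : allR 43845 8769 (fun q => Nat.beq (p0 q) ((fun q => f14 (f13 (f15 (f13 (f11 (f10 (f15 (f13 (f12 (f15 (q))))))))))) q)) = true := by decide +kernel

theorem eqP0_6 : allR 52614 8769 (fun q => Nat.beq (p0 q) ((fun q => f14 (f13 (f15 (f13 (f11 (f10 (f15 (f13 (f12 (f15 (q))))))))))) q)) = true := by decide +kernel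

theorem eqP0_7 : allR 61383 8769 (fun q => Nat.beq (p0 q) ((fun q => f14 (f13 (f15 (f13 (f11 (f10 (f15 (f13 (f12 (f15 (q))))))))))) q)) = true := by decide +kernel

theorem eqP0_8 : allR 70152 8769 (fun q => Nat.beq (p0 q) ((fun q => f14 (f13 (f15 (f13 (f11 (f10 (f15 (f13 (f12 (f15 (q))))))))))) q)) = true := by decide +kernel

theorem eqP0_9 : allR 78921 8769 (fun q => Nat.beq (p0 q) ((fun q => f14 (f13 (f15 (f13 (f11 (f10 (f15 (f13 (f12 (f15 (q))))))))))) q)) = true := by decide +kernel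

theorem eqP0_10 : allR 87690 8769 (fun q => Nat.beq (p0 q) ((fun q => f14 (f13 (f15 (f13 (f11 (f10 (f15 (f13 (f12 (f15 (q))))))))))) q)) = true := by decide +kernel

theorem eqP0_11 : allR 96459 8769 (fun q => Nat.beq (p0 q) ((fun q => f14 (f13 (f15 (f13 (f11 (f10 (f15 (f13 (f12 (f15 (q))))))))))) q)) = true := by decide +kernel

theorem eqP0_12 : allR 105228 8769 (fun q => Nat.beq (p0 q) ((fun q => f14 (f13 (f15 (f13 (f11 (f10 (f15 (f13 (f12 (f15 (q))))))))))) q)) = true := by decide +kernel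

theorem eqP0_13 : allR 113997 8763 (fun q => Nat.beq (p0 q) ((fun q => f14 (f13 (f15 (f13 (f11 (f10 (f15 (f13 (f12 (f15 (q))))))))))) q)) = true := by decide +kernel


end Cfsg.Agent.Lib.Helper5.ONOut
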