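import Cfsg.Agent.Lib.Helper5.ONOut.DP4

/-! # The outer automorphism group of the O'Nan group: the check of the table of the image of the letter 4 (generated) -/

set_option autoImplicit false
set_option maxRecDepth 100000

namespace Cfsg.Agent.Lib.Helper5.ONOut

open Cfsg.Agent.PF Cfsg.Agent.Lib.Helper6 Cfsg.Agent.Lib.Helper6.TC Cfsg.Agent.Lib.Helper6.NatArr Cfsg.Agent.Lib.Helper5
open Cfsg.Agent.PL (Acts evalF)

theorem eqP4_0 : allR 0 5338 (fun q => Nat.beq (p4 q) ((fun q => f13 (f15 (f13 (f14 (f14 (f9 (f13 (f15 (f10 (f13 (f9 (f1 (f3 (f2 (f14 (f1 (f15 (q)))))))))))))))))) q)) = true := by decide +kernel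

theorem eqP4_1 : allR 5338 5338 (fun q => Nat.beq (p4 q) ((fun q => f13 (f15 (f13 (f14 (f14 (f9 (f13 (f15 (f10 (f13 (f9 (f1 (f3 (f2 (f14 (f1 (f15 (q)))))))))))))))))) q)) = true := by decide +kernel

theorem eqP4_2 : allR 10676 5338 (fun q => Nat.beq (p4 q) ((fun q => f13 (f15 (f13 (f14 (f14 (f9 (f13 (f15 (f10 (f13 (f9 (f1 (f3 (f2 (f14 (f1 (f15 (q)))))))))))))))))) q)) = true := by decide +kernel

theorem eqP4_3 : allR 16014 5338 (fun q => Nat.beq (p4 q) ((fun q => f13 (f15 (f13 (f14 (f14 (f9 (f13 (f15 (f10 (f13 (f9 (f1 (f3 (f2 (f14 (f1 (f15 (q)))))))))))))))))) q)) = true := by decide +kernel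

theorem eqP4_4 : allR 21352 5338 (fun q => Nat.beq (p4 q) ((fun q => f13 (f15 (f13 (f14 (f14 (f9 (f13 (f15 (f10 (f13 (f9 (f1 (f3 (f2 (f14 (f1 (f15 (q)))))))))))))))))) q)) = true := by decide +kernel

theorem eqP4_5 : allR 26690 5338 (fun q => Nat.beq (p4 q) ((fun q => f13 (f15 (f13 (f14 (f14 (f9 (f13 (f15 (f10 (f13 (f9 (f1 (f3 (f2 (f14 (f1 (f15 (q)))))))))))))))))) q)) = true := by decide +kernel

theorem eqP4_6 : allR 32028 5338 (fun q => Nat.beq (p4 q) ((fun q => f13 (f15 (f13 (f14 (f14 (f9 (f13 (f15 (f10 (f13 (f9 (f1 (f3 (f2 (f14 (f1 (f15 (q)))))))))))))))))) q)) = true := by decide +kernel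

theorem eqP4_7 : allR 37366 5338 (fun q => Nat.beq (p4 q) ((fun q => f13 (f15 (f13 (f14 (f14 (f9 (f13 (f15 (f10 (f13 (f9 (f1 (f3 (f2 (f14 (f1 (f15 (q)))))))))))))))))) q)) = true := by decide +kernel

theorem eqP4_8 : allR 42704 5338 (fun q => Nat.beq (p4 q) ((fun q => f13 (f15 (f13 (f14 (f14 (f9 (f13 (f15 (f10 (f13 (f9 (f1 (f3 (f2 (f14 (f1 (f15 (q)))))))))))))))))) q)) = true := by decide +kernel

theorem eqP4_9 : allR 48042 5338 (fun q => Nat.beq (p4 q) ((fun q => f13 (f15 (f13 (f14 (f14 (f9 (f13 (f15 (f10 (f13 (f9 (f1 (f3 (f2 (f14 (f1 (f15 (q)))))))))))))))))) q)) = true := by decide +kernel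

theorem eqP4_10 : allR 53380 5338 (fun q => Nat.beq (p4 q) ((fun q => f13 (f15 (f13 (f14 (f14 (f9 (f13 (f15 (f10 (f13 (f9 (f1 (f3 (f2 (f14 (f1 (f15 (q)))))))))))))))))) q)) = true := by decide +kernel

theorem eqP4_11 : allR 58718 5338 (fun q => Nat.beq (p4 q) ((fun q => f13 (f15 (f13 (f14 (f14 (f9 (f13 (f15 (f10 (f13 (f9 (f1 (f3 (f2 (f14 (f1 (f15 (q)))))))))))))))))) q)) = true := by decide +kernel

theorem eqP4_12 : allR 64056 5338 (fun q => Nat.beq (p4 q) ((fun q => f13 (f15 (f13 (f14 (f14 (f9 (f13 (f15 (f10 (f13 (f9 (f1 (f3 (f2 (f14 (f1 (f15 (q)))))))))))))))))) q)) = true := by decide +kernel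

theorem eqP4_13 : allR 69394 5338 (fun q => Nat.beq (p4 q) ((fun q => f13 (f15 (f13 (f14 (f14 (f9 (f13 (f15 (f10 (f13 (f9 (f1 (f3 (f2 (f14 (f1 (f15 (q)))))))))))))))))) q)) = true := by decide +kernel

theorem eqP4_14 : allR 74732 5338 (fun q => Nat.beq (p4 q) ((fun q => f13 (f15 (f13 (f14 (f14 (f9 (f13 (f15 (f10 (f13 (f9 (f1 (f3 (f2 (f14 (f1 (f15 (q)))))))))))))))))) q)) = true := by decide +kernel

theorem eqP4_15 : allR 80070 5338 (fun q => Nat.beq (p4 q) ((fun q => f13 (f15 (f13 (f14 (f14 (f9 (f13 (f15 (f10 (f13 (f9 (f1 (f3 (f2 (f14 (f1 (f15 (q)))))))))))))))))) q)) = true := by decide +kernel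

theorem eqP4_16 : allR 85408 5338 (fun q => Nat.beq (p4 q) ((fun q => f13 (f15 (f13 (f14 (f14 (f9 (f13 (f15 (f10 (f13 (f9 (f1 (f3 (f2 (f14 (f1 (f15 (q)))))))))))))))))) q)) = true := by decide +kernel

theorem eqP4_17 : allR 90746 5338 (fun q => Nat.beq (p4 q) ((fun q => f13 (f15 (f13 (f14 (f14 (f9 (f13 (f15 (f10 (f13 (f9 (f1 (f3 (f2 (f14 (f1 (f15 (q)))))))))))))))))) q)) = true := by decide +kernel

theorem eqP4_18 : allR 96084 5338 (fun q => Nat.beq (p4 q) ((fun q => f13 (f15 (f13 (f14 (f14 (f9 (f13 (f15 (f10 (f13 (f9 (f1 (f3 (f2 (f14 (f1 (f15 (q)))))))))))))))))) q)) = true := by decide +kernel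

theorem eqP4_19 : allR 101422 5338 (fun q => Nat.beq (p4 q) ((fun q => f13 (f15 (f13 (f14 (f14 (f9 (f13 (f15 (f10 (f13 (f9 (f1 (f3 (f2 (f14 (f1 (f15 (q)))))))))))))))))) q)) = true := by decide +kernel

theorem eqP4_20 : allR 106760 5338 (fun q => Nat.beq (p4 q) ((fun q => f13 (f15 (f13 (f14 (f14 (f9 (f13 (f15 (f10 (f13 (f9 (f1 (f3 (f2 (f14 (f1 (f15 (q)))))))))))))))))) q)) = true := by decide +kernel

theorem eqP4_21 : allR 112098 5338 (fun q => Nat.beq (p4 q) ((fun q => f13 (f15 (f13 (f14 (f14 (f9 (f13 (f15 (f10 (f13 (f9 (f1 (f3 (f2 (f14 (f1 (f15 (q)))))))))))))))))) q)) = true := by decide +kernel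

theorem eqP4_22 : allR 117436 5324 (fun q => Nat.beq (p4 q) ((fun q => f13 (f15 (f13 (f14 (f14 (f9 (f13 (f15 (f10 (f13 (f9 (f1 (f3 (f2 (f14 (f1 (f15 (q)))))))))))))))))) q)) = true := by decide +kernel


end Cfsg.Agent.Lib.Helper5.ONOut
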