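import Cfsg.Agent.Lib.Helper5.ONOut.DP5

/-! # The outer automorphism group of the O'Nan group: the check of the table of the image of the letter 5 (generated) -/

set_option autoImplicit false
set_option maxRecDepth 100000

namespace Cfsg.Agent.Lib.Helper5.ONOut

open Cfsg.Agent.PF Cfsg.Agent.Lib.Helper6 Cfsg.Agent.Lib.Helper6.TC Cfsg.Agent.Lib.Helper6.NatArr Cfsg.Agent.Lib.Helper5
open Cfsg.Agent.PL (Acts evalF)

theorem eqP5_0 : allR 0 5846 (fun q => Nat.beq (p5 q) ((fun q => f13 (f15 (f13 (f15 (f9 (f10 (f13 (f13 (f10 (f12 (f15 (f1 (f4 (f8 (f5 (f11 (q))))))))))))))))) q)) = true := by decide +kernel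

theorem eqP5_1 : allR 5846 5846 (fun q => Nat.beq (p5 q) ((fun q => f13 (f15 (f13 (f15 (f9 (f10 (f13 (f13 (f10 (f12 (f15 (f1 (f4 (f8 (f5 (f11 (q))))))))))))))))) q)) = true := by decide +kernel

theorem eqP5_2 : allR 11692 5846 (fun q => Nat.beq (p5 q) ((fun q => f13 (f15 (f13 (f15 (f9 (f10 (f13 (f13 (f10 (f12 (f15 (f1 (f4 (f8 (f5 (f11 (q))))))))))))))))) q)) = true := by decide +kernel

theorem eqP5_3 : allR 17538 5846 (fun q => Nat.beq (p5 q) ((fun q => f13 (f15 (f13 (f15 (f9 (f10 (f13 (f13 (f10 (f12 (f15 (f1 (f4 (f8 (f5 (f11 (q))))))))))))))))) q)) = true := by decide +kernel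

theorem eqP5_4 : allR 23384 5846 (fun q => Nat.beq (p5 q) ((fun q => f13 (f15 (f13 (f15 (f9 (f10 (f13 (f13 (f10 (f12 (f15 (f1 (f4 (f8 (f5 (f11 (q))))))))))))))))) q)) = true := by decide +kernel

theorem eqP5_5 : allR 29230 5846 (fun q => Nat.beq (p5 q) ((fun q => f13 (f15 (f13 (f15 (f9 (f10 (f13 (f13 (f10 (f12 (f15 (f1 (f4 (f8 (f5 (f11 (q))))))))))))))))) q)) = true := by decide +kernel

theorem eqP5_6 : allR 35076 5846 (fun q => Nat.beq (p5 q) ((fun q => f13 (f15 (f13 (f15 (f9 (f10 (f13 (f13 (f10 (f12 (f15 (f1 (f4 (f8 (f5 (f11 (q))))))))))))))))) q)) = true := by decide +kernel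

theorem eqP5_7 : allR 40922 5846 (fun q => Nat.beq (p5 q) ((fun q => f13 (f15 (f13 (f15 (f9 (f10 (f13 (f13 (f10 (f12 (f15 (f1 (f4 (f8 (f5 (f11 (q))))))))))))))))) q)) = true := by decide +kernel

theorem eqP5_8 : allR 46768 5846 (fun q => Nat.beq (p5 q) ((fun q => f13 (f15 (f13 (f15 (f9 (f10 (f13 (f13 (f10 (f12 (f15 (f1 (f4 (f8 (f5 (f11 (q))))))))))))))))) q)) = true := by decide +kernel

theorem eqP5_9 : allR 52614 5846 (fun q => Nat.beq (p5 q) ((fun q => f13 (f15 (f13 (f15 (f9 (f10 (f13 (f13 (f10 (f12 (f15 (f1 (f4 (f8 (f5 (f11 (q))))))))))))))))) q)) = true := by decide +kernel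

theorem eqP5_10 : allR 58460 5846 (fun q => Nat.beq (p5 q) ((fun q => f13 (f15 (f13 (f15 (f9 (f10 (f13 (f13 (f10 (f12 (f15 (f1 (f4 (f8 (f5 (f11 (q))))))))))))))))) q)) = true := by decide +kernel

theorem eqP5_11 : allR 64306 5846 (fun q => Nat.beq (p5 q) ((fun q => f13 (f15 (f13 (f15 (f9 (f10 (f13 (f13 (f10 (f12 (f15 (f1 (f4 (f8 (f5 (f11 (q))))))))))))))))) q)) = true := by decide +kernel

theorem eqP5_12 : allR 70152 5846 (fun q => Nat.beq (p5 q) ((fun q => f13 (f15 (f13 (f15 (f9 (f10 (f13 (f13 (f10 (f12 (f15 (f1 (f4 (f8 (f5 (f11 (q))))))))))))))))) q)) = true := by decide +kernel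

theorem eqP5_13 : allR 75998 5846 (fun q => Nat.beq (p5 q) ((fun q => f13 (f15 (f13 (f15 (f9 (f10 (f13 (f13 (f10 (f12 (f15 (f1 (f4 (f8 (f5 (f11 (q))))))))))))))))) q)) = true := by decide +kernel

theorem eqP5_14 : allR 81844 5846 (fun q => Nat.beq (p5 q) ((fun q => f13 (f15 (f13 (f15 (f9 (f10 (f13 (f13 (f10 (f12 (f15 (f1 (f4 (f8 (f5 (f11 (q))))))))))))))))) q)) = true := by decide +kernel

theorem eqP5_15 : allR 87690 5846 (fun q => Nat.beq (p5 q) ((fun q => f13 (f15 (f13 (f15 (f9 (f10 (f13 (f13 (f10 (f12 (f15 (f1 (f4 (f8 (f5 (f11 (q))))))))))))))))) q)) = true := by decide +kernel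

theorem eqP5_16 : allR 93536 5846 (fun q => Nat.beq (p5 q) ((fun q => f13 (f15 (f13 (f15 (f9 (f10 (f13 (f13 (f10 (f12 (f15 (f1 (f4 (f8 (f5 (f11 (q))))))))))))))))) q)) = true := by decide +kernel

theorem eqP5_17 : allR 99382 5846 (fun q => Nat.beq (p5 q) ((fun q => f13 (f15 (f13 (f15 (f9 (f10 (f13 (f13 (f10 (f12 (f15 (f1 (f4 (f8 (f5 (f11 (q))))))))))))))))) q)) = true := by decide +kernel

theorem eqP5_18 : allR 105228 5846 (fun q => Nat.beq (p5 q) ((fun q => f13 (f15 (f13 (f15 (f9 (f10 (f13 (f13 (f10 (f12 (f15 (f1 (f4 (f8 (f5 (f11 (q))))))))))))))))) q)) = true := by decide +kernel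

theorem eqP5_19 : allR 111074 5846 (fun q => Nat.beq (p5 q) ((fun q => f13 (f15 (f13 (f15 (f9 (f10 (f13 (f13 (f10 (f12 (f15 (f1 (f4 (f8 (f5 (f11 (q))))))))))))))))) q)) = true := by decide +kernel

theorem eqP5_20 : allR 116920 5840 (fun q => Nat.beq (p5 q) ((fun q => f13 (f15 (f13 (f15 (f9 (f10 (f13 (f13 (f10 (f12 (f15 (f1 (f4 (f8 (f5 (f11 (q))))))))))))))))) q)) = true := by decide +kernel


end Cfsg.Agent.Lib.Helper5.ONOut
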