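import Cfsg.Agent.Lib.Helper5.ONOut.DP6

/-! # The outer automorphism group of the O'Nan group: the check of the table of the image of the letter 6 (generated) -/

set_option autoImplicit false
set_option maxRecDepth 100000

namespace Cfsg.Agent.Lib.Helper5.ONOut

open Cfsg.Agent.PF Cfsg.Agent.Lib.Helper6 Cfsg.Agent.Lib.Helper6.TC Cfsg.Agent.Lib.Helper6.NatArr Cfsg.Agent.Lib.Helper5
open Cfsg.Agent.PL (Acts evalF)

theorem eqP6_0 : allR 0 6462 (fun q => Nat.beq (p6 q) ((fun q => f13 (f13 (f14 (f13 (f9 (f11 (f10 (f15 (f9 (f10 (f11 (f8 (f2 (f4 (q))))))))))))))) q)) = true := by decide +kernel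

theorem eqP6_1 : allR 6462 6462 (fun q => Nat.beq (p6 q) ((fun q => f13 (f13 (f14 (f13 (f9 (f11 (f10 (f15 (f9 (f10 (f11 (f8 (f2 (f4 (q))))))))))))))) q)) = true := by decide +kernel

theorem eqP6_2 : allR 12924 6462 (fun q => Nat.beq (p6 q) ((fun q => f13 (f13 (f14 (f13 (f9 (f11 (f10 (f15 (f9 (f10 (f11 (f8 (f2 (f4 (q))))))))))))))) q)) = true := by decide +kernel

theorem eqP6_3 : allR 19386 6462 (fun q => Nat.beq (p6 q) ((fun q => f13 (f13 (f14 (f13 (f9 (f11 (f10 (f15 (f9 (f10 (f11 (f8 (f2 (f4 (q))))))))))))))) q)) = true := by decide +kernel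

theorem eqP6_4 : allR 25848 6462 (fun q => Nat.beq (p6 q) ((fun q => f13 (f13 (f14 (f13 (f9 (f11 (f10 (f15 (f9 (f10 (f11 (f8 (f2 (f4 (q))))))))))))))) q)) = true := by decide +kernel

theorem eqP6_5 : allR 32310 6462 (fun q => Nat.beq (p6 q) ((fun q => f13 (f13 (f14 (f13 (f9 (f11 (f10 (f15 (f9 (f10 (f11 (f8 (f2 (f4 (q))))))))))))))) q)) = true := by decide +kernel

theorem eqP6_6 : allR 38772 6462 (fun q => Nat.beq (p6 q) ((fun q => f13 (f13 (f14 (f13 (f9 (f11 (f10 (f15 (f9 (f10 (f11 (f8 (f2 (f4 (q))))))))))))))) q)) = true := by decide +kernel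

theorem eqP6_7 : allR 45234 6462 (fun q => Nat.beq (p6 q) ((fun q => f13 (f13 (f14 (f13 (f9 (f11 (f10 (f15 (f9 (f10 (f11 (f8 (f2 (f4 (q))))))))))))))) q)) = true := by decide +kernel

theorem eqP6_8 : allR 51696 6462 (fun q => Nat.beq (p6 q) ((fun q => f13 (f13 (f14 (f13 (f9 (f11 (f10 (f15 (f9 (f10 (f11 (f8 (f2 (f4 (q))))))))))))))) q)) = true := by decide +kernel

theorem eqP6_9 : allR 58158 6462 (fun q => Nat.beq (p6 q) ((fun q => f13 (f13 (f14 (f13 (f9 (f11 (f10 (f15 (f9 (f10 (f11 (f8 (f2 (f4 (q))))))))))))))) q)) = true := by decide +kernel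

theorem eqP6_10 : allR 64620 6462 (fun q => Nat.beq (p6 q) ((fun q => f13 (f13 (f14 (f13 (f9 (f11 (f10 (f15 (f9 (f10 (f11 (f8 (f2 (f4 (q))))))))))))))) q)) = true := by decide +kernel

theorem eqP6_11 : allR 71082 6462 (fun q => Nat.beq (p6 q) ((fun q => f13 (f13 (f14 (f13 (f9 (f11 (f10 (f15 (f9 (f10 (f11 (f8 (f2 (f4 (q))))))))))))))) q)) = true := by decide +kernel

theorem eqP6_12 : allR 77544 6462 (fun q => Nat.beq (p6 q) ((fun q => f13 (f13 (f14 (f13 (f9 (f11 (f10 (f15 (f9 (f10 (f11 (f8 (f2 (f4 (q))))))))))))))) q)) = true := by decide +kernel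

theorem eqP6_13 : allR 84006 6462 (fun q => Nat.beq (p6 q) ((fun q => f13 (f13 (f14 (f13 (f9 (f11 (f10 (f15 (f9 (f10 (f11 (f8 (f2 (f4 (q))))))))))))))) q)) = true := by decide +kernel

theorem eqP6_14 : allR 90468 6462 (fun q => Nat.beq (p6 q) ((fun q => f13 (f13 (f14 (f13 (f9 (f11 (f10 (f15 (f9 (f10 (f11 (f8 (f2 (f4 (q))))))))))))))) q)) = true := by decide +kernel

theorem eqP6_15 : allR 96930 6462 (fun q => Nat.beq (p6 q) ((fun q => f13 (f13 (f14 (f13 (f9 (f11 (f10 (f15 (f9 (f10 (f11 (f8 (f2 (f4 (q))))))))))))))) q)) = true := by decide +kernel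

theorem eqP6_16 : allR 103392 6462 (fun q => Nat.beq (p6 q) ((fun q => f13 (f13 (f14 (f13 (f9 (f11 (f10 (f15 (f9 (f10 (f11 (f8 (f2 (f4 (q))))))))))))))) q)) = true := by decide +kernel

theorem eqP6_17 : allR 109854 6462 (fun q => Nat.beq (p6 q) ((fun q => f13 (f13 (f14 (f13 (f9 (f11 (f10 (f15 (f9 (f10 (f11 (f8 (f2 (f4 (q))))))))))))))) q)) = true := by decide +kernel

theorem eqP6_18 : allR 116316 6444 (fun q => Nat.beq (p6 q) ((fun q => f13 (f13 (f14 (f13 (f9 (f11 (f10 (f15 (f9 (f10 (f11 (f8 (f2 (f4 (q))))))))))))))) q)) = true := by decide +kernel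


end Cfsg.Agent.Lib.Helper5.ONOut
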