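import Cfsg.Agent.Lib.Helper5.ONOut.DSX

/-! # The outer automorphism group of the O'Nan group: the check of the table of the image of `x` (generated) -/

set_option autoImplicit false
set_option maxRecDepth 100000

namespace Cfsg.Agent.Lib.Helper5.ONOut

open Cfsg.Agent.PF Cfsg.Agent.Lib.Helper6 Cfsg.Agent.Lib.Helper6.TC Cfsg.Agent.Lib.Helper6.NatArr Cfsg.Agent.Lib.Helper5
open Cfsg.Agent.PL (Acts evalF)

theorem eqsx_0 : allR 0 15345 (fun q => Nat.beq (fsx q) ((fun q => p1 (p7 (p2 (p3 (p4 (q)))))) q)) = true := by decide +kernel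

theorem eqsx_1 : allR 15345 15345 (fun q => Nat.beq (fsx q) ((fun q => p1 (p7 (p2 (p3 (p4 (q)))))) q)) = true := by decide +kernel

theorem eqsx_2 : allR 30690 15345 (fun q => Nat.beq (fsx q) ((fun q => p1 (p7 (p2 (p3 (p4 (q)))))) q)) = true := by decide +kernel

theorem eqsx_3 : allR 46035 15345 (fun q => Nat.beq (fsx q) ((fun q => p1 (p7 (p2 (p3 (p4 (q)))))) q)) = true := by decide +kernel

theorem eqsx_4 : allR 61380 15345 (fun q => Nat.beq (fsx q) ((fun q => p1 (p7 (p2 (p3 (p4 (q)))))) q)) = true := by decide +kernel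

theorem eqsx_5 : allR 76725 15345 (fun q => Nat.beq (fsx q) ((fun q => p1 (p7 (p2 (p3 (p4 (q)))))) q)) = true := by decide +kernel

theorem eqsx_6 : allR 92070 15345 (fun q => Nat.beq (fsx q) ((fun q => p1 (p7 (p2 (p3 (p4 (q)))))) q)) = true := by decide +kernel

theorem eqsx_7 : allR 107415 15345 (fun q => Nat.beq (fsx q) ((fun q => p1 (p7 (p2 (p3 (p4 (q)))))) q)) = true := by decide +kernel


end Cfsg.Agent.Lib.Helper5.ONOut
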