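import Cfsg.Agent.Lib.Helper5.ONOut.LevA

/-! # The outer automorphism group of the O'Nan group: the centraliser of `x`, a part (generated) -/

set_option autoImplicit false
set_option maxRecDepth 100000

namespace Cfsg.Agent.Lib.Helper5.ONOut

open Cfsg.Agent.PF Cfsg.Agent.Lib.Helper6 Cfsg.Agent.Lib.Helper6.TC Cfsg.Agent.Lib.Helper6.NatArr Cfsg.Agent.Lib.Helper5
open Cfsg.Agent.PL (Acts evalF)

theorem chk_centX_50 : allR 33200 664 (fun q => centP 122760 11 f8 [0] 31 LA0 LsA q) = true := by decide +kernel

theorem chk_centX_51 : allR 33864 664 (fun q => centP 122760 11 f8 [0] 31 LA0 LsA q) = true := by decide +kernel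

theorem chk_centX_52 : allR 34528 664 (fun q => centP 122760 11 f8 [0] 31 LA0 LsA q) = true := by decide +kernel

theorem chk_centX_53 : allR 35192 664 (fun q => centP 122760 11 f8 [0] 31 LA0 LsA q) = true := by decide +kernel

theorem chk_centX_54 : allR 35856 664 (fun q => centP 122760 11 f8 [0] 31 LA0 LsA q) = true := by decide +kernel

theorem chk_centX_55 : allR 36520 664 (fun q => centP 122760 11 f8 [0] 31 LA0 LsA q) = true := by decide +kernel

theorem chk_centX_56 : allR 37184 664 (fun q => centP 122760 11 f8 [0] 31 LA0 LsA q) = true := by decide +kernel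

theorem chk_centX_57 : allR 37848 664 (fun q => centP 122760 11 f8 [0] 31 LA0 LsA q) = true := by decide +kernel

theorem chk_centX_58 : allR 38512 664 (fun q => centP 122760 11 f8 [0] 31 LA0 LsA q) = true := by decide +kernel

theorem chk_centX_59 : allR 39176 664 (fun q => centP 122760 11 f8 [0] 31 LA0 LsA q) = true := by decide +kernel

theorem chk_centX_60 : allR 39840 664 (fun q => centP 122760 11 f8 [0] 31 LA0 LsA q) = true := by decide +kernel

theorem chk_centX_61 : allR 40504 664 (fun q => centP 122760 11 f8 [0] 31 LA0 LsA q) = true := by decide +kernel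

theorem chk_centX_62 : allR 41168 664 (fun q => centP 122760 11 f8 [0] 31 LA0 LsA q) = true := by decide +kernel

theorem chk_centX_63 : allR 41832 664 (fun q => centP 122760 11 f8 [0] 31 LA0 LsA q) = true := by decide +kernel

theorem chk_centX_64 : allR 42496 664 (fun q => centP 122760 11 f8 [0] 31 LA0 LsA q) = true := by decide +kernel

theorem chk_centX_65 : allR 43160 664 (fun q => centP 122760 11 f8 [0] 31 LA0 LsA q) = true := by decide +kernel

theorem chk_centX_66 : allR 43824 664 (fun q => centP 122760 11 f8 [0] 31 LA0 LsA q) = true := by decide +kernel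

theorem chk_centX_67 : allR 44488 664 (fun q => centP 122760 11 f8 [0] 31 LA0 LsA q) = true := by decide +kernel

theorem chk_centX_68 : allR 45152 664 (fun q => centP 122760 11 f8 [0] 31 LA0 LsA q) = true := by decide +kernel

theorem chk_centX_69 : allR 45816 664 (fun q => centP 122760 11 f8 [0] 31 LA0 LsA q) = true := by decide +kernel

theorem chk_centX_70 : allR 46480 664 (fun q => centP 122760 11 f8 [0] 31 LA0 LsA q) = true := by decide +kernel

theorem chk_centX_71 : allR 47144 664 (fun q => centP 122760 11 f8 [0] 31 LA0 LsA q) = true := by decide +kernel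

theorem chk_centX_72 : allR 47808 664 (fun q => centP 122760 11 f8 [0] 31 LA0 LsA q) = true := by decide +kernel

theorem chk_centX_73 : allR 48472 664 (fun q => centP 122760 11 f8 [0] 31 LA0 LsA q) = true := by decide +kernel

theorem chk_centX_74 : allR 49136 664 (fun q => centP 122760 11 f8 [0] 31 LA0 LsA q) = true := by decide +kernel


end Cfsg.Agent.Lib.Helper5.ONOut
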