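import Cfsg.Agent.Lib.Helper5.ONOut.LevA

/-! # The outer automorphism group of the O'Nan group: the centraliser of `x`, a part (generated) -/

set_option autoImplicit false
set_option maxRecDepth 100000

namespace Cfsg.Agent.Lib.Helper5.ONOut

open Cfsg.Agent.PF Cfsg.Agent.Lib.Helper6 Cfsg.Agent.Lib.Helper6.TC Cfsg.Agent.Lib.Helper6.NatArr Cfsg.Agent.Lib.Helper5
open Cfsg.Agent.PL (Acts evalF)

theorem chk_centX_0 : allR 0 664 (fun q => centP 122760 11 f8 [0] 31 LA0 LsA q) = true := by decide +kernel

theorem chk_centX_1 : allR 664 664 (fun q => centP 122760 11 f8 [0] 31 LA0 LsA q) = true := by decide +kernel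

theorem chk_centX_2 : allR 1328 664 (fun q => centP 122760 11 f8 [0] 31 LA0 LsA q) = true := by decide +kernel

theorem chk_centX_3 : allR 1992 664 (fun q => centP 122760 11 f8 [0] 31 LA0 LsA q) = true := by decide +kernel

theorem chk_centX_4 : allR 2656 664 (fun q => centP 122760 11 f8 [0] 31 LA0 LsA q) = true := by decide +kernel

theorem chk_centX_5 : allR 3320 664 (fun q => centP 122760 11 f8 [0] 31 LA0 LsA q) = true := by decide +kernel

theorem chk_centX_6 : allR 3984 664 (fun q => centP 122760 11 f8 [0] 31 LA0 LsA q) = true := by decide +kernel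

theorem chk_centX_7 : allR 4648 664 (fun q => centP 122760 11 f8 [0] 31 LA0 LsA q) = true := by decide +kernel

theorem chk_centX_8 : allR 5312 664 (fun q => centP 122760 11 f8 [0] 31 LA0 LsA q) = true := by decide +kernel

theorem chk_centX_9 : allR 5976 664 (fun q => centP 122760 11 f8 [0] 31 LA0 LsA q) = true := by decide +kernel

theorem chk_centX_10 : allR 6640 664 (fun q => centP 122760 11 f8 [0] 31 LA0 LsA q) = true := by decide +kernel

theorem chk_centX_11 : allR 7304 664 (fun q => centP 122760 11 f8 [0] 31 LA0 LsA q) = true := by decide +kernel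

theorem chk_centX_12 : allR 7968 664 (fun q => centP 122760 11 f8 [0] 31 LA0 LsA q) = true := by decide +kernel

theorem chk_centX_13 : allR 8632 664 (fun q => centP 122760 11 f8 [0] 31 LA0 LsA q) = true := by decide +kernel

theorem chk_centX_14 : allR 9296 664 (fun q => centP 122760 11 f8 [0] 31 LA0 LsA q) = true := by decide +kernel

theorem chk_centX_15 : allR 9960 664 (fun q => centP 122760 11 f8 [0] 31 LA0 LsA q) = true := by decide +kernel

theorem chk_centX_16 : allR 10624 664 (fun q => centP 122760 11 f8 [0] 31 LA0 LsA q) = true := by decide +kernel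

theorem chk_centX_17 : allR 11288 664 (fun q => centP 122760 11 f8 [0] 31 LA0 LsA q) = true := by decide +kernel

theorem chk_centX_18 : allR 11952 664 (fun q => centP 122760 11 f8 [0] 31 LA0 LsA q) = true := by decide +kernel

theorem chk_centX_19 : allR 12616 664 (fun q => centP 122760 11 f8 [0] 31 LA0 LsA q) = true := by decide +kernel

theorem chk_centX_20 : allR 13280 664 (fun q => centP 122760 11 f8 [0] 31 LA0 LsA q) = true := by decide +kernel

theorem chk_centX_21 : allR 13944 664 (fun q => centP 122760 11 f8 [0] 31 LA0 LsA q) = true := by decide +kernel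

theorem chk_centX_22 : allR 14608 664 (fun q => centP 122760 11 f8 [0] 31 LA0 LsA q) = true := by decide +kernel

theorem chk_centX_23 : allR 15272 664 (fun q => centP 122760 11 f8 [0] 31 LA0 LsA q) = true := by decide +kernel

theorem chk_centX_24 : allR 15936 664 (fun q => centP 122760 11 f8 [0] 31 LA0 LsA q) = true := by decide +kernel


end Cfsg.Agent.Lib.Helper5.ONOut
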