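import Cfsg.Agent.Lib.Helper5.ONOut.D8
import Cfsg.Agent.Lib.Helper5.ONOut.D16
import Cfsg.Agent.Lib.Helper5.ONOut.D23

/-! # The outer automorphism group of the O'Nan group: the order of `x` (generated) -/

set_option autoImplicit false
set_option maxRecDepth 100000

namespace Cfsg.Agent.Lib.Helper5.ONOut

open Cfsg.Agent.PF Cfsg.Agent.Lib.Helper6 Cfsg.Agent.Lib.Helper6.TC Cfsg.Agent.Lib.Helper6.NatArr Cfsg.Agent.Lib.Helper5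
open Cfsg.Agent.PL (Acts evalF)

theorem chk_x_25 : allR 76725 3069 (fun q => Nat.beq ((fun q => f8 (f8 (f8 (f8 (f8 (f8 (f8 (f8 (f8 (f8 (f8 (f8 (f8 (f8 (f8 (f8 (f8 (f8 (f8 (f8 (f8 (f8 (f8 (f8 (f8 (f8 (f8 (f8 (f8 (f8 (f8 (q)))))))))))))))))))))))))))))))) q) ((fun q => q) q)) = true := by decide +kernel

theorem chk_x_26 : allR 79794 3069 (fun q => Nat.beq ((fun q => f8 (f8 (f8 (f8 (f8 (f8 (f8 (f8 (f8 (f8 (f8 (f8 (f8 (f8 (f8 (f8 (f8 (f8 (f8 (f8 (f8 (f8 (f8 (f8 (f8 (f8 (f8 (f8 (f8 (f8 (f8 (q)))))))))))))))))))))))))))))))) q) ((fun q => q) q)) = true := by decide +kernel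

theorem chk_x_27 : allR 82863 3069 (fun q => Nat.beq ((fun q => f8 (f8 (f8 (f8 (f8 (f8 (f8 (f8 (f8 (f8 (f8 (f8 (f8 (f8 (f8 (f8 (f8 (f8 (f8 (f8 (f8 (f8 (f8 (f8 (f8 (f8 (f8 (f8 (f8 (f8 (f8 (q)))))))))))))))))))))))))))))))) q) ((fun q => q) q)) = true := by decide +kernel

theorem chk_x_28 : allR 85932 3069 (fun q => Nat.beq ((fun q => f8 (f8 (f8 (f8 (f8 (f8 (f8 (f8 (f8 (f8 (f8 (f8 (f8 (f8 (f8 (f8 (f8 (f8 (f8 (f8 (f8 (f8 (f8 (f8 (f8 (f8 (f8 (f8 (f8 (f8 (f8 (q)))))))))))))))))))))))))))))))) q) ((fun q => q) q)) = true := by decide +kernel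

theorem chk_x_29 : allR 89001 3069 (fun q => Nat.beq ((fun q => f8 (f8 (f8 (f8 (f8 (f8 (f8 (f8 (f8 (f8 (f8 (f8 (f8 (f8 (f8 (f8 (f8 (f8 (f8 (f8 (f8 (f8 (f8 (f8 (f8 (f8 (f8 (f8 (f8 (f8 (f8 (q)))))))))))))))))))))))))))))))) q) ((fun q => q) q)) = true := by decide +kernel

theorem chk_x_30 : allR 92070 3069 (fun q => Nat.beq ((fun q => f8 (f8 (f8 (f8 (f8 (f8 (f8 (f8 (f8 (f8 (f8 (f8 (f8 (f8 (f8 (f8 (f8 (f8 (f8 (f8 (f8 (f8 (f8 (f8 (f8 (f8 (f8 (f8 (f8 (f8 (f8 (q)))))))))))))))))))))))))))))))) q) ((fun q => q) q)) = true := by decide +kernel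

theorem chk_x_31 : allR 95139 3069 (fun q => Nat.beq ((fun q => f8 (f8 (f8 (f8 (f8 (f8 (f8 (f8 (f8 (f8 (f8 (f8 (f8 (f8 (f8 (f8 (f8 (f8 (f8 (f8 (f8 (f8 (f8 (f8 (f8 (f8 (f8 (f8 (f8 (f8 (f8 (q)))))))))))))))))))))))))))))))) q) ((fun q => q) q)) = true := by decide +kernel

theorem chk_x_32 : allR 98208 3069 (fun q => Nat.beq ((fun q => f8 (f8 (f8 (f8 (f8 (f8 (f8 (f8 (f8 (f8 (f8 (f8 (f8 (f8 (f8 (f8 (f8 (f8 (f8 (f8 (f8 (f8 (f8 (f8 (f8 (f8 (f8 (f8 (f8 (f8 (f8 (q)))))))))))))))))))))))))))))))) q) ((fun q => q) q)) = true := by decide +kernel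

theorem chk_x_33 : allR 101277 3069 (fun q => Nat.beq ((fun q => f8 (f8 (f8 (f8 (f8 (f8 (f8 (f8 (f8 (f8 (f8 (f8 (f8 (f8 (f8 (f8 (f8 (f8 (f8 (f8 (f8 (f8 (f8 (f8 (f8 (f8 (f8 (f8 (f8 (f8 (f8 (q)))))))))))))))))))))))))))))))) q) ((fun q => q) q)) = true := by decide +kernel

theorem chk_x_34 : allR 104346 3069 (fun q => Nat.beq ((fun q => f8 (f8 (f8 (f8 (f8 (f8 (f8 (f8 (f8 (f8 (f8 (f8 (f8 (f8 (f8 (f8 (f8 (f8 (f8 (f8 (f8 (f8 (f8 (f8 (f8 (f8 (f8 (f8 (f8 (f8 (f8 (q)))))))))))))))))))))))))))))))) q) ((fun q => q) q)) = true := by decide +kernel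

theorem chk_x_35 : allR 107415 3069 (fun q => Nat.beq ((fun q => f8 (f8 (f8 (f8 (f8 (f8 (f8 (f8 (f8 (f8 (f8 (f8 (f8 (f8 (f8 (f8 (f8 (f8 (f8 (f8 (f8 (f8 (f8 (f8 (f8 (f8 (f8 (f8 (f8 (f8 (f8 (q)))))))))))))))))))))))))))))))) q) ((fun q => q) q)) = true := by decide +kernel

theorem chk_x_36 : allR 110484 3069 (fun q => Nat.beq ((fun q => f8 (f8 (f8 (f8 (f8 (f8 (f8 (f8 (f8 (f8 (f8 (f8 (f8 (f8 (f8 (f8 (f8 (f8 (f8 (f8 (f8 (f8 (f8 (f8 (f8 (f8 (f8 (f8 (f8 (f8 (f8 (q)))))))))))))))))))))))))))))))) q) ((fun q => q) q)) = true := by decide +kernel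

theorem chk_x_37 : allR 113553 3069 (fun q => Nat.beq ((fun q => f8 (f8 (f8 (f8 (f8 (f8 (f8 (f8 (f8 (f8 (f8 (f8 (f8 (f8 (f8 (f8 (f8 (f8 (f8 (f8 (f8 (f8 (f8 (f8 (f8 (f8 (f8 (f8 (f8 (f8 (f8 (q)))))))))))))))))))))))))))))))) q) ((fun q => q) q)) = true := by decide +kernel

theorem chk_x_38 : allR 116622 3069 (fun q => Nat.beq ((fun q => f8 (f8 (f8 (f8 (f8 (f8 (f8 (f8 (f8 (f8 (f8 (f8 (f8 (f8 (f8 (f8 (f8 (f8 (f8 (f8 (f8 (f8 (f8 (f8 (f8 (f8 (f8 (f8 (f8 (f8 (f8 (q)))))))))))))))))))))))))))))))) q) ((fun q => q) q)) = true := by decide +kernel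

theorem chk_x_39 : allR 119691 3069 (fun q => Nat.beq ((fun q => f8 (f8 (f8 (f8 (f8 (f8 (f8 (f8 (f8 (f8 (f8 (f8 (f8 (f8 (f8 (f8 (f8 (f8 (f8 (f8 (f8 (f8 (f8 (f8 (f8 (f8 (f8 (f8 (f8 (f8 (f8 (q)))))))))))))))))))))))))))))))) q) ((fun q => q) q)) = true := by decide +kernel


end Cfsg.Agent.Lib.Helper5.ONOut
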