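import Cfsg.Agent.Lib.Helper5.ONOut.ChkXx0
import Cfsg.Agent.Lib.Helper5.ONOut.ChkXx1
import Cfsg.Agent.Lib.Helper5.ONOut.ChkYXx0
import Cfsg.Agent.Lib.Helper5.ONOut.ChkWYx0

/-! # The outer automorphism group of the O'Nan group: the relations between `x`, `y`, `w` (generated) -/

set_option autoImplicit false
set_option maxRecDepth 100000

namespace Cfsg.Agent.Lib.Helper5.ONOut

open Cfsg.Agent.PF Cfsg.Agent.Lib.Helper6 Cfsg.Agent.Lib.Helper6.TC Cfsg.Agent.Lib.Helper6.NatArr Cfsg.Agent.Lib.Helper5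
open Cfsg.Agent.PL (Acts evalF)

/-- the order of `x` divides 31 -/
theorem chk_x : ∀ q < 122760, f8^[31] q = (fun q => q) q :=
  eq_of_chunks (f := (fun q => f8 (f8 (f8 (f8 (f8 (f8 (f8 (f8 (f8 (f8 (f8 (f8 (f8 (f8 (f8 (f8 (f8 (f8 (f8 (f8 (f8 (f8 (f8 (f8 (f8 (f8 (f8 (f8 (f8 (f8 (f8 (q))))))))))))))))))))))))))))))))) (g := (fun q => q)) [(0, 3069), (3069, 3069), (6138, 3069), (9207, 3069), (12276, 3069), (15345, 3069), (18414, 3069), (21483, 3069), (24552, 3069), (27621, 3069), (30690, 3069), (33759, 3069), (36828, 3069), (39897, 3069), (42966, 3069), (46035, 3069), (49104, 3069), (52173, 3069), (55242, 3069), (58311, 3069), (61380, 3069), (64449, 3069), (67518, 3069), (70587, 3069), (73656, 3069), (76725, 3069), (79794, 3069), (82863, 3069), (85932, 3069), (89001, 3069), (92070, 3069), (95139, 3069), (98208, 3069), (101277, 3069), (104346, 3069), (107415,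 3069), (110484, 3069), (113553, 3069), (116622, 3069), (119691, 3069)] (by decide) (List.forall_mem_cons.2 ⟨chk_x_0, List.forall_mem_cons.2 ⟨chk_x_1, List.forall_mem_cons.2 ⟨chk_x_2, List.forall_mem_cons.2 ⟨chk_x_3, List.forall_mem_cons.2 ⟨chk_x_4, List.forall_mem_cons.2 ⟨chk_x_5, List.forall_mem_cons.2 ⟨chk_x_6, List.forall_mem_cons.2 ⟨chk_x_7, List.forall_mem_cons.2 ⟨chk_x_8, List.forall_mem_cons.2 ⟨chk_x_9, List.forall_mem_cons.2 ⟨chk_x_10, List.forall_mem_cons.2 ⟨chk_x_11, List.forall_mem_cons.2 ⟨chk_x_12, List.forall_mem_cons.2 ⟨chk_x_13, List.forall_mem_cons.2 ⟨chk_x_14, List.forall_mem_cons.2 ⟨chk_x_15, List.forall_mem_cons.2 ⟨chk_x_16, List.forall_mem_cons.2 ⟨chk_x_17, List.forall_mem_cons.2 ⟨chk_x_18, List.forall_mem_cons.2 ⟨chk_x_19, List.forall_mem_cons.2 ⟨chk_x_20, List.forall_mem_cons.2 ⟨chk_x_21, List.forall_mem_cons.2 ⟨chk_x_22, List.forall_mem_cons.2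 ⟨chk_x_23, List.forall_mem_cons.2 ⟨chk_x_24, List.forall_mem_cons.2 ⟨chk_x_25, List.forall_mem_cons.2 ⟨chk_x_26, List.forall_mem_cons.2 ⟨chk_x_27, List.forall_mem_cons.2 ⟨chk_x_28, List.forall_mem_cons.2 ⟨chk_x_29, List.forall_mem_cons.2 ⟨chk_x_30, List.forall_mem_cons.2 ⟨chk_x_31, List.forall_mem_cons.2 ⟨chk_x_32, List.forall_mem_cons.2 ⟨chk_x_33, List.forall_mem_cons.2 ⟨chk_x_34, List.forall_mem_cons.2 ⟨chk_x_35, List.forall_mem_cons.2 ⟨chk_x_36, List.forall_mem_cons.2 ⟨chk_x_37, List.forall_mem_cons.2 ⟨chk_x_38, List.forall_mem_cons.2 ⟨chk_x_39, fun _ h => absurd h List.not_mem_nil⟩⟩⟩⟩⟩⟩⟩⟩⟩⟩⟩⟩⟩⟩⟩⟩⟩⟩⟩⟩⟩⟩⟩⟩⟩⟩⟩⟩⟩⟩⟩⟩⟩⟩⟩⟩⟩⟩⟩⟩)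

theorem chk_x1 : f8 1 ≠ 1 := by decide +kernel

/-- `y x = x ^ 9 y` -/
theorem chk_yx : ∀ q < 122760, (fun q => f16 (f8 q)) q = (fun q => f8^[9] (f16 q)) q :=
  eq_of_chunks (f := (fun q => f16 (f8 q))) (g := (fun q => f8 (f8 (f8 (f8 (f8 (f8 (f8 (f8 (f8 (f16 (q)))))))))))) [(0, 8184), (8184, 8184), (16368, 8184), (24552, 8184), (32736, 8184), (40920, 8184), (49104, 8184), (57288, 8184), (65472, 8184), (73656, 8184), (81840, 8184), (90024, 8184), (98208, 8184), (106392, 8184), (114576, 8184)] (by decide) (List.forall_mem_cons.2 ⟨chk_yx_0, List.forall_mem_cons.2 ⟨chk_yx_1, List.forall_mem_cons.2 ⟨chk_yx_2, List.forall_mem_cons.2 ⟨chk_yx_3, List.forall_mem_cons.2 ⟨chk_yx_4, List.forall_mem_cons.2 ⟨chk_yx_5, List.forall_mem_cons.2 ⟨chk_yx_6, List.forall_mem_cons.2 ⟨chk_yx_7, List.forall_mem_cons.2 ⟨chk_yx_8, List.forall_mem_cons.2 ⟨chk_yx_9, List.forall_mem_cons.2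 ⟨chk_yx_10, List.forall_mem_cons.2 ⟨chk_yx_11, List.forall_mem_cons.2 ⟨chk_yx_12, List.forall_mem_cons.2 ⟨chk_yx_13, List.forall_mem_cons.2 ⟨chk_yx_14, fun _ h => absurd h List.not_mem_nil⟩⟩⟩⟩⟩⟩⟩⟩⟩⟩⟩⟩⟩⟩⟩)

/-- `w y = y ^ 4 w` -/
theorem chk_wy : ∀ q < 122760, (fun q => f23 (f16 q)) q = (fun q => f16^[4] (f23 q)) q :=
  eq_of_chunks (f := (fun q => f23 (f16 q))) (g := (fun q => f16 (f16 (f16 (f16 (f23 (q))))))) [(0, 13640), (13640, 13640), (27280, 13640), (40920, 13640), (54560, 13640), (68200, 13640), (81840, 13640), (95480, 13640), (109120, 13640)] (by decide) (List.forall_mem_cons.2 ⟨chk_wy_0, List.forall_mem_cons.2 ⟨chk_wy_1, List.forall_mem_cons.2 ⟨chk_wy_2, List.forall_mem_cons.2 ⟨chk_wy_3, List.forall_mem_cons.2 ⟨chk_wy_4, List.forall_mem_cons.2 ⟨chk_wy_5, List.forall_mem_cons.2 ⟨chk_wy_6, List.forall_mem_cons.2 ⟨chk_wy_7, List.forall_mem_cons.2 ⟨chk_wy_8,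 fun _ h => absurd h List.not_mem_nil⟩⟩⟩⟩⟩⟩⟩⟩⟩)

end Cfsg.Agent.Lib.Helper5.ONOut
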