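import Cfsg.Agent.Lib.Helper5.ONOut.D8
import Cfsg.Agent.Lib.Helper5.ONOut.D16
import Cfsg.Agent.Lib.Helper5.ONOut.D23

/-! # The outer automorphism group of the O'Nan group: the order of `x` (generated) -/

set_option autoImplicit false
set_option maxRecDepth 100000

namespace Cfsg.Agent.Lib.Helper5.ONOut

open Cfsg.Agent.PF Cfsg.Agent.Lib.Helper6 Cfsg.Agent.Lib.Helper6.TC Cfsg.Agent.Lib.Helper6.NatArr Cfsg.Agent.Lib.Helper5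
open Cfsg.Agent.PL (Acts evalF)

theorem chk_x_0 : allR 0 3069 (fun q => Nat.beq ((fun q => f8 (f8 (f8 (f8 (f8 (f8 (f8 (f8 (f8 (f8 (f8 (f8 (f8 (f8 (f8 (f8 (f8 (f8 (f8 (f8 (f8 (f8 (f8 (f8 (f8 (f8 (f8 (f8 (f8 (f8 (f8 (q)))))))))))))))))))))))))))))))) q) ((fun q => q) q)) = true := by decide +kernel

theorem chk_x_1 : allR 3069 3069 (fun q => Nat.beq ((fun q => f8 (f8 (f8 (f8 (f8 (f8 (f8 (f8 (f8 (f8 (f8 (f8 (f8 (f8 (f8 (f8 (f8 (f8 (f8 (f8 (f8 (f8 (f8 (f8 (f8 (f8 (f8 (f8 (f8 (f8 (f8 (q)))))))))))))))))))))))))))))))) q) ((fun q => q) q)) = true := by decide +kernel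

theorem chk_x_2 : allR 6138 3069 (fun q => Nat.beq ((fun q => f8 (f8 (f8 (f8 (f8 (f8 (f8 (f8 (f8 (f8 (f8 (f8 (f8 (f8 (f8 (f8 (f8 (f8 (f8 (f8 (f8 (f8 (f8 (f8 (f8 (f8 (f8 (f8 (f8 (f8 (f8 (q)))))))))))))))))))))))))))))))) q) ((fun q => q) q)) = true := by decide +kernel

theorem chk_x_3 : allR 9207 3069 (fun q => Nat.beq ((fun q => f8 (f8 (f8 (f8 (f8 (f8 (f8 (f8 (f8 (f8 (f8 (f8 (f8 (f8 (f8 (f8 (f8 (f8 (f8 (f8 (f8 (f8 (f8 (f8 (f8 (f8 (f8 (f8 (f8 (f8 (f8 (q)))))))))))))))))))))))))))))))) q) ((fun q => q) q)) = true := by decide +kernel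

theorem chk_x_4 : allR 12276 3069 (fun q => Nat.beq ((fun q => f8 (f8 (f8 (f8 (f8 (f8 (f8 (f8 (f8 (f8 (f8 (f8 (f8 (f8 (f8 (f8 (f8 (f8 (f8 (f8 (f8 (f8 (f8 (f8 (f8 (f8 (f8 (f8 (f8 (f8 (f8 (q)))))))))))))))))))))))))))))))) q) ((fun q => q) q)) = true := by decide +kernel

theorem chk_x_5 : allR 15345 3069 (fun q => Nat.beq ((fun q => f8 (f8 (f8 (f8 (f8 (f8 (f8 (f8 (f8 (f8 (f8 (f8 (f8 (f8 (f8 (f8 (f8 (f8 (f8 (f8 (f8 (f8 (f8 (f8 (f8 (f8 (f8 (f8 (f8 (f8 (f8 (q)))))))))))))))))))))))))))))))) q) ((fun q => q) q)) = true := by decide +kernel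

theorem chk_x_6 : allR 18414 3069 (fun q => Nat.beq ((fun q => f8 (f8 (f8 (f8 (f8 (f8 (f8 (f8 (f8 (f8 (f8 (f8 (f8 (f8 (f8 (f8 (f8 (f8 (f8 (f8 (f8 (f8 (f8 (f8 (f8 (f8 (f8 (f8 (f8 (f8 (f8 (q)))))))))))))))))))))))))))))))) q) ((fun q => q) q)) = true := by decide +kernel

theorem chk_x_7 : allR 21483 3069 (fun q => Nat.beq ((fun q => f8 (f8 (f8 (f8 (f8 (f8 (f8 (f8 (f8 (f8 (f8 (f8 (f8 (f8 (f8 (f8 (f8 (f8 (f8 (f8 (f8 (f8 (f8 (f8 (f8 (f8 (f8 (f8 (f8 (f8 (f8 (q)))))))))))))))))))))))))))))))) q) ((fun q => q) q)) = true := by decide +kernel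

theorem chk_x_8 : allR 24552 3069 (fun q => Nat.beq ((fun q => f8 (f8 (f8 (f8 (f8 (f8 (f8 (f8 (f8 (f8 (f8 (f8 (f8 (f8 (f8 (f8 (f8 (f8 (f8 (f8 (f8 (f8 (f8 (f8 (f8 (f8 (f8 (f8 (f8 (f8 (f8 (q)))))))))))))))))))))))))))))))) q) ((fun q => q) q)) = true := by decide +kernel

theorem chk_x_9 : allR 27621 3069 (fun q => Nat.beq ((fun q => f8 (f8 (f8 (f8 (f8 (f8 (f8 (f8 (f8 (f8 (f8 (f8 (f8 (f8 (f8 (f8 (f8 (f8 (f8 (f8 (f8 (f8 (f8 (f8 (f8 (f8 (f8 (f8 (f8 (f8 (f8 (q)))))))))))))))))))))))))))))))) q) ((fun q => q) q)) = true := by decide +kernel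

theorem chk_x_10 : allR 30690 3069 (fun q => Nat.beq ((fun q => f8 (f8 (f8 (f8 (f8 (f8 (f8 (f8 (f8 (f8 (f8 (f8 (f8 (f8 (f8 (f8 (f8 (f8 (f8 (f8 (f8 (f8 (f8 (f8 (f8 (f8 (f8 (f8 (f8 (f8 (f8 (q)))))))))))))))))))))))))))))))) q) ((fun q => q) q)) = true := by decide +kernel

theorem chk_x_11 : allR 33759 3069 (fun q => Nat.beq ((fun q => f8 (f8 (f8 (f8 (f8 (f8 (f8 (f8 (f8 (f8 (f8 (f8 (f8 (f8 (f8 (f8 (f8 (f8 (f8 (f8 (f8 (f8 (f8 (f8 (f8 (f8 (f8 (f8 (f8 (f8 (f8 (q)))))))))))))))))))))))))))))))) q) ((fun q => q) q)) = true := by decide +kernel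

theorem chk_x_12 : allR 36828 3069 (fun q => Nat.beq ((fun q => f8 (f8 (f8 (f8 (f8 (f8 (f8 (f8 (f8 (f8 (f8 (f8 (f8 (f8 (f8 (f8 (f8 (f8 (f8 (f8 (f8 (f8 (f8 (f8 (f8 (f8 (f8 (f8 (f8 (f8 (f8 (q)))))))))))))))))))))))))))))))) q) ((fun q => q) q)) = true := by decide +kernel

theorem chk_x_13 : allR 39897 3069 (fun q => Nat.beq ((fun q => f8 (f8 (f8 (f8 (f8 (f8 (f8 (f8 (f8 (f8 (f8 (f8 (f8 (f8 (f8 (f8 (f8 (f8 (f8 (f8 (f8 (f8 (f8 (f8 (f8 (f8 (f8 (f8 (f8 (f8 (f8 (q)))))))))))))))))))))))))))))))) q) ((fun q => q) q)) = true := by decide +kernel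

theorem chk_x_14 : allR 42966 3069 (fun q => Nat.beq ((fun q => f8 (f8 (f8 (f8 (f8 (f8 (f8 (f8 (f8 (f8 (f8 (f8 (f8 (f8 (f8 (f8 (f8 (f8 (f8 (f8 (f8 (f8 (f8 (f8 (f8 (f8 (f8 (f8 (f8 (f8 (f8 (q)))))))))))))))))))))))))))))))) q) ((fun q => q) q)) = true := by decide +kernel

theorem chk_x_15 : allR 46035 3069 (fun q => Nat.beq ((fun q => f8 (f8 (f8 (f8 (f8 (f8 (f8 (f8 (f8 (f8 (f8 (f8 (f8 (f8 (f8 (f8 (f8 (f8 (f8 (f8 (f8 (f8 (f8 (f8 (f8 (f8 (f8 (f8 (f8 (f8 (f8 (q)))))))))))))))))))))))))))))))) q) ((fun q => q) q)) = true := by decide +kernel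

theorem chk_x_16 : allR 49104 3069 (fun q => Nat.beq ((fun q => f8 (f8 (f8 (f8 (f8 (f8 (f8 (f8 (f8 (f8 (f8 (f8 (f8 (f8 (f8 (f8 (f8 (f8 (f8 (f8 (f8 (f8 (f8 (f8 (f8 (f8 (f8 (f8 (f8 (f8 (f8 (q)))))))))))))))))))))))))))))))) q) ((fun q => q) q)) = true := by decide +kernel

theorem chk_x_17 : allR 52173 3069 (fun q => Nat.beq ((fun q => f8 (f8 (f8 (f8 (f8 (f8 (f8 (f8 (f8 (f8 (f8 (f8 (f8 (f8 (f8 (f8 (f8 (f8 (f8 (f8 (f8 (f8 (f8 (f8 (f8 (f8 (f8 (f8 (f8 (f8 (f8 (q)))))))))))))))))))))))))))))))) q) ((fun q => q) q)) = true := by decide +kernel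

theorem chk_x_18 : allR 55242 3069 (fun q => Nat.beq ((fun q => f8 (f8 (f8 (f8 (f8 (f8 (f8 (f8 (f8 (f8 (f8 (f8 (f8 (f8 (f8 (f8 (f8 (f8 (f8 (f8 (f8 (f8 (f8 (f8 (f8 (f8 (f8 (f8 (f8 (f8 (f8 (q)))))))))))))))))))))))))))))))) q) ((fun q => q) q)) = true := by decide +kernel

theorem chk_x_19 : allR 58311 3069 (fun q => Nat.beq ((fun q => f8 (f8 (f8 (f8 (f8 (f8 (f8 (f8 (f8 (f8 (f8 (f8 (f8 (f8 (f8 (f8 (f8 (f8 (f8 (f8 (f8 (f8 (f8 (f8 (f8 (f8 (f8 (f8 (f8 (f8 (f8 (q)))))))))))))))))))))))))))))))) q) ((fun q => q) q)) = true := by decide +kernel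

theorem chk_x_20 : allR 61380 3069 (fun q => Nat.beq ((fun q => f8 (f8 (f8 (f8 (f8 (f8 (f8 (f8 (f8 (f8 (f8 (f8 (f8 (f8 (f8 (f8 (f8 (f8 (f8 (f8 (f8 (f8 (f8 (f8 (f8 (f8 (f8 (f8 (f8 (f8 (f8 (q)))))))))))))))))))))))))))))))) q) ((fun q => q) q)) = true := by decide +kernel

theorem chk_x_21 : allR 64449 3069 (fun q => Nat.beq ((fun q => f8 (f8 (f8 (f8 (f8 (f8 (f8 (f8 (f8 (f8 (f8 (f8 (f8 (f8 (f8 (f8 (f8 (f8 (f8 (f8 (f8 (f8 (f8 (f8 (f8 (f8 (f8 (f8 (f8 (f8 (f8 (q)))))))))))))))))))))))))))))))) q) ((fun q => q) q)) = true := by decide +kernel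

theorem chk_x_22 : allR 67518 3069 (fun q => Nat.beq ((fun q => f8 (f8 (f8 (f8 (f8 (f8 (f8 (f8 (f8 (f8 (f8 (f8 (f8 (f8 (f8 (f8 (f8 (f8 (f8 (f8 (f8 (f8 (f8 (f8 (f8 (f8 (f8 (f8 (f8 (f8 (f8 (q)))))))))))))))))))))))))))))))) q) ((fun q => q) q)) = true := by decide +kernel

theorem chk_x_23 : allR 70587 3069 (fun q => Nat.beq ((fun q => f8 (f8 (f8 (f8 (f8 (f8 (f8 (f8 (f8 (f8 (f8 (f8 (f8 (f8 (f8 (f8 (f8 (f8 (f8 (f8 (f8 (f8 (f8 (f8 (f8 (f8 (f8 (f8 (f8 (f8 (f8 (q)))))))))))))))))))))))))))))))) q) ((fun q => q) q)) = true := by decide +kernel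

theorem chk_x_24 : allR 73656 3069 (fun q => Nat.beq ((fun q => f8 (f8 (f8 (f8 (f8 (f8 (f8 (f8 (f8 (f8 (f8 (f8 (f8 (f8 (f8 (f8 (f8 (f8 (f8 (f8 (f8 (f8 (f8 (f8 (f8 (f8 (f8 (f8 (f8 (f8 (f8 (q)))))))))))))))))))))))))))))))) q) ((fun q => q) q)) = true := by decide +kernel


end Cfsg.Agent.Lib.Helper5.ONOut
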