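import Cfsg.Agent.Lib.Helper5.ONOut.LevA

/-! # The outer automorphism group of the O'Nan group: the number of points of the tree number 1 of the chain `A`, a part (generated) -/

set_option autoImplicit false
set_option maxRecDepth 100000

namespace Cfsg.Agent.Lib.Helper5.ONOut

open Cfsg.Agent.PF Cfsg.Agent.Lib.Helper6 Cfsg.Agent.Lib.Helper6.TC Cfsg.Agent.Lib.Helper6.NatArr Cfsg.Agent.Lib.Helper5
open Cfsg.Agent.PL (Acts evalF)

theorem cntA1_25 : countR 102300 4092 (traceTo LA1.2.1 LA1.2.2 LA1.1 11) = 1606 := by decide +kernel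

theorem cntA1_26 : countR 106392 4092 (traceTo LA1.2.1 LA1.2.2 LA1.1 11) = 1670 := by decide +kernel

theorem cntA1_27 : countR 110484 4092 (traceTo LA1.2.1 LA1.2.2 LA1.1 11) = 1634 := by decide +kernel

theorem cntA1_28 : countR 114576 4092 (traceTo LA1.2.1 LA1.2.2 LA1.1 11) = 1520 := by decide +kernel

theorem cntA1_29 : countR 118668 4092 (traceTo LA1.2.1 LA1.2.2 LA1.1 11) = 1275 := by decide +kernel


end Cfsg.Agent.Lib.Helper5.ONOut
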