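import Cfsg.Agent.Lib.Helper5.ONOut.CntA1x0
import Cfsg.Agent.Lib.Helper5.ONOut.CntA1x1

/-! # The outer automorphism group of the O'Nan group: the number of points of the tree number 1 of the chain `A` (generated) -/

set_option autoImplicit false
set_option maxRecDepth 100000

namespace Cfsg.Agent.Lib.Helper5.ONOut

open Cfsg.Agent.PF Cfsg.Agent.Lib.Helper6 Cfsg.Agent.Lib.Helper6.TC Cfsg.Agent.Lib.Helper6.NatArr Cfsg.Agent.Lib.Helper5
open Cfsg.Agent.PL (Acts evalF)

/-- the number of points of the tree number 1 of the chain `A` -/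
theorem lenA1 : (orbitL 122760 LA1.2.1 LA1.2.2 LA1.1 11).length = 52136 := by
  rw [length_orbitL]
  exact (countR_append cntA1_0 (countR_append cntA1_1 (countR_append cntA1_2 (countR_append cntA1_3 (countR_append cntA1_4 (countR_append cntA1_5 (countR_append cntA1_6 (countR_append cntA1_7 (countR_append cntA1_8 (countR_append cntA1_9 (countR_append cntA1_10 (countR_append cntA1_11 (countR_append cntA1_12 (countR_append cntA1_13 (countR_append cntA1_14 (countR_append cntA1_15 (countR_append cntA1_16 (countR_append cntA1_17 (countR_append cntA1_18 (countR_append cntA1_19 (countR_append cntA1_20 (countR_append cntA1_21 (countR_append cntA1_22 (countR_append cntA1_23 (countR_append cntA1_24 (countR_append cntA1_25 (countR_append cntA1_26 (countR_append cntA1_27 (countR_append cntA1_28 (cntA1_29))))))))))))))))))))))))))))) :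
    countR 0 (4092 + (4092 + (4092 + (4092 + (4092 + (4092 + (4092 + (4092 + (4092 + (4092 + (4092 + (4092 + (4092 + (4092 + (4092 + (4092 + (4092 + (4092 + (4092 + (4092 + (4092 + (4092 + (4092 + (4092 + (4092 + (4092 + (4092 + (4092 + (4092 + (4092)))))))))))))))))))))))))))))) (traceTo LA1.2.1 LA1.2.2 LA1.1 11) = 1458 + (1691 + (1894 + (1894 + (1955 + (1957 + (1932 + (1886 + (1885 + (1807 + (1935 + (1818 + (1788 + (1750 + (1753 + (1770 + (1692 + (1790 + (1718 + (1753 + (1696 + (1691 + (1702 + (1564 + (1652 + (1606 + (1670 + (1634 + (1520 + (1275))))))))))))))))))))))))))))))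

end Cfsg.Agent.Lib.Helper5.ONOut
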