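import Cfsg.Agent.Lib.Helper5.ONOut.CntA2x0

/-! # The outer automorphism group of the O'Nan group: the number of points of the tree number 2 of the chain `A` (generated) -/

set_option autoImplicit false
set_option maxRecDepth 100000

namespace Cfsg.Agent.Lib.Helper5.ONOut

open Cfsg.Agent.PF Cfsg.Agent.Lib.Helper6 Cfsg.Agent.Lib.Helper6.TC Cfsg.Agent.Lib.Helper6.NatArr Cfsg.Agent.Lib.Helper5
open Cfsg.Agent.PL (Acts evalF)

/-- the number of points of the tree number 2 of the chain `A` -/
theorem lenA2 : (orbitL 122760 LA2.2.1 LA2.2.2 LA2.1 11).length = 72 := by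
  rw [length_orbitL]
  exact (countR_append cntA2_0 (countR_append cntA2_1 (countR_append cntA2_2 (countR_append cntA2_3 (countR_append cntA2_4 (countR_append cntA2_5 (countR_append cntA2_6 (countR_append cntA2_7 (countR_append cntA2_8 (countR_append cntA2_9 (countR_append cntA2_10 (countR_append cntA2_11 (countR_append cntA2_12 (countR_append cntA2_13 (countR_append cntA2_14 (countR_append cntA2_15 (countR_append cntA2_16 (countR_append cntA2_17 (cntA2_18)))))))))))))))))) :
    countR 0 (6462 + (6462 + (6462 + (6462 + (6462 + (6462 + (6462 + (6462 + (6462 + (6462 + (6462 + (6462 + (6462 + (6462 + (6462 + (6462 + (6462 + (6462 + (6444))))))))))))))))))) (traceTo LA2.2.1 LA2.2.2 LA2.1 11) = 7 + (6 + (4 + (7 + (7 + (3 + (4 + (3 + (0 + (0 + (3 + (2 + (5 + (1 + (5 + (4 + (4 + (5 + (2)))))))))))))))))))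

end Cfsg.Agent.Lib.Helper5.ONOut
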