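import Cfsg.Agent.Lib.Helper5.ONOut.CntA0x0
import Cfsg.Agent.Lib.Helper5.ONOut.CntA0x1

/-! # The outer automorphism group of the O'Nan group: the number of points of the tree number 0 of the chain `A` (generated) -/

set_option autoImplicit false
set_option maxRecDepth 100000

namespace Cfsg.Agent.Lib.Helper5.ONOut

open Cfsg.Agent.PF Cfsg.Agent.Lib.Helper6 Cfsg.Agent.Lib.Helper6.TC Cfsg.Agent.Lib.Helper6.NatArr Cfsg.Agent.Lib.Helper5
open Cfsg.Agent.PL (Acts evalF)

/-- the number of points of the tree number 0 of the chain `A` -/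
theorem lenA0 : (orbitL 122760 LA0.2.1 LA0.2.2 LA0.1 11).length = 122760 := by
  rw [length_orbitL]
  exact (countR_append cntA0_0 (countR_append cntA0_1 (countR_append cntA0_2 (countR_append cntA0_3 (countR_append cntA0_4 (countR_append cntA0_5 (countR_append cntA0_6 (countR_append cntA0_7 (countR_append cntA0_8 (countR_append cntA0_9 (countR_append cntA0_10 (countR_append cntA0_11 (countR_append cntA0_12 (countR_append cntA0_13 (countR_append cntA0_14 (countR_append cntA0_15 (countR_append cntA0_16 (countR_append cntA0_17 (countR_append cntA0_18 (countR_append cntA0_19 (countR_append cntA0_20 (countR_append cntA0_21 (countR_append cntA0_22 (countR_append cntA0_23 (countR_append cntA0_24 (cntA0_25))))))))))))))))))))))))) :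
    countR 0 (4722 + (4722 + (4722 + (4722 + (4722 + (4722 + (4722 + (4722 + (4722 + (4722 + (4722 + (4722 + (4722 + (4722 + (4722 + (4722 + (4722 + (4722 + (4722 + (4722 + (4722 + (4722 + (4722 + (4722 + (4722 + (4710)))))))))))))))))))))))))) (traceTo LA0.2.1 LA0.2.2 LA0.1 11) = 4722 + (4722 + (4722 + (4722 + (4722 + (4722 + (4722 + (4722 + (4722 + (4722 + (4722 + (4722 + (4722 + (4722 + (4722 + (4722 + (4722 + (4722 + (4722 + (4722 + (4722 + (4722 + (4722 + (4722 + (4722 + (4710))))))))))))))))))))))))))

end Cfsg.Agent.Lib.Helper5.ONOut
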