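import Cfsg.Agent.Lib.Helper5.ONOut.LevA

/-! # The outer automorphism group of the O'Nan group: the number of points of the tree number 0 of the chain `A`, a part (generated) -/

set_option autoImplicit false
set_option maxRecDepth 100000

namespace Cfsg.Agent.Lib.Helper5.ONOut

open Cfsg.Agent.PF Cfsg.Agent.Lib.Helper6 Cfsg.Agent.Lib.Helper6.TC Cfsg.Agent.Lib.Helper6.NatArr Cfsg.Agent.Lib.Helper5
open Cfsg.Agent.PL (Acts evalF)

theorem cntA0_0 : countR 0 4722 (traceTo LA0.2.1 LA0.2.2 LA0.1 11) = 4722 := by decide +kernel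

theorem cntA0_1 : countR 4722 4722 (traceTo LA0.2.1 LA0.2.2 LA0.1 11) = 4722 := by decide +kernel

theorem cntA0_2 : countR 9444 4722 (traceTo LA0.2.1 LA0.2.2 LA0.1 11) = 4722 := by decide +kernel

theorem cntA0_3 : countR 14166 4722 (traceTo LA0.2.1 LA0.2.2 LA0.1 11) = 4722 := by decide +kernel

theorem cntA0_4 : countR 18888 4722 (traceTo LA0.2.1 LA0.2.2 LA0.1 11) = 4722 := by decide +kernel

theorem cntA0_5 : countR 23610 4722 (traceTo LA0.2.1 LA0.2.2 LA0.1 11) = 4722 := by decide +kernel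

theorem cntA0_6 : countR 28332 4722 (traceTo LA0.2.1 LA0.2.2 LA0.1 11) = 4722 := by decide +kernel

theorem cntA0_7 : countR 33054 4722 (traceTo LA0.2.1 LA0.2.2 LA0.1 11) = 4722 := by decide +kernel

theorem cntA0_8 : countR 37776 4722 (traceTo LA0.2.1 LA0.2.2 LA0.1 11) = 4722 := by decide +kernel

theorem cntA0_9 : countR 42498 4722 (traceTo LA0.2.1 LA0.2.2 LA0.1 11) = 4722 := by decide +kernel

theorem cntA0_10 : countR 47220 4722 (traceTo LA0.2.1 LA0.2.2 LA0.1 11) = 4722 := by decide +kernel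

theorem cntA0_11 : countR 51942 4722 (traceTo LA0.2.1 LA0.2.2 LA0.1 11) = 4722 := by decide +kernel

theorem cntA0_12 : countR 56664 4722 (traceTo LA0.2.1 LA0.2.2 LA0.1 11) = 4722 := by decide +kernel

theorem cntA0_13 : countR 61386 4722 (traceTo LA0.2.1 LA0.2.2 LA0.1 11) = 4722 := by decide +kernel

theorem cntA0_14 : countR 66108 4722 (traceTo LA0.2.1 LA0.2.2 LA0.1 11) = 4722 := by decide +kernel

theorem cntA0_15 : countR 70830 4722 (traceTo LA0.2.1 LA0.2.2 LA0.1 11) = 4722 := by decide +kernel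

theorem cntA0_16 : countR 75552 4722 (traceTo LA0.2.1 LA0.2.2 LA0.1 11) = 4722 := by decide +kernel

theorem cntA0_17 : countR 80274 4722 (traceTo LA0.2.1 LA0.2.2 LA0.1 11) = 4722 := by decide +kernel

theorem cntA0_18 : countR 84996 4722 (traceTo LA0.2.1 LA0.2.2 LA0.1 11) = 4722 := by decide +kernel

theorem cntA0_19 : countR 89718 4722 (traceTo LA0.2.1 LA0.2.2 LA0.1 11) = 4722 := by decide +kernel

theorem cntA0_20 : countR 94440 4722 (traceTo LA0.2.1 LA0.2.2 LA0.1 11) = 4722 := by decide +kernel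

theorem cntA0_21 : countR 99162 4722 (traceTo LA0.2.1 LA0.2.2 LA0.1 11) = 4722 := by decide +kernel

theorem cntA0_22 : countR 103884 4722 (traceTo LA0.2.1 LA0.2.2 LA0.1 11) = 4722 := by decide +kernel

theorem cntA0_23 : countR 108606 4722 (traceTo LA0.2.1 LA0.2.2 LA0.1 11) = 4722 := by decide +kernel

theorem cntA0_24 : countR 113328 4722 (traceTo LA0.2.1 LA0.2.2 LA0.1 11) = 4722 := by decide +kernel


end Cfsg.Agent.Lib.Helper5.ONOut
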