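import Cfsg.Agent.Lib.Helper5.ONOut.LevA

/-! # The outer automorphism group of the O'Nan group: the number of points of the tree number 1 of the chain `A`, a part (generated) -/

set_option autoImplicit false
set_option maxRecDepth 100000

namespace Cfsg.Agent.Lib.Helper5.ONOut

open Cfsg.Agent.PF Cfsg.Agent.Lib.Helper6 Cfsg.Agent.Lib.Helper6.TC Cfsg.Agent.Lib.Helper6.NatArr Cfsg.Agent.Lib.Helper5
open Cfsg.Agent.PL (Acts evalF)

theorem cntA1_0 : countR 0 4092 (traceTo LA1.2.1 LA1.2.2 LA1.1 11) = 1458 := by decide +kernel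

theorem cntA1_1 : countR 4092 4092 (traceTo LA1.2.1 LA1.2.2 LA1.1 11) = 1691 := by decide +kernel

theorem cntA1_2 : countR 8184 4092 (traceTo LA1.2.1 LA1.2.2 LA1.1 11) = 1894 := by decide +kernel

theorem cntA1_3 : countR 12276 4092 (traceTo LA1.2.1 LA1.2.2 LA1.1 11) = 1894 := by decide +kernel

theorem cntA1_4 : countR 16368 4092 (traceTo LA1.2.1 LA1.2.2 LA1.1 11) = 1955 := by decide +kernel

theorem cntA1_5 : countR 20460 4092 (traceTo LA1.2.1 LA1.2.2 LA1.1 11) = 1957 := by decide +kernel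

theorem cntA1_6 : countR 24552 4092 (traceTo LA1.2.1 LA1.2.2 LA1.1 11) = 1932 := by decide +kernel

theorem cntA1_7 : countR 28644 4092 (traceTo LA1.2.1 LA1.2.2 LA1.1 11) = 1886 := by decide +kernel

theorem cntA1_8 : countR 32736 4092 (traceTo LA1.2.1 LA1.2.2 LA1.1 11) = 1885 := by decide +kernel

theorem cntA1_9 : countR 36828 4092 (traceTo LA1.2.1 LA1.2.2 LA1.1 11) = 1807 := by decide +kernel

theorem cntA1_10 : countR 40920 4092 (traceTo LA1.2.1 LA1.2.2 LA1.1 11) = 1935 := by decide +kernel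

theorem cntA1_11 : countR 45012 4092 (traceTo LA1.2.1 LA1.2.2 LA1.1 11) = 1818 := by decide +kernel

theorem cntA1_12 : countR 49104 4092 (traceTo LA1.2.1 LA1.2.2 LA1.1 11) = 1788 := by decide +kernel

theorem cntA1_13 : countR 53196 4092 (traceTo LA1.2.1 LA1.2.2 LA1.1 11) = 1750 := by decide +kernel

theorem cntA1_14 : countR 57288 4092 (traceTo LA1.2.1 LA1.2.2 LA1.1 11) = 1753 := by decide +kernel

theorem cntA1_15 : countR 61380 4092 (traceTo LA1.2.1 LA1.2.2 LA1.1 11) = 1770 := by decide +kernel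

theorem cntA1_16 : countR 65472 4092 (traceTo LA1.2.1 LA1.2.2 LA1.1 11) = 1692 := by decide +kernel

theorem cntA1_17 : countR 69564 4092 (traceTo LA1.2.1 LA1.2.2 LA1.1 11) = 1790 := by decide +kernel

theorem cntA1_18 : countR 73656 4092 (traceTo LA1.2.1 LA1.2.2 LA1.1 11) = 1718 := by decide +kernel

theorem cntA1_19 : countR 77748 4092 (traceTo LA1.2.1 LA1.2.2 LA1.1 11) = 1753 := by decide +kernel

theorem cntA1_20 : countR 81840 4092 (traceTo LA1.2.1 LA1.2.2 LA1.1 11) = 1696 := by decide +kernel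

theorem cntA1_21 : countR 85932 4092 (traceTo LA1.2.1 LA1.2.2 LA1.1 11) = 1691 := by decide +kernel

theorem cntA1_22 : countR 90024 4092 (traceTo LA1.2.1 LA1.2.2 LA1.1 11) = 1702 := by decide +kernel

theorem cntA1_23 : countR 94116 4092 (traceTo LA1.2.1 LA1.2.2 LA1.1 11) = 1564 := by decide +kernel

theorem cntA1_24 : countR 98208 4092 (traceTo LA1.2.1 LA1.2.2 LA1.1 11) = 1652 := by decide +kernel


end Cfsg.Agent.Lib.Helper5.ONOut
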