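import Cfsg.Agent.Lib.Helper5.ONOut.LevA

/-! # The outer automorphism group of the O'Nan group: the number of points of the tree number 2 of the chain `A`, a part (generated) -/

set_option autoImplicit false
set_option maxRecDepth 100000

namespace Cfsg.Agent.Lib.Helper5.ONOut

open Cfsg.Agent.PF Cfsg.Agent.Lib.Helper6 Cfsg.Agent.Lib.Helper6.TC Cfsg.Agent.Lib.Helper6.NatArr Cfsg.Agent.Lib.Helper5
open Cfsg.Agent.PL (Acts evalF)

theorem cntA2_0 : countR 0 6462 (traceTo LA2.2.1 LA2.2.2 LA2.1 11) = 7 := by decide +kernel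

theorem cntA2_1 : countR 6462 6462 (traceTo LA2.2.1 LA2.2.2 LA2.1 11) = 6 := by decide +kernel

theorem cntA2_2 : countR 12924 6462 (traceTo LA2.2.1 LA2.2.2 LA2.1 11) = 4 := by decide +kernel

theorem cntA2_3 : countR 19386 6462 (traceTo LA2.2.1 LA2.2.2 LA2.1 11) = 7 := by decide +kernel

theorem cntA2_4 : countR 25848 6462 (traceTo LA2.2.1 LA2.2.2 LA2.1 11) = 7 := by decide +kernel

theorem cntA2_5 : countR 32310 6462 (traceTo LA2.2.1 LA2.2.2 LA2.1 11) = 3 := by decide +kernel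

theorem cntA2_6 : countR 38772 6462 (traceTo LA2.2.1 LA2.2.2 LA2.1 11) = 4 := by decide +kernel

theorem cntA2_7 : countR 45234 6462 (traceTo LA2.2.1 LA2.2.2 LA2.1 11) = 3 := by decide +kernel

theorem cntA2_8 : countR 51696 6462 (traceTo LA2.2.1 LA2.2.2 LA2.1 11) = 0 := by decide +kernel

theorem cntA2_9 : countR 58158 6462 (traceTo LA2.2.1 LA2.2.2 LA2.1 11) = 0 := by decide +kernel

theorem cntA2_10 : countR 64620 6462 (traceTo LA2.2.1 LA2.2.2 LA2.1 11) = 3 := by decide +kernel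

theorem cntA2_11 : countR 71082 6462 (traceTo LA2.2.1 LA2.2.2 LA2.1 11) = 2 := by decide +kernel

theorem cntA2_12 : countR 77544 6462 (traceTo LA2.2.1 LA2.2.2 LA2.1 11) = 5 := by decide +kernel

theorem cntA2_13 : countR 84006 6462 (traceTo LA2.2.1 LA2.2.2 LA2.1 11) = 1 := by decide +kernel

theorem cntA2_14 : countR 90468 6462 (traceTo LA2.2.1 LA2.2.2 LA2.1 11) = 5 := by decide +kernel

theorem cntA2_15 : countR 96930 6462 (traceTo LA2.2.1 LA2.2.2 LA2.1 11) = 4 := by decide +kernel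

theorem cntA2_16 : countR 103392 6462 (traceTo LA2.2.1 LA2.2.2 LA2.1 11) = 4 := by decide +kernel

theorem cntA2_17 : countR 109854 6462 (traceTo LA2.2.1 LA2.2.2 LA2.1 11) = 5 := by decide +kernel

theorem cntA2_18 : countR 116316 6444 (traceTo LA2.2.1 LA2.2.2 LA2.1 11) = 2 := by decide +kernel


end Cfsg.Agent.Lib.Helper5.ONOut
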