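import Cfsg.Agent.Lib.Helper5.ONOut.CntB1x0
import Cfsg.Agent.Lib.Helper5.ONOut.CntB1x1

/-! # The outer automorphism group of the O'Nan group: the number of points of the tree number 1 of the chain `B` (generated) -/

set_option autoImplicit false
set_option maxRecDepth 100000

namespace Cfsg.Agent.Lib.Helper5.ONOut

open Cfsg.Agent.PF Cfsg.Agent.Lib.Helper6 Cfsg.Agent.Lib.Helper6.TC Cfsg.Agent.Lib.Helper6.NatArr Cfsg.Agent.Lib.Helper5
open Cfsg.Agent.PL (Acts evalF)

/-- the number of points of the tree number 1 of the chain `B` -/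
theorem lenB1 : (orbitL 122760 LB1.2.1 LB1.2.2 LB1.1 11).length = 52136 := by
  rw [length_orbitL]
  exact (countR_append cntB1_0 (countR_append cntB1_1 (countR_append cntB1_2 (countR_append cntB1_3 (countR_append cntB1_4 (countR_append cntB1_5 (countR_append cntB1_6 (countR_append cntB1_7 (countR_append cntB1_8 (countR_append cntB1_9 (countR_append cntB1_10 (countR_append cntB1_11 (countR_append cntB1_12 (countR_append cntB1_13 (countR_append cntB1_14 (countR_append cntB1_15 (countR_append cntB1_16 (countR_append cntB1_17 (countR_append cntB1_18 (countR_append cntB1_19 (countR_append cntB1_20 (countR_append cntB1_21 (countR_append cntB1_22 (countR_append cntB1_23 (countR_append cntB1_24 (countR_append cntB1_25 (countR_append cntB1_26 (countR_append cntB1_27 (countR_append cntB1_28 (countR_append cntB1_29 (countR_append cntB1_30 (countR_append cntB1_31 (countR_append cntB1_32 (cntB1_33))))))))))))))))))))))))))))))))) :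
    countR 0 (3611 + (3611 + (3611 + (3611 + (3611 + (3611 + (3611 + (3611 + (3611 + (3611 + (3611 + (3611 + (3611 + (3611 + (3611 + (3611 + (3611 + (3611 + (3611 + (3611 + (3611 + (3611 + (3611 + (3611 + (3611 + (3611 + (3611 + (3611 + (3611 + (3611 + (3611 + (3611 + (3611 + (3597)))))))))))))))))))))))))))))))))) (traceTo LB1.2.1 LB1.2.2 LB1.1 11) = 1157 + (1614 + (1659 + (1718 + (1596 + (1776 + (1745 + (1723 + (1588 + (1666 + (1636 + (1797 + (1608 + (1703 + (1623 + (1541 + (1577 + (1580 + (1535 + (1492 + (1709 + (1502 + (1570 + (1570 + (1466 + (1471 + (1385 + (1356 + (1402 + (1461 + (1356 + (1330 + (1225 + (999))))))))))))))))))))))))))))))))))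

end Cfsg.Agent.Lib.Helper5.ONOut
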