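import Cfsg.Agent.Lib.Helper5.ONOut.CntB2x0

/-! # The outer automorphism group of the O'Nan group: the number of points of the tree number 2 of the chain `B` (generated) -/

set_option autoImplicit false
set_option maxRecDepth 100000

namespace Cfsg.Agent.Lib.Helper5.ONOut

open Cfsg.Agent.PF Cfsg.Agent.Lib.Helper6 Cfsg.Agent.Lib.Helper6.TC Cfsg.Agent.Lib.Helper6.NatArr Cfsg.Agent.Lib.Helper5
open Cfsg.Agent.PL (Acts evalF)

/-- the number of points of the tree number 2 of the chain `B` -/
theorem lenB2 : (orbitL 122760 LB2.2.1 LB2.2.2 LB2.1 11).length = 72 := by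
  rw [length_orbitL]
  exact (countR_append cntB2_0 (countR_append cntB2_1 (countR_append cntB2_2 (countR_append cntB2_3 (countR_append cntB2_4 (countR_append cntB2_5 (countR_append cntB2_6 (countR_append cntB2_7 (countR_append cntB2_8 (countR_append cntB2_9 (countR_append cntB2_10 (countR_append cntB2_11 (countR_append cntB2_12 (countR_append cntB2_13 (countR_append cntB2_14 (countR_append cntB2_15 (countR_append cntB2_16 (countR_append cntB2_17 (cntB2_18)))))))))))))))))) :
    countR 0 (6462 + (6462 + (6462 + (6462 + (6462 + (6462 + (6462 + (6462 + (6462 + (6462 + (6462 + (6462 + (6462 + (6462 + (6462 + (6462 + (6462 + (6462 + (6444))))))))))))))))))) (traceTo LB2.2.1 LB2.2.2 LB2.1 11) = 7 + (4 + (3 + (6 + (6 + (5 + (3 + (4 + (3 + (4 + (5 + (4 + (1 + (3 + (4 + (5 + (2 + (2 + (1)))))))))))))))))))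

end Cfsg.Agent.Lib.Helper5.ONOut
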