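import Cfsg.Agent.Lib.Helper5.ONOut.CntB0
import Cfsg.Agent.Lib.Helper5.ONOut.CntB1
import Cfsg.Agent.Lib.Helper5.ONOut.CntB2

/-! # The outer automorphism group of the O'Nan group: the numbers of points of the trees of the chain `B` (generated) -/

set_option autoImplicit false
set_option maxRecDepth 100000

namespace Cfsg.Agent.Lib.Helper5.ONOut

open Cfsg.Agent.PF Cfsg.Agent.Lib.Helper6 Cfsg.Agent.Lib.Helper6.TC Cfsg.Agent.Lib.Helper6.NatArr Cfsg.Agent.Lib.Helper5
open Cfsg.Agent.PL (Acts evalF)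

theorem chk_countsB : (treeCounts 122760 11 (LB0 :: LsB)).prod = 460815505920 := by
  have h : treeCounts 122760 11 (LB0 :: LsB) = [122760, 52136, 72] := by
    show [(orbitL 122760 LB0.2.1 LB0.2.2 LB0.1 11).length, (orbitL 122760 LB1.2.1 LB1.2.2 LB1.1 11).length, (orbitL 122760 LB2.2.1 LB2.2.2 LB2.1 11).length] = _
    rw [lenB0, lenB1, lenB2]
  rw [h]
  rfl

end Cfsg.Agent.Lib.Helper5.ONOut
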