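import Cfsg.Agent.Lib.Helper5.ONOut.CntB0x0

/-! # The outer automorphism group of the O'Nan group: the number of points of the tree number 0 of the chain `B` (generated) -/

set_option autoImplicit false
set_option maxRecDepth 100000

namespace Cfsg.Agent.Lib.Helper5.ONOut

open Cfsg.Agent.PF Cfsg.Agent.Lib.Helper6 Cfsg.Agent.Lib.Helper6.TC Cfsg.Agent.Lib.Helper6.NatArr Cfsg.Agent.Lib.Helper5
open Cfsg.Agent.PL (Acts evalF)

/-- the number of points of the tree number 0 of the chain `B` -/
theorem lenB0 : (orbitL 122760 LB0.2.1 LB0.2.2 LB0.1 11).length = 122760 := by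
  rw [length_orbitL]
  exact (countR_append cntB0_0 (countR_append cntB0_1 (countR_append cntB0_2 (countR_append cntB0_3 (countR_append cntB0_4 (countR_append cntB0_5 (countR_append cntB0_6 (countR_append cntB0_7 (countR_append cntB0_8 (countR_append cntB0_9 (countR_append cntB0_10 (countR_append cntB0_11 (countR_append cntB0_12 (countR_append cntB0_13 (countR_append cntB0_14 (countR_append cntB0_15 (countR_append cntB0_16 (countR_append cntB0_17 (countR_append cntB0_18 (countR_append cntB0_19 (countR_append cntB0_20 (countR_append cntB0_21 (cntB0_22)))))))))))))))))))))) :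
    countR 0 (5338 + (5338 + (5338 + (5338 + (5338 + (5338 + (5338 + (5338 + (5338 + (5338 + (5338 + (5338 + (5338 + (5338 + (5338 + (5338 + (5338 + (5338 + (5338 + (5338 + (5338 + (5338 + (5324))))))))))))))))))))))) (traceTo LB0.2.1 LB0.2.2 LB0.1 11) = 5338 + (5338 + (5338 + (5338 + (5338 + (5338 + (5338 + (5338 + (5338 + (5338 + (5338 + (5338 + (5338 + (5338 + (5338 + (5338 + (5338 + (5338 + (5338 + (5338 + (5338 + (5338 + (5324)))))))))))))))))))))))

end Cfsg.Agent.Lib.Helper5.ONOut
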