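import Cfsg.Agent.Lib.Helper5.ONOut.LevB

/-! # The outer automorphism group of the O'Nan group: the number of points of the tree number 0 of the chain `B`, a part (generated) -/

set_option autoImplicit false
set_option maxRecDepth 100000

namespace Cfsg.Agent.Lib.Helper5.ONOut

open Cfsg.Agent.PF Cfsg.Agent.Lib.Helper6 Cfsg.Agent.Lib.Helper6.TC Cfsg.Agent.Lib.Helper6.NatArr Cfsg.Agent.Lib.Helper5
open Cfsg.Agent.PL (Acts evalF)

theorem cntB0_0 : countR 0 5338 (traceTo LB0.2.1 LB0.2.2 LB0.1 11) = 5338 := by decide +kernel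

theorem cntB0_1 : countR 5338 5338 (traceTo LB0.2.1 LB0.2.2 LB0.1 11) = 5338 := by decide +kernel

theorem cntB0_2 : countR 10676 5338 (traceTo LB0.2.1 LB0.2.2 LB0.1 11) = 5338 := by decide +kernel

theorem cntB0_3 : countR 16014 5338 (traceTo LB0.2.1 LB0.2.2 LB0.1 11) = 5338 := by decide +kernel

theorem cntB0_4 : countR 21352 5338 (traceTo LB0.2.1 LB0.2.2 LB0.1 11) = 5338 := by decide +kernel

theorem cntB0_5 : countR 26690 5338 (traceTo LB0.2.1 LB0.2.2 LB0.1 11) = 5338 := by decide +kernel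

theorem cntB0_6 : countR 32028 5338 (traceTo LB0.2.1 LB0.2.2 LB0.1 11) = 5338 := by decide +kernel

theorem cntB0_7 : countR 37366 5338 (traceTo LB0.2.1 LB0.2.2 LB0.1 11) = 5338 := by decide +kernel

theorem cntB0_8 : countR 42704 5338 (traceTo LB0.2.1 LB0.2.2 LB0.1 11) = 5338 := by decide +kernel

theorem cntB0_9 : countR 48042 5338 (traceTo LB0.2.1 LB0.2.2 LB0.1 11) = 5338 := by decide +kernel

theorem cntB0_10 : countR 53380 5338 (traceTo LB0.2.1 LB0.2.2 LB0.1 11) = 5338 := by decide +kernel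

theorem cntB0_11 : countR 58718 5338 (traceTo LB0.2.1 LB0.2.2 LB0.1 11) = 5338 := by decide +kernel

theorem cntB0_12 : countR 64056 5338 (traceTo LB0.2.1 LB0.2.2 LB0.1 11) = 5338 := by decide +kernel

theorem cntB0_13 : countR 69394 5338 (traceTo LB0.2.1 LB0.2.2 LB0.1 11) = 5338 := by decide +kernel

theorem cntB0_14 : countR 74732 5338 (traceTo LB0.2.1 LB0.2.2 LB0.1 11) = 5338 := by decide +kernel

theorem cntB0_15 : countR 80070 5338 (traceTo LB0.2.1 LB0.2.2 LB0.1 11) = 5338 := by decide +kernel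

theorem cntB0_16 : countR 85408 5338 (traceTo LB0.2.1 LB0.2.2 LB0.1 11) = 5338 := by decide +kernel

theorem cntB0_17 : countR 90746 5338 (traceTo LB0.2.1 LB0.2.2 LB0.1 11) = 5338 := by decide +kernel

theorem cntB0_18 : countR 96084 5338 (traceTo LB0.2.1 LB0.2.2 LB0.1 11) = 5338 := by decide +kernel

theorem cntB0_19 : countR 101422 5338 (traceTo LB0.2.1 LB0.2.2 LB0.1 11) = 5338 := by decide +kernel

theorem cntB0_20 : countR 106760 5338 (traceTo LB0.2.1 LB0.2.2 LB0.1 11) = 5338 := by decide +kernel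

theorem cntB0_21 : countR 112098 5338 (traceTo LB0.2.1 LB0.2.2 LB0.1 11) = 5338 := by decide +kernel

theorem cntB0_22 : countR 117436 5324 (traceTo LB0.2.1 LB0.2.2 LB0.1 11) = 5324 := by decide +kernel


end Cfsg.Agent.Lib.Helper5.ONOut
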