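import Cfsg.Agent.Lib.Helper5.ONOut.LevB

/-! # The outer automorphism group of the O'Nan group: the number of points of the tree number 1 of the chain `B`, a part (generated) -/

set_option autoImplicit false
set_option maxRecDepth 100000

namespace Cfsg.Agent.Lib.Helper5.ONOut

open Cfsg.Agent.PF Cfsg.Agent.Lib.Helper6 Cfsg.Agent.Lib.Helper6.TC Cfsg.Agent.Lib.Helper6.NatArr Cfsg.Agent.Lib.Helper5
open Cfsg.Agent.PL (Acts evalF)

theorem cntB1_0 : countR 0 3611 (traceTo LB1.2.1 LB1.2.2 LB1.1 11) = 1157 := by decide +kernel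

theorem cntB1_1 : countR 3611 3611 (traceTo LB1.2.1 LB1.2.2 LB1.1 11) = 1614 := by decide +kernel

theorem cntB1_2 : countR 7222 3611 (traceTo LB1.2.1 LB1.2.2 LB1.1 11) = 1659 := by decide +kernel

theorem cntB1_3 : countR 10833 3611 (traceTo LB1.2.1 LB1.2.2 LB1.1 11) = 1718 := by decide +kernel

theorem cntB1_4 : countR 14444 3611 (traceTo LB1.2.1 LB1.2.2 LB1.1 11) = 1596 := by decide +kernel

theorem cntB1_5 : countR 18055 3611 (traceTo LB1.2.1 LB1.2.2 LB1.1 11) = 1776 := by decide +kernel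

theorem cntB1_6 : countR 21666 3611 (traceTo LB1.2.1 LB1.2.2 LB1.1 11) = 1745 := by decide +kernel

theorem cntB1_7 : countR 25277 3611 (traceTo LB1.2.1 LB1.2.2 LB1.1 11) = 1723 := by decide +kernel

theorem cntB1_8 : countR 28888 3611 (traceTo LB1.2.1 LB1.2.2 LB1.1 11) = 1588 := by decide +kernel

theorem cntB1_9 : countR 32499 3611 (traceTo LB1.2.1 LB1.2.2 LB1.1 11) = 1666 := by decide +kernel

theorem cntB1_10 : countR 36110 3611 (traceTo LB1.2.1 LB1.2.2 LB1.1 11) = 1636 := by decide +kernel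

theorem cntB1_11 : countR 39721 3611 (traceTo LB1.2.1 LB1.2.2 LB1.1 11) = 1797 := by decide +kernel

theorem cntB1_12 : countR 43332 3611 (traceTo LB1.2.1 LB1.2.2 LB1.1 11) = 1608 := by decide +kernel

theorem cntB1_13 : countR 46943 3611 (traceTo LB1.2.1 LB1.2.2 LB1.1 11) = 1703 := by decide +kernel

theorem cntB1_14 : countR 50554 3611 (traceTo LB1.2.1 LB1.2.2 LB1.1 11) = 1623 := by decide +kernel

theorem cntB1_15 : countR 54165 3611 (traceTo LB1.2.1 LB1.2.2 LB1.1 11) = 1541 := by decide +kernel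

theorem cntB1_16 : countR 57776 3611 (traceTo LB1.2.1 LB1.2.2 LB1.1 11) = 1577 := by decide +kernel

theorem cntB1_17 : countR 61387 3611 (traceTo LB1.2.1 LB1.2.2 LB1.1 11) = 1580 := by decide +kernel

theorem cntB1_18 : countR 64998 3611 (traceTo LB1.2.1 LB1.2.2 LB1.1 11) = 1535 := by decide +kernel

theorem cntB1_19 : countR 68609 3611 (traceTo LB1.2.1 LB1.2.2 LB1.1 11) = 1492 := by decide +kernel

theorem cntB1_20 : countR 72220 3611 (traceTo LB1.2.1 LB1.2.2 LB1.1 11) = 1709 := by decide +kernel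

theorem cntB1_21 : countR 75831 3611 (traceTo LB1.2.1 LB1.2.2 LB1.1 11) = 1502 := by decide +kernel

theorem cntB1_22 : countR 79442 3611 (traceTo LB1.2.1 LB1.2.2 LB1.1 11) = 1570 := by decide +kernel

theorem cntB1_23 : countR 83053 3611 (traceTo LB1.2.1 LB1.2.2 LB1.1 11) = 1570 := by decide +kernel

theorem cntB1_24 : countR 86664 3611 (traceTo LB1.2.1 LB1.2.2 LB1.1 11) = 1466 := by decide +kernel


end Cfsg.Agent.Lib.Helper5.ONOut
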