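import Cfsg.Agent.Lib.Helper5.ONOut.LevG

/-! # The outer automorphism group of the O'Nan group: the number of points of the tree number 1 of the chain `G`, a part (generated) -/

set_option autoImplicit false
set_option maxRecDepth 100000

namespace Cfsg.Agent.Lib.Helper5.ONOut

open Cfsg.Agent.PF Cfsg.Agent.Lib.Helper6 Cfsg.Agent.Lib.Helper6.TC Cfsg.Agent.Lib.Helper6.NatArr Cfsg.Agent.Lib.Helper5
open Cfsg.Agent.PL (Acts evalF)

theorem cntG1_25 : countR 74875 2995 (traceTo LG1.2.1 LG1.2.2 LG1.1 11) = 1231 := by decide +kernel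

theorem cntG1_26 : countR 77870 2995 (traceTo LG1.2.1 LG1.2.2 LG1.1 11) = 1235 := by decide +kernel

theorem cntG1_27 : countR 80865 2995 (traceTo LG1.2.1 LG1.2.2 LG1.1 11) = 1269 := by decide +kernel

theorem cntG1_28 : countR 83860 2995 (traceTo LG1.2.1 LG1.2.2 LG1.1 11) = 1305 := by decide +kernel

theorem cntG1_29 : countR 86855 2995 (traceTo LG1.2.1 LG1.2.2 LG1.1 11) = 1201 := by decide +kernel

theorem cntG1_30 : countR 89850 2995 (traceTo LG1.2.1 LG1.2.2 LG1.1 11) = 1248 := by decide +kernel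

theorem cntG1_31 : countR 92845 2995 (traceTo LG1.2.1 LG1.2.2 LG1.1 11) = 1185 := by decide +kernel

theorem cntG1_32 : countR 95840 2995 (traceTo LG1.2.1 LG1.2.2 LG1.1 11) = 1124 := by decide +kernel

theorem cntG1_33 : countR 98835 2995 (traceTo LG1.2.1 LG1.2.2 LG1.1 11) = 1239 := by decide +kernel

theorem cntG1_34 : countR 101830 2995 (traceTo LG1.2.1 LG1.2.2 LG1.1 11) = 1184 := by decide +kernel

theorem cntG1_35 : countR 104825 2995 (traceTo LG1.2.1 LG1.2.2 LG1.1 11) = 1190 := by decide +kernel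

theorem cntG1_36 : countR 107820 2995 (traceTo LG1.2.1 LG1.2.2 LG1.1 11) = 1224 := by decide +kernel

theorem cntG1_37 : countR 110815 2995 (traceTo LG1.2.1 LG1.2.2 LG1.1 11) = 1209 := by decide +kernel

theorem cntG1_38 : countR 113810 2995 (traceTo LG1.2.1 LG1.2.2 LG1.1 11) = 1109 := by decide +kernel

theorem cntG1_39 : countR 116805 2995 (traceTo LG1.2.1 LG1.2.2 LG1.1 11) = 1050 := by decide +kernel

theorem cntG1_40 : countR 119800 2960 (traceTo LG1.2.1 LG1.2.2 LG1.1 11) = 927 := by decide +kernel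


end Cfsg.Agent.Lib.Helper5.ONOut
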