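import Cfsg.Agent.Lib.Helper5.ONOut.CntG1x0
import Cfsg.Agent.Lib.Helper5.ONOut.CntG1x1

/-! # The outer automorphism group of the O'Nan group: the number of points of the tree number 1 of the chain `G` (generated) -/

set_option autoImplicit false
set_option maxRecDepth 100000

namespace Cfsg.Agent.Lib.Helper5.ONOut

open Cfsg.Agent.PF Cfsg.Agent.Lib.Helper6 Cfsg.Agent.Lib.Helper6.TC Cfsg.Agent.Lib.Helper6.NatArr Cfsg.Agent.Lib.Helper5
open Cfsg.Agent.PL (Acts evalF)

/-- the number of points of the tree number 1 of the chain `G` -/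
theorem lenG1 : (orbitL 122760 LG1.2.1 LG1.2.2 LG1.1 11).length = 52136 := by
  rw [length_orbitL]
  exact (countR_append cntG1_0 (countR_append cntG1_1 (countR_append cntG1_2 (countR_append cntG1_3 (countR_append cntG1_4 (countR_append cntG1_5 (countR_append cntG1_6 (countR_append cntG1_7 (countR_append cntG1_8 (countR_append cntG1_9 (countR_append cntG1_10 (countR_append cntG1_11 (countR_append cntG1_12 (countR_append cntG1_13 (countR_append cntG1_14 (countR_append cntG1_15 (countR_append cntG1_16 (countR_append cntG1_17 (countR_append cntG1_18 (countR_append cntG1_19 (countR_append cntG1_20 (countR_append cntG1_21 (countR_append cntG1_22 (countR_append cntG1_23 (countR_append cntG1_24 (countR_append cntG1_25 (countR_append cntG1_26 (countR_append cntG1_27 (countR_append cntG1_28 (countR_append cntG1_29 (countR_append cntG1_30 (countR_append cntG1_31 (countR_append cntG1_32 (countR_append cntG1_33 (countR_append cntG1_34 (countR_append cntG1_35 (countR_append cntG1_36 (countR_append cntG1_37 (countR_append cntG1_38 (countR_append cntG1_39 (cntG1_40))))))))))))))))))))))))))))))))))))))))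 :
    countR 0 (2995 + (2995 + (2995 + (2995 + (2995 + (2995 + (2995 + (2995 + (2995 + (2995 + (2995 + (2995 + (2995 + (2995 + (2995 + (2995 + (2995 + (2995 + (2995 + (2995 + (2995 + (2995 + (2995 + (2995 + (2995 + (2995 + (2995 + (2995 + (2995 + (2995 + (2995 + (2995 + (2995 + (2995 + (2995 + (2995 + (2995 + (2995 + (2995 + (2995 + (2960))))))))))))))))))))))))))))))))))))))))) (traceTo LG1.2.1 LG1.2.2 LG1.1 11) = 1018 + (1238 + (1289 + (1342 + (1440 + (1357 + (1468 + (1419 + (1400 + (1440 + (1336 + (1407 + (1291 + (1421 + (1388 + (1382 + (1271 + (1294 + (1325 + (1228 + (1257 + (1333 + (1239 + (1298 + (1325 + (1231 + (1235 + (1269 + (1305 + (1201 + (1248 + (1185 + (1124 + (1239 + (1184 + (1190 + (1224 + (1209 + (1109 + (1050 + (927)))))))))))))))))))))))))))))))))))))))))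

end Cfsg.Agent.Lib.Helper5.ONOut
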