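import Cfsg.Agent.Lib.Helper5.ONOut.LevG

/-! # The outer automorphism group of the O'Nan group: the number of points of the tree number 2 of the chain `G`, a part (generated) -/

set_option autoImplicit false
set_option maxRecDepth 100000

namespace Cfsg.Agent.Lib.Helper5.ONOut

open Cfsg.Agent.PF Cfsg.Agent.Lib.Helper6 Cfsg.Agent.Lib.Helper6.TC Cfsg.Agent.Lib.Helper6.NatArr Cfsg.Agent.Lib.Helper5
open Cfsg.Agent.PL (Acts evalF)

theorem cntG2_25 : countR 90275 3611 (traceTo LG2.2.1 LG2.2.2 LG2.1 11) = 3 := by decide +kernel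

theorem cntG2_26 : countR 93886 3611 (traceTo LG2.2.1 LG2.2.2 LG2.1 11) = 2 := by decide +kernel

theorem cntG2_27 : countR 97497 3611 (traceTo LG2.2.1 LG2.2.2 LG2.1 11) = 3 := by decide +kernel

theorem cntG2_28 : countR 101108 3611 (traceTo LG2.2.1 LG2.2.2 LG2.1 11) = 2 := by decide +kernel

theorem cntG2_29 : countR 104719 3611 (traceTo LG2.2.1 LG2.2.2 LG2.1 11) = 2 := by decide +kernel

theorem cntG2_30 : countR 108330 3611 (traceTo LG2.2.1 LG2.2.2 LG2.1 11) = 2 := by decide +kernel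

theorem cntG2_31 : countR 111941 3611 (traceTo LG2.2.1 LG2.2.2 LG2.1 11) = 3 := by decide +kernel

theorem cntG2_32 : countR 115552 3611 (traceTo LG2.2.1 LG2.2.2 LG2.1 11) = 3 := by decide +kernel

theorem cntG2_33 : countR 119163 3597 (traceTo LG2.2.1 LG2.2.2 LG2.1 11) = 0 := by decide +kernel


end Cfsg.Agent.Lib.Helper5.ONOut
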