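import Cfsg.Agent.Lib.Helper5.ONOut.CntG2x0
import Cfsg.Agent.Lib.Helper5.ONOut.CntG2x1

/-! # The outer automorphism group of the O'Nan group: the number of points of the tree number 2 of the chain `G` (generated) -/

set_option autoImplicit false
set_option maxRecDepth 100000

namespace Cfsg.Agent.Lib.Helper5.ONOut

open Cfsg.Agent.PF Cfsg.Agent.Lib.Helper6 Cfsg.Agent.Lib.Helper6.TC Cfsg.Agent.Lib.Helper6.NatArr Cfsg.Agent.Lib.Helper5
open Cfsg.Agent.PL (Acts evalF)

/-- the number of points of the tree number 2 of the chain `G` -/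
theorem lenG2 : (orbitL 122760 LG2.2.1 LG2.2.2 LG2.1 11).length = 72 := by
  rw [length_orbitL]
  exact (countR_append cntG2_0 (countR_append cntG2_1 (countR_append cntG2_2 (countR_append cntG2_3 (countR_append cntG2_4 (countR_append cntG2_5 (countR_append cntG2_6 (countR_append cntG2_7 (countR_append cntG2_8 (countR_append cntG2_9 (countR_append cntG2_10 (countR_append cntG2_11 (countR_append cntG2_12 (countR_append cntG2_13 (countR_append cntG2_14 (countR_append cntG2_15 (countR_append cntG2_16 (countR_append cntG2_17 (countR_append cntG2_18 (countR_append cntG2_19 (countR_append cntG2_20 (countR_append cntG2_21 (countR_append cntG2_22 (countR_append cntG2_23 (countR_append cntG2_24 (countR_append cntG2_25 (countR_append cntG2_26 (countR_append cntG2_27 (countR_append cntG2_28 (countR_append cntG2_29 (countR_append cntG2_30 (countR_append cntG2_31 (countR_append cntG2_32 (cntG2_33))))))))))))))))))))))))))))))))) :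
    countR 0 (3611 + (3611 + (3611 + (3611 + (3611 + (3611 + (3611 + (3611 + (3611 + (3611 + (3611 + (3611 + (3611 + (3611 + (3611 + (3611 + (3611 + (3611 + (3611 + (3611 + (3611 + (3611 + (3611 + (3611 + (3611 + (3611 + (3611 + (3611 + (3611 + (3611 + (3611 + (3611 + (3611 + (3597)))))))))))))))))))))))))))))))))) (traceTo LG2.2.1 LG2.2.2 LG2.1 11) = 5 + (2 + (2 + (6 + (2 + (4 + (2 + (4 + (4 + (2 + (1 + (4 + (1 + (0 + (2 + (0 + (0 + (0 + (2 + (1 + (2 + (0 + (2 + (3 + (1 + (3 + (2 + (3 + (2 + (2 + (2 + (3 + (3 + (0))))))))))))))))))))))))))))))))))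

end Cfsg.Agent.Lib.Helper5.ONOut
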