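import Cfsg.Agent.Lib.Helper5.ONOut.CntG0x0
import Cfsg.Agent.Lib.Helper5.ONOut.CntG0x1

/-! # The outer automorphism group of the O'Nan group: the number of points of the tree number 0 of the chain `G` (generated) -/

set_option autoImplicit false
set_option maxRecDepth 100000

namespace Cfsg.Agent.Lib.Helper5.ONOut

open Cfsg.Agent.PF Cfsg.Agent.Lib.Helper6 Cfsg.Agent.Lib.Helper6.TC Cfsg.Agent.Lib.Helper6.NatArr Cfsg.Agent.Lib.Helper5
open Cfsg.Agent.PL (Acts evalF)

/-- the number of points of the tree number 0 of the chain `G` -/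
theorem lenG0 : (orbitL 122760 LG0.2.1 LG0.2.2 LG0.1 11).length = 122760 := by
  rw [length_orbitL]
  exact (countR_append cntG0_0 (countR_append cntG0_1 (countR_append cntG0_2 (countR_append cntG0_3 (countR_append cntG0_4 (countR_append cntG0_5 (countR_append cntG0_6 (countR_append cntG0_7 (countR_append cntG0_8 (countR_append cntG0_9 (countR_append cntG0_10 (countR_append cntG0_11 (countR_append cntG0_12 (countR_append cntG0_13 (countR_append cntG0_14 (countR_append cntG0_15 (countR_append cntG0_16 (countR_append cntG0_17 (countR_append cntG0_18 (countR_append cntG0_19 (countR_append cntG0_20 (countR_append cntG0_21 (countR_append cntG0_22 (countR_append cntG0_23 (countR_append cntG0_24 (countR_append cntG0_25 (countR_append cntG0_26 (countR_append cntG0_27 (countR_append cntG0_28 (cntG0_29))))))))))))))))))))))))))))) :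
    countR 0 (4092 + (4092 + (4092 + (4092 + (4092 + (4092 + (4092 + (4092 + (4092 + (4092 + (4092 + (4092 + (4092 + (4092 + (4092 + (4092 + (4092 + (4092 + (4092 + (4092 + (4092 + (4092 + (4092 + (4092 + (4092 + (4092 + (4092 + (4092 + (4092 + (4092)))))))))))))))))))))))))))))) (traceTo LG0.2.1 LG0.2.2 LG0.1 11) = 4092 + (4092 + (4092 + (4092 + (4092 + (4092 + (4092 + (4092 + (4092 + (4092 + (4092 + (4092 + (4092 + (4092 + (4092 + (4092 + (4092 + (4092 + (4092 + (4092 + (4092 + (4092 + (4092 + (4092 + (4092 + (4092 + (4092 + (4092 + (4092 + (4092))))))))))))))))))))))))))))))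

end Cfsg.Agent.Lib.Helper5.ONOut
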