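import Cfsg.Agent.Lib.Helper5.ONOut.LevG

/-! # The outer automorphism group of the O'Nan group: the number of points of the tree number 0 of the chain `G`, a part (generated) -/

set_option autoImplicit false
set_option maxRecDepth 100000

namespace Cfsg.Agent.Lib.Helper5.ONOut

open Cfsg.Agent.PF Cfsg.Agent.Lib.Helper6 Cfsg.Agent.Lib.Helper6.TC Cfsg.Agent.Lib.Helper6.NatArr Cfsg.Agent.Lib.Helper5
open Cfsg.Agent.PL (Acts evalF)

theorem cntG0_0 : countR 0 4092 (traceTo LG0.2.1 LG0.2.2 LG0.1 11) = 4092 := by decide +kernel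

theorem cntG0_1 : countR 4092 4092 (traceTo LG0.2.1 LG0.2.2 LG0.1 11) = 4092 := by decide +kernel

theorem cntG0_2 : countR 8184 4092 (traceTo LG0.2.1 LG0.2.2 LG0.1 11) = 4092 := by decide +kernel

theorem cntG0_3 : countR 12276 4092 (traceTo LG0.2.1 LG0.2.2 LG0.1 11) = 4092 := by decide +kernel

theorem cntG0_4 : countR 16368 4092 (traceTo LG0.2.1 LG0.2.2 LG0.1 11) = 4092 := by decide +kernel

theorem cntG0_5 : countR 20460 4092 (traceTo LG0.2.1 LG0.2.2 LG0.1 11) = 4092 := by decide +kernel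

theorem cntG0_6 : countR 24552 4092 (traceTo LG0.2.1 LG0.2.2 LG0.1 11) = 4092 := by decide +kernel

theorem cntG0_7 : countR 28644 4092 (traceTo LG0.2.1 LG0.2.2 LG0.1 11) = 4092 := by decide +kernel

theorem cntG0_8 : countR 32736 4092 (traceTo LG0.2.1 LG0.2.2 LG0.1 11) = 4092 := by decide +kernel

theorem cntG0_9 : countR 36828 4092 (traceTo LG0.2.1 LG0.2.2 LG0.1 11) = 4092 := by decide +kernel

theorem cntG0_10 : countR 40920 4092 (traceTo LG0.2.1 LG0.2.2 LG0.1 11) = 4092 := by decide +kernel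

theorem cntG0_11 : countR 45012 4092 (traceTo LG0.2.1 LG0.2.2 LG0.1 11) = 4092 := by decide +kernel

theorem cntG0_12 : countR 49104 4092 (traceTo LG0.2.1 LG0.2.2 LG0.1 11) = 4092 := by decide +kernel

theorem cntG0_13 : countR 53196 4092 (traceTo LG0.2.1 LG0.2.2 LG0.1 11) = 4092 := by decide +kernel

theorem cntG0_14 : countR 57288 4092 (traceTo LG0.2.1 LG0.2.2 LG0.1 11) = 4092 := by decide +kernel

theorem cntG0_15 : countR 61380 4092 (traceTo LG0.2.1 LG0.2.2 LG0.1 11) = 4092 := by decide +kernel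

theorem cntG0_16 : countR 65472 4092 (traceTo LG0.2.1 LG0.2.2 LG0.1 11) = 4092 := by decide +kernel

theorem cntG0_17 : countR 69564 4092 (traceTo LG0.2.1 LG0.2.2 LG0.1 11) = 4092 := by decide +kernel

theorem cntG0_18 : countR 73656 4092 (traceTo LG0.2.1 LG0.2.2 LG0.1 11) = 4092 := by decide +kernel

theorem cntG0_19 : countR 77748 4092 (traceTo LG0.2.1 LG0.2.2 LG0.1 11) = 4092 := by decide +kernel

theorem cntG0_20 : countR 81840 4092 (traceTo LG0.2.1 LG0.2.2 LG0.1 11) = 4092 := by decide +kernel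

theorem cntG0_21 : countR 85932 4092 (traceTo LG0.2.1 LG0.2.2 LG0.1 11) = 4092 := by decide +kernel

theorem cntG0_22 : countR 90024 4092 (traceTo LG0.2.1 LG0.2.2 LG0.1 11) = 4092 := by decide +kernel

theorem cntG0_23 : countR 94116 4092 (traceTo LG0.2.1 LG0.2.2 LG0.1 11) = 4092 := by decide +kernel

theorem cntG0_24 : countR 98208 4092 (traceTo LG0.2.1 LG0.2.2 LG0.1 11) = 4092 := by decide +kernel


end Cfsg.Agent.Lib.Helper5.ONOut
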