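import Cfsg.Agent.Lib.Helper5.ONOut.LevG

/-! # The outer automorphism group of the O'Nan group: the number of points of the tree number 1 of the chain `G`, a part (generated) -/

set_option autoImplicit false
set_option maxRecDepth 100000

namespace Cfsg.Agent.Lib.Helper5.ONOut

open Cfsg.Agent.PF Cfsg.Agent.Lib.Helper6 Cfsg.Agent.Lib.Helper6.TC Cfsg.Agent.Lib.Helper6.NatArr Cfsg.Agent.Lib.Helper5
open Cfsg.Agent.PL (Acts evalF)

theorem cntG1_0 : countR 0 2995 (traceTo LG1.2.1 LG1.2.2 LG1.1 11) = 1018 := by decide +kernel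

theorem cntG1_1 : countR 2995 2995 (traceTo LG1.2.1 LG1.2.2 LG1.1 11) = 1238 := by decide +kernel

theorem cntG1_2 : countR 5990 2995 (traceTo LG1.2.1 LG1.2.2 LG1.1 11) = 1289 := by decide +kernel

theorem cntG1_3 : countR 8985 2995 (traceTo LG1.2.1 LG1.2.2 LG1.1 11) = 1342 := by decide +kernel

theorem cntG1_4 : countR 11980 2995 (traceTo LG1.2.1 LG1.2.2 LG1.1 11) = 1440 := by decide +kernel

theorem cntG1_5 : countR 14975 2995 (traceTo LG1.2.1 LG1.2.2 LG1.1 11) = 1357 := by decide +kernel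

theorem cntG1_6 : countR 17970 2995 (traceTo LG1.2.1 LG1.2.2 LG1.1 11) = 1468 := by decide +kernel

theorem cntG1_7 : countR 20965 2995 (traceTo LG1.2.1 LG1.2.2 LG1.1 11) = 1419 := by decide +kernel

theorem cntG1_8 : countR 23960 2995 (traceTo LG1.2.1 LG1.2.2 LG1.1 11) = 1400 := by decide +kernel

theorem cntG1_9 : countR 26955 2995 (traceTo LG1.2.1 LG1.2.2 LG1.1 11) = 1440 := by decide +kernel

theorem cntG1_10 : countR 29950 2995 (traceTo LG1.2.1 LG1.2.2 LG1.1 11) = 1336 := by decide +kernel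

theorem cntG1_11 : countR 32945 2995 (traceTo LG1.2.1 LG1.2.2 LG1.1 11) = 1407 := by decide +kernel

theorem cntG1_12 : countR 35940 2995 (traceTo LG1.2.1 LG1.2.2 LG1.1 11) = 1291 := by decide +kernel

theorem cntG1_13 : countR 38935 2995 (traceTo LG1.2.1 LG1.2.2 LG1.1 11) = 1421 := by decide +kernel

theorem cntG1_14 : countR 41930 2995 (traceTo LG1.2.1 LG1.2.2 LG1.1 11) = 1388 := by decide +kernel

theorem cntG1_15 : countR 44925 2995 (traceTo LG1.2.1 LG1.2.2 LG1.1 11) = 1382 := by decide +kernel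

theorem cntG1_16 : countR 47920 2995 (traceTo LG1.2.1 LG1.2.2 LG1.1 11) = 1271 := by decide +kernel

theorem cntG1_17 : countR 50915 2995 (traceTo LG1.2.1 LG1.2.2 LG1.1 11) = 1294 := by decide +kernel

theorem cntG1_18 : countR 53910 2995 (traceTo LG1.2.1 LG1.2.2 LG1.1 11) = 1325 := by decide +kernel

theorem cntG1_19 : countR 56905 2995 (traceTo LG1.2.1 LG1.2.2 LG1.1 11) = 1228 := by decide +kernel

theorem cntG1_20 : countR 59900 2995 (traceTo LG1.2.1 LG1.2.2 LG1.1 11) = 1257 := by decide +kernel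

theorem cntG1_21 : countR 62895 2995 (traceTo LG1.2.1 LG1.2.2 LG1.1 11) = 1333 := by decide +kernel

theorem cntG1_22 : countR 65890 2995 (traceTo LG1.2.1 LG1.2.2 LG1.1 11) = 1239 := by decide +kernel

theorem cntG1_23 : countR 68885 2995 (traceTo LG1.2.1 LG1.2.2 LG1.1 11) = 1298 := by decide +kernel

theorem cntG1_24 : countR 71880 2995 (traceTo LG1.2.1 LG1.2.2 LG1.1 11) = 1325 := by decide +kernel


end Cfsg.Agent.Lib.Helper5.ONOut
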