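import Cfsg.Agent.Lib.Helper5.ONOut.LevG

/-! # The outer automorphism group of the O'Nan group: the number of points of the tree number 2 of the chain `G`, a part (generated) -/

set_option autoImplicit false
set_option maxRecDepth 100000

namespace Cfsg.Agent.Lib.Helper5.ONOut

open Cfsg.Agent.PF Cfsg.Agent.Lib.Helper6 Cfsg.Agent.Lib.Helper6.TC Cfsg.Agent.Lib.Helper6.NatArr Cfsg.Agent.Lib.Helper5
open Cfsg.Agent.PL (Acts evalF)

theorem cntG2_0 : countR 0 3611 (traceTo LG2.2.1 LG2.2.2 LG2.1 11) = 5 := by decide +kernel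

theorem cntG2_1 : countR 3611 3611 (traceTo LG2.2.1 LG2.2.2 LG2.1 11) = 2 := by decide +kernel

theorem cntG2_2 : countR 7222 3611 (traceTo LG2.2.1 LG2.2.2 LG2.1 11) = 2 := by decide +kernel

theorem cntG2_3 : countR 10833 3611 (traceTo LG2.2.1 LG2.2.2 LG2.1 11) = 6 := by decide +kernel

theorem cntG2_4 : countR 14444 3611 (traceTo LG2.2.1 LG2.2.2 LG2.1 11) = 2 := by decide +kernel

theorem cntG2_5 : countR 18055 3611 (traceTo LG2.2.1 LG2.2.2 LG2.1 11) = 4 := by decide +kernel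

theorem cntG2_6 : countR 21666 3611 (traceTo LG2.2.1 LG2.2.2 LG2.1 11) = 2 := by decide +kernel

theorem cntG2_7 : countR 25277 3611 (traceTo LG2.2.1 LG2.2.2 LG2.1 11) = 4 := by decide +kernel

theorem cntG2_8 : countR 28888 3611 (traceTo LG2.2.1 LG2.2.2 LG2.1 11) = 4 := by decide +kernel

theorem cntG2_9 : countR 32499 3611 (traceTo LG2.2.1 LG2.2.2 LG2.1 11) = 2 := by decide +kernel

theorem cntG2_10 : countR 36110 3611 (traceTo LG2.2.1 LG2.2.2 LG2.1 11) = 1 := by decide +kernel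

theorem cntG2_11 : countR 39721 3611 (traceTo LG2.2.1 LG2.2.2 LG2.1 11) = 4 := by decide +kernel

theorem cntG2_12 : countR 43332 3611 (traceTo LG2.2.1 LG2.2.2 LG2.1 11) = 1 := by decide +kernel

theorem cntG2_13 : countR 46943 3611 (traceTo LG2.2.1 LG2.2.2 LG2.1 11) = 0 := by decide +kernel

theorem cntG2_14 : countR 50554 3611 (traceTo LG2.2.1 LG2.2.2 LG2.1 11) = 2 := by decide +kernel

theorem cntG2_15 : countR 54165 3611 (traceTo LG2.2.1 LG2.2.2 LG2.1 11) = 0 := by decide +kernel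

theorem cntG2_16 : countR 57776 3611 (traceTo LG2.2.1 LG2.2.2 LG2.1 11) = 0 := by decide +kernel

theorem cntG2_17 : countR 61387 3611 (traceTo LG2.2.1 LG2.2.2 LG2.1 11) = 0 := by decide +kernel

theorem cntG2_18 : countR 64998 3611 (traceTo LG2.2.1 LG2.2.2 LG2.1 11) = 2 := by decide +kernel

theorem cntG2_19 : countR 68609 3611 (traceTo LG2.2.1 LG2.2.2 LG2.1 11) = 1 := by decide +kernel

theorem cntG2_20 : countR 72220 3611 (traceTo LG2.2.1 LG2.2.2 LG2.1 11) = 2 := by decide +kernel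

theorem cntG2_21 : countR 75831 3611 (traceTo LG2.2.1 LG2.2.2 LG2.1 11) = 0 := by decide +kernel

theorem cntG2_22 : countR 79442 3611 (traceTo LG2.2.1 LG2.2.2 LG2.1 11) = 2 := by decide +kernel

theorem cntG2_23 : countR 83053 3611 (traceTo LG2.2.1 LG2.2.2 LG2.1 11) = 3 := by decide +kernel

theorem cntG2_24 : countR 86664 3611 (traceTo LG2.2.1 LG2.2.2 LG2.1 11) = 1 := by decide +kernel


end Cfsg.Agent.Lib.Helper5.ONOut
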