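import Cfsg.Agent.Lib.Helper5.ONOut.Fgen

/-! # The outer automorphism group of the O'Nan group: the relations used (generated) -/

set_option autoImplicit false
set_option maxRecDepth 100000

namespace Cfsg.Agent.Lib.Helper5.ONOut

open Cfsg.Agent.PF Cfsg.Agent.Lib.Helper6 Cfsg.Agent.Lib.Helper6.TC Cfsg.Agent.Lib.Helper6.NatArr Cfsg.Agent.Lib.Helper5
open Cfsg.Agent.PL (Acts evalF)

/-- relations `u ^ k = 1` between `x`, `y`, `w⁻¹` with test points -/
def kills : List (List ℕ × ℕ × ℕ) := [([0, 2], 19, 0), ([2, 2], 1, 0), ([0, 0, 2], 19, 0), ([0, 1, 2], 8, 0)]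

end Cfsg.Agent.Lib.Helper5.ONOut
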