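import Cfsg.Agent.Lib.Helper5.ONOut.LevB
import Cfsg.Agent.Lib.Helper5.ONOut.DV
import Cfsg.Agent.Lib.Helper5.ONOut.Kills

/-! # The outer automorphism group of the O'Nan group: the candidates for the images of `w`, a part (generated) -/

set_option autoImplicit false
set_option maxRecDepth 100000

namespace Cfsg.Agent.Lib.Helper5.ONOut

open Cfsg.Agent.PF Cfsg.Agent.Lib.Helper6 Cfsg.Agent.Lib.Helper6.TC Cfsg.Agent.Lib.Helper6.NatArr Cfsg.Agent.Lib.Helper5
open Cfsg.Agent.PL (Acts evalF)

theorem chk_kill_100 : allR 66400 664 (fun q => killF 122760 11 f8 f16 fv [0] LB0 LsB kills 0 q) = true := by decide +kernel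

theorem chk_kill_101 : allR 67064 664 (fun q => killF 122760 11 f8 f16 fv [0] LB0 LsB kills 0 q) = true := by decide +kernel

theorem chk_kill_102 : allR 67728 664 (fun q => killF 122760 11 f8 f16 fv [0] LB0 LsB kills 0 q) = true := by decide +kernel

theorem chk_kill_103 : allR 68392 664 (fun q => killF 122760 11 f8 f16 fv [0] LB0 LsB kills 0 q) = true := by decide +kernel

theorem chk_kill_104 : allR 69056 664 (fun q => killF 122760 11 f8 f16 fv [0] LB0 LsB kills 0 q) = true := by decide +kernel

theorem chk_kill_105 : allR 69720 664 (fun q => killF 122760 11 f8 f16 fv [0] LB0 LsB kills 0 q) = true := by decide +kernel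

theorem chk_kill_106 : allR 70384 664 (fun q => killF 122760 11 f8 f16 fv [0] LB0 LsB kills 0 q) = true := by decide +kernel

theorem chk_kill_107 : allR 71048 664 (fun q => killF 122760 11 f8 f16 fv [0] LB0 LsB kills 0 q) = true := by decide +kernel

theorem chk_kill_108 : allR 71712 664 (fun q => killF 122760 11 f8 f16 fv [0] LB0 LsB kills 0 q) = true := by decide +kernel

theorem chk_kill_109 : allR 72376 664 (fun q => killF 122760 11 f8 f16 fv [0] LB0 LsB kills 0 q) = true := by decide +kernel

theorem chk_kill_110 : allR 73040 664 (fun q => killF 122760 11 f8 f16 fv [0] LB0 LsB kills 0 q) = true := by decide +kernel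

theorem chk_kill_111 : allR 73704 664 (fun q => killF 122760 11 f8 f16 fv [0] LB0 LsB kills 0 q) = true := by decide +kernel

theorem chk_kill_112 : allR 74368 664 (fun q => killF 122760 11 f8 f16 fv [0] LB0 LsB kills 0 q) = true := by decide +kernel

theorem chk_kill_113 : allR 75032 664 (fun q => killF 122760 11 f8 f16 fv [0] LB0 LsB kills 0 q) = true := by decide +kernel

theorem chk_kill_114 : allR 75696 664 (fun q => killF 122760 11 f8 f16 fv [0] LB0 LsB kills 0 q) = true := by decide +kernel

theorem chk_kill_115 : allR 76360 664 (fun q => killF 122760 11 f8 f16 fv [0] LB0 LsB kills 0 q) = true := by decide +kernel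

theorem chk_kill_116 : allR 77024 664 (fun q => killF 122760 11 f8 f16 fv [0] LB0 LsB kills 0 q) = true := by decide +kernel

theorem chk_kill_117 : allR 77688 664 (fun q => killF 122760 11 f8 f16 fv [0] LB0 LsB kills 0 q) = true := by decide +kernel

theorem chk_kill_118 : allR 78352 664 (fun q => killF 122760 11 f8 f16 fv [0] LB0 LsB kills 0 q) = true := by decide +kernel

theorem chk_kill_119 : allR 79016 664 (fun q => killF 122760 11 f8 f16 fv [0] LB0 LsB kills 0 q) = true := by decide +kernel

theorem chk_kill_120 : allR 79680 664 (fun q => killF 122760 11 f8 f16 fv [0] LB0 LsB kills 0 q) = true := by decide +kernel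

theorem chk_kill_121 : allR 80344 664 (fun q => killF 122760 11 f8 f16 fv [0] LB0 LsB kills 0 q) = true := by decide +kernel

theorem chk_kill_122 : allR 81008 664 (fun q => killF 122760 11 f8 f16 fv [0] LB0 LsB kills 0 q) = true := by decide +kernel

theorem chk_kill_123 : allR 81672 664 (fun q => killF 122760 11 f8 f16 fv [0] LB0 LsB kills 0 q) = true := by decide +kernel

theorem chk_kill_124 : allR 82336 664 (fun q => killF 122760 11 f8 f16 fv [0] LB0 LsB kills 0 q) = true := by decide +kernel


end Cfsg.Agent.Lib.Helper5.ONOut
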