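import Cfsg.Agent.Lib.Helper5.ONOut.LevB
import Cfsg.Agent.Lib.Helper5.ONOut.DV
import Cfsg.Agent.Lib.Helper5.ONOut.Kills

/-! # The outer automorphism group of the O'Nan group: the candidates for the images of `w`, a part (generated) -/

set_option autoImplicit false
set_option maxRecDepth 100000

namespace Cfsg.Agent.Lib.Helper5.ONOut

open Cfsg.Agent.PF Cfsg.Agent.Lib.Helper6 Cfsg.Agent.Lib.Helper6.TC Cfsg.Agent.Lib.Helper6.NatArr Cfsg.Agent.Lib.Helper5
open Cfsg.Agent.PL (Acts evalF)

theorem chk_kill_0 : allR 0 664 (fun q => killF 122760 11 f8 f16 fv [0] LB0 LsB kills 0 q) = true := by decide +kernel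

theorem chk_kill_1 : allR 664 664 (fun q => killF 122760 11 f8 f16 fv [0] LB0 LsB kills 0 q) = true := by decide +kernel

theorem chk_kill_2 : allR 1328 664 (fun q => killF 122760 11 f8 f16 fv [0] LB0 LsB kills 0 q) = true := by decide +kernel

theorem chk_kill_3 : allR 1992 664 (fun q => killF 122760 11 f8 f16 fv [0] LB0 LsB kills 0 q) = true := by decide +kernel

theorem chk_kill_4 : allR 2656 664 (fun q => killF 122760 11 f8 f16 fv [0] LB0 LsB kills 0 q) = true := by decide +kernel

theorem chk_kill_5 : allR 3320 664 (fun q => killF 122760 11 f8 f16 fv [0] LB0 LsB kills 0 q) = true := by decide +kernel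

theorem chk_kill_6 : allR 3984 664 (fun q => killF 122760 11 f8 f16 fv [0] LB0 LsB kills 0 q) = true := by decide +kernel

theorem chk_kill_7 : allR 4648 664 (fun q => killF 122760 11 f8 f16 fv [0] LB0 LsB kills 0 q) = true := by decide +kernel

theorem chk_kill_8 : allR 5312 664 (fun q => killF 122760 11 f8 f16 fv [0] LB0 LsB kills 0 q) = true := by decide +kernel

theorem chk_kill_9 : allR 5976 664 (fun q => killF 122760 11 f8 f16 fv [0] LB0 LsB kills 0 q) = true := by decide +kernel

theorem chk_kill_10 : allR 6640 664 (fun q => killF 122760 11 f8 f16 fv [0] LB0 LsB kills 0 q) = true := by decide +kernel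

theorem chk_kill_11 : allR 7304 664 (fun q => killF 122760 11 f8 f16 fv [0] LB0 LsB kills 0 q) = true := by decide +kernel

theorem chk_kill_12 : allR 7968 664 (fun q => killF 122760 11 f8 f16 fv [0] LB0 LsB kills 0 q) = true := by decide +kernel

theorem chk_kill_13 : allR 8632 664 (fun q => killF 122760 11 f8 f16 fv [0] LB0 LsB kills 0 q) = true := by decide +kernel

theorem chk_kill_14 : allR 9296 664 (fun q => killF 122760 11 f8 f16 fv [0] LB0 LsB kills 0 q) = true := by decide +kernel

theorem chk_kill_15 : allR 9960 664 (fun q => killF 122760 11 f8 f16 fv [0] LB0 LsB kills 0 q) = true := by decide +kernel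

theorem chk_kill_16 : allR 10624 664 (fun q => killF 122760 11 f8 f16 fv [0] LB0 LsB kills 0 q) = true := by decide +kernel

theorem chk_kill_17 : allR 11288 664 (fun q => killF 122760 11 f8 f16 fv [0] LB0 LsB kills 0 q) = true := by decide +kernel

theorem chk_kill_18 : allR 11952 664 (fun q => killF 122760 11 f8 f16 fv [0] LB0 LsB kills 0 q) = true := by decide +kernel

theorem chk_kill_19 : allR 12616 664 (fun q => killF 122760 11 f8 f16 fv [0] LB0 LsB kills 0 q) = true := by decide +kernel

theorem chk_kill_20 : allR 13280 664 (fun q => killF 122760 11 f8 f16 fv [0] LB0 LsB kills 0 q) = true := by decide +kernel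

theorem chk_kill_21 : allR 13944 664 (fun q => killF 122760 11 f8 f16 fv [0] LB0 LsB kills 0 q) = true := by decide +kernel

theorem chk_kill_22 : allR 14608 664 (fun q => killF 122760 11 f8 f16 fv [0] LB0 LsB kills 0 q) = true := by decide +kernel

theorem chk_kill_23 : allR 15272 664 (fun q => killF 122760 11 f8 f16 fv [0] LB0 LsB kills 0 q) = true := by decide +kernel

theorem chk_kill_24 : allR 15936 664 (fun q => killF 122760 11 f8 f16 fv [0] LB0 LsB kills 0 q) = true := by decide +kernel


end Cfsg.Agent.Lib.Helper5.ONOut
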