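import Cfsg.Agent.Lib.Helper5.ONOut.LevA
import Cfsg.Agent.Lib.Helper5.ONOut.DSX

/-! # The outer automorphism group of the O'Nan group: the image of `x` is not conjugate to `x`, a part (generated) -/

set_option autoImplicit false
set_option maxRecDepth 100000

namespace Cfsg.Agent.Lib.Helper5.ONOut

open Cfsg.Agent.PF Cfsg.Agent.Lib.Helper6 Cfsg.Agent.Lib.Helper6.TC Cfsg.Agent.Lib.Helper6.NatArr Cfsg.Agent.Lib.Helper5
open Cfsg.Agent.PL (Acts evalF)

theorem chk_ninn_25 : allR 16600 664 (fun q => (fun q => (cand 122760 11 f8 fsx [0] (LA0 :: LsA) q).isNone) q) = true := by decide +kernel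

theorem chk_ninn_26 : allR 17264 664 (fun q => (fun q => (cand 122760 11 f8 fsx [0] (LA0 :: LsA) q).isNone) q) = true := by decide +kernel

theorem chk_ninn_27 : allR 17928 664 (fun q => (fun q => (cand 122760 11 f8 fsx [0] (LA0 :: LsA) q).isNone) q) = true := by decide +kernel

theorem chk_ninn_28 : allR 18592 664 (fun q => (fun q => (cand 122760 11 f8 fsx [0] (LA0 :: LsA) q).isNone) q) = true := by decide +kernel

theorem chk_ninn_29 : allR 19256 664 (fun q => (fun q => (cand 122760 11 f8 fsx [0] (LA0 :: LsA) q).isNone) q) = true := by decide +kernel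

theorem chk_ninn_30 : allR 19920 664 (fun q => (fun q => (cand 122760 11 f8 fsx [0] (LA0 :: LsA) q).isNone) q) = true := by decide +kernel

theorem chk_ninn_31 : allR 20584 664 (fun q => (fun q => (cand 122760 11 f8 fsx [0] (LA0 :: LsA) q).isNone) q) = true := by decide +kernel

theorem chk_ninn_32 : allR 21248 664 (fun q => (fun q => (cand 122760 11 f8 fsx [0] (LA0 :: LsA) q).isNone) q) = true := by decide +kernel

theorem chk_ninn_33 : allR 21912 664 (fun q => (fun q => (cand 122760 11 f8 fsx [0] (LA0 :: LsA) q).isNone) q) = true := by decide +kernel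

theorem chk_ninn_34 : allR 22576 664 (fun q => (fun q => (cand 122760 11 f8 fsx [0] (LA0 :: LsA) q).isNone) q) = true := by decide +kernel

theorem chk_ninn_35 : allR 23240 664 (fun q => (fun q => (cand 122760 11 f8 fsx [0] (LA0 :: LsA) q).isNone) q) = true := by decide +kernel

theorem chk_ninn_36 : allR 23904 664 (fun q => (fun q => (cand 122760 11 f8 fsx [0] (LA0 :: LsA) q).isNone) q) = true := by decide +kernel

theorem chk_ninn_37 : allR 24568 664 (fun q => (fun q => (cand 122760 11 f8 fsx [0] (LA0 :: LsA) q).isNone) q) = true := by decide +kernel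

theorem chk_ninn_38 : allR 25232 664 (fun q => (fun q => (cand 122760 11 f8 fsx [0] (LA0 :: LsA) q).isNone) q) = true := by decide +kernel

theorem chk_ninn_39 : allR 25896 664 (fun q => (fun q => (cand 122760 11 f8 fsx [0] (LA0 :: LsA) q).isNone) q) = true := by decide +kernel

theorem chk_ninn_40 : allR 26560 664 (fun q => (fun q => (cand 122760 11 f8 fsx [0] (LA0 :: LsA) q).isNone) q) = true := by decide +kernel

theorem chk_ninn_41 : allR 27224 664 (fun q => (fun q => (cand 122760 11 f8 fsx [0] (LA0 :: LsA) q).isNone) q) = true := by decide +kernel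

theorem chk_ninn_42 : allR 27888 664 (fun q => (fun q => (cand 122760 11 f8 fsx [0] (LA0 :: LsA) q).isNone) q) = true := by decide +kernel

theorem chk_ninn_43 : allR 28552 664 (fun q => (fun q => (cand 122760 11 f8 fsx [0] (LA0 :: LsA) q).isNone) q) = true := by decide +kernel

theorem chk_ninn_44 : allR 29216 664 (fun q => (fun q => (cand 122760 11 f8 fsx [0] (LA0 :: LsA) q).isNone) q) = true := by decide +kernel

theorem chk_ninn_45 : allR 29880 664 (fun q => (fun q => (cand 122760 11 f8 fsx [0] (LA0 :: LsA) q).isNone) q) = true := by decide +kernel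

theorem chk_ninn_46 : allR 30544 664 (fun q => (fun q => (cand 122760 11 f8 fsx [0] (LA0 :: LsA) q).isNone) q) = true := by decide +kernel

theorem chk_ninn_47 : allR 31208 664 (fun q => (fun q => (cand 122760 11 f8 fsx [0] (LA0 :: LsA) q).isNone) q) = true := by decide +kernel

theorem chk_ninn_48 : allR 31872 664 (fun q => (fun q => (cand 122760 11 f8 fsx [0] (LA0 :: LsA) q).isNone) q) = true := by decide +kernel

theorem chk_ninn_49 : allR 32536 664 (fun q => (fun q => (cand 122760 11 f8 fsx [0] (LA0 :: LsA) q).isNone) q) = true := by decide +kernel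


end Cfsg.Agent.Lib.Helper5.ONOut
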