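import Cfsg.Agent.Lib.Helper5.ONOut.LevA
import Cfsg.Agent.Lib.Helper5.ONOut.DSX

/-! # The outer automorphism group of the O'Nan group: the image of `x` is not conjugate to `x`, a part (generated) -/

set_option autoImplicit false
set_option maxRecDepth 100000

namespace Cfsg.Agent.Lib.Helper5.ONOut

open Cfsg.Agent.PF Cfsg.Agent.Lib.Helper6 Cfsg.Agent.Lib.Helper6.TC Cfsg.Agent.Lib.Helper6.NatArr Cfsg.Agent.Lib.Helper5
open Cfsg.Agent.PL (Acts evalF)

theorem chk_ninn_75 : allR 49800 664 (fun q => (fun q => (cand 122760 11 f8 fsx [0] (LA0 :: LsA) q).isNone) q) = true := by decide +kernel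

theorem chk_ninn_76 : allR 50464 664 (fun q => (fun q => (cand 122760 11 f8 fsx [0] (LA0 :: LsA) q).isNone) q) = true := by decide +kernel

theorem chk_ninn_77 : allR 51128 664 (fun q => (fun q => (cand 122760 11 f8 fsx [0] (LA0 :: LsA) q).isNone) q) = true := by decide +kernel

theorem chk_ninn_78 : allR 51792 664 (fun q => (fun q => (cand 122760 11 f8 fsx [0] (LA0 :: LsA) q).isNone) q) = true := by decide +kernel

theorem chk_ninn_79 : allR 52456 664 (fun q => (fun q => (cand 122760 11 f8 fsx [0] (LA0 :: LsA) q).isNone) q) = true := by decide +kernel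

theorem chk_ninn_80 : allR 53120 664 (fun q => (fun q => (cand 122760 11 f8 fsx [0] (LA0 :: LsA) q).isNone) q) = true := by decide +kernel

theorem chk_ninn_81 : allR 53784 664 (fun q => (fun q => (cand 122760 11 f8 fsx [0] (LA0 :: LsA) q).isNone) q) = true := by decide +kernel

theorem chk_ninn_82 : allR 54448 664 (fun q => (fun q => (cand 122760 11 f8 fsx [0] (LA0 :: LsA) q).isNone) q) = true := by decide +kernel

theorem chk_ninn_83 : allR 55112 664 (fun q => (fun q => (cand 122760 11 f8 fsx [0] (LA0 :: LsA) q).isNone) q) = true := by decide +kernel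

theorem chk_ninn_84 : allR 55776 664 (fun q => (fun q => (cand 122760 11 f8 fsx [0] (LA0 :: LsA) q).isNone) q) = true := by decide +kernel

theorem chk_ninn_85 : allR 56440 664 (fun q => (fun q => (cand 122760 11 f8 fsx [0] (LA0 :: LsA) q).isNone) q) = true := by decide +kernel

theorem chk_ninn_86 : allR 57104 664 (fun q => (fun q => (cand 122760 11 f8 fsx [0] (LA0 :: LsA) q).isNone) q) = true := by decide +kernel

theorem chk_ninn_87 : allR 57768 664 (fun q => (fun q => (cand 122760 11 f8 fsx [0] (LA0 :: LsA) q).isNone) q) = true := by decide +kernel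

theorem chk_ninn_88 : allR 58432 664 (fun q => (fun q => (cand 122760 11 f8 fsx [0] (LA0 :: LsA) q).isNone) q) = true := by decide +kernel

theorem chk_ninn_89 : allR 59096 664 (fun q => (fun q => (cand 122760 11 f8 fsx [0] (LA0 :: LsA) q).isNone) q) = true := by decide +kernel

theorem chk_ninn_90 : allR 59760 664 (fun q => (fun q => (cand 122760 11 f8 fsx [0] (LA0 :: LsA) q).isNone) q) = true := by decide +kernel

theorem chk_ninn_91 : allR 60424 664 (fun q => (fun q => (cand 122760 11 f8 fsx [0] (LA0 :: LsA) q).isNone) q) = true := by decide +kernel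

theorem chk_ninn_92 : allR 61088 664 (fun q => (fun q => (cand 122760 11 f8 fsx [0] (LA0 :: LsA) q).isNone) q) = true := by decide +kernel

theorem chk_ninn_93 : allR 61752 664 (fun q => (fun q => (cand 122760 11 f8 fsx [0] (LA0 :: LsA) q).isNone) q) = true := by decide +kernel

theorem chk_ninn_94 : allR 62416 664 (fun q => (fun q => (cand 122760 11 f8 fsx [0] (LA0 :: LsA) q).isNone) q) = true := by decide +kernel

theorem chk_ninn_95 : allR 63080 664 (fun q => (fun q => (cand 122760 11 f8 fsx [0] (LA0 :: LsA) q).isNone) q) = true := by decide +kernel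

theorem chk_ninn_96 : allR 63744 664 (fun q => (fun q => (cand 122760 11 f8 fsx [0] (LA0 :: LsA) q).isNone) q) = true := by decide +kernel

theorem chk_ninn_97 : allR 64408 664 (fun q => (fun q => (cand 122760 11 f8 fsx [0] (LA0 :: LsA) q).isNone) q) = true := by decide +kernel

theorem chk_ninn_98 : allR 65072 664 (fun q => (fun q => (cand 122760 11 f8 fsx [0] (LA0 :: LsA) q).isNone) q) = true := by decide +kernel

theorem chk_ninn_99 : allR 65736 664 (fun q => (fun q => (cand 122760 11 f8 fsx [0] (LA0 :: LsA) q).isNone) q) = true := by decide +kernel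


end Cfsg.Agent.Lib.Helper5.ONOut
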