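import Cfsg.Agent.Lib.Helper5.ONOut.NInnx0
import Cfsg.Agent.Lib.Helper5.ONOut.NInnx1
import Cfsg.Agent.Lib.Helper5.ONOut.NInnx2
import Cfsg.Agent.Lib.Helper5.ONOut.NInnx3
import Cfsg.Agent.Lib.Helper5.ONOut.NInnx4
import Cfsg.Agent.Lib.Helper5.ONOut.NInnx5
import Cfsg.Agent.Lib.Helper5.ONOut.NInnx6
import Cfsg.Agent.Lib.Helper5.ONOut.NInnx7

/-! # The outer automorphism group of the O'Nan group: the image of `x` is not conjugate to `x` (generated) -/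

set_option autoImplicit false
set_option maxRecDepth 100000

namespace Cfsg.Agent.Lib.Helper5.ONOut

open Cfsg.Agent.PF Cfsg.Agent.Lib.Helper6 Cfsg.Agent.Lib.Helper6.TC Cfsg.Agent.Lib.Helper6.NatArr Cfsg.Agent.Lib.Helper5
open Cfsg.Agent.PL (Acts evalF)

/-- no element conjugates `x` to its image -/
theorem chk_ninn : ∀ q < 122760, (fun q => (cand 122760 11 f8 fsx [0] (LA0 :: LsA) q).isNone) q = true :=
  forall_lt_of_chunks (f := fun q => (fun q => (cand 122760 11 f8 fsx [0] (LA0 :: LsA) q).isNone) q) [(0, 664), (664, 664), (1328, 664), (1992, 664), (2656, 664), (3320, 664), (3984, 664), (4648, 664), (5312, 664), (5976, 664), (6640, 664), (7304, 664), (7968, 664), (8632, 664), (9296, 664), (9960, 664), (10624, 664), (11288, 664), (11952, 664), (12616, 664), (13280, 664), (13944, 664), (14608, 664), (15272, 664), (15936, 664), (16600, 664), (17264, 664), (17928, 664), (18592,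 664), (19256, 664), (19920, 664), (20584, 664), (21248, 664), (21912, 664), (22576, 664), (23240, 664), (23904, 664), (24568, 664), (25232, 664), (25896, 664), (26560, 664), (27224, 664), (27888, 664), (28552, 664), (29216, 664), (29880, 664), (30544, 664), (31208, 664), (31872, 664), (32536, 664), (33200, 664), (33864, 664), (34528, 664), (35192, 664), (35856, 664), (36520, 664), (37184, 664), (37848, 664), (38512, 664), (39176, 664), (39840, 664), (40504, 664), (41168, 664), (41832, 664), (42496, 664), (43160, 664), (43824, 664), (44488, 664), (45152, 664), (45816, 664), (46480, 664), (47144, 664), (47808, 664), (48472, 664), (49136, 664), (49800, 664), (50464, 664), (51128, 664), (51792, 664), (52456, 664), (53120, 664), (53784, 664), (54448, 664), (55112, 664), (55776, 664), (56440, 664), (57104, 664), (57768, 664), (58432, 664), (59096, 664), (59760, 664), (60424, 664),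 (61088, 664), (61752, 664), (62416, 664), (63080, 664), (63744, 664), (64408, 664), (65072, 664), (65736, 664), (66400, 664), (67064, 664), (67728, 664), (68392, 664), (69056, 664), (69720, 664), (70384, 664), (71048, 664), (71712, 664), (72376, 664), (73040, 664), (73704, 664), (74368, 664), (75032, 664), (75696, 664), (76360, 664), (77024, 664), (77688, 664), (78352, 664), (79016, 664), (79680, 664), (80344, 664), (81008, 664), (81672, 664), (82336, 664), (83000, 664), (83664, 664), (84328, 664), (84992, 664), (85656, 664), (86320, 664), (86984, 664), (87648, 664), (88312, 664), (88976, 664), (89640, 664), (90304, 664), (90968, 664), (91632, 664), (92296, 664), (92960, 664), (93624, 664), (94288, 664), (94952, 664), (95616, 664), (96280, 664), (96944, 664), (97608, 664), (98272, 664), (98936, 664), (99600, 664), (100264, 664), (100928, 664), (101592, 664), (102256, 664),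 (102920, 664), (103584, 664), (104248, 664), (104912, 664), (105576, 664), (106240, 664), (106904, 664), (107568, 664), (108232, 664), (108896, 664), (109560, 664), (110224, 664), (110888, 664), (111552, 664), (112216, 664), (112880, 664), (113544, 664), (114208, 664), (114872, 664), (115536, 664), (116200, 664), (116864, 664), (117528, 664), (118192, 664), (118856, 664), (119520, 664), (120184, 664), (120848, 664), (121512, 664), (122176, 584)] (by decide) (List.forall_mem_cons.2 ⟨chk_ninn_0, List.forall_mem_cons.2 ⟨chk_ninn_1, List.forall_mem_cons.2 ⟨chk_ninn_2, List.forall_mem_cons.2 ⟨chk_ninn_3, List.forall_mem_cons.2 ⟨chk_ninn_4, List.forall_mem_cons.2 ⟨chk_ninn_5, List.forall_mem_cons.2 ⟨chk_ninn_6, List.forall_mem_cons.2 ⟨chk_ninn_7, List.forall_mem_cons.2 ⟨chk_ninn_8, List.forall_mem_cons.2 ⟨chk_ninn_9, List.forall_mem_cons.2 ⟨chk_ninn_10, List.forall_mem_cons.2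 ⟨chk_ninn_11, List.forall_mem_cons.2 ⟨chk_ninn_12, List.forall_mem_cons.2 ⟨chk_ninn_13, List.forall_mem_cons.2 ⟨chk_ninn_14, List.forall_mem_cons.2 ⟨chk_ninn_15, List.forall_mem_cons.2 ⟨chk_ninn_16, List.forall_mem_cons.2 ⟨chk_ninn_17, List.forall_mem_cons.2 ⟨chk_ninn_18, List.forall_mem_cons.2 ⟨chk_ninn_19, List.forall_mem_cons.2 ⟨chk_ninn_20, List.forall_mem_cons.2 ⟨chk_ninn_21, List.forall_mem_cons.2 ⟨chk_ninn_22, List.forall_mem_cons.2 ⟨chk_ninn_23, List.forall_mem_cons.2 ⟨chk_ninn_24, List.forall_mem_cons.2 ⟨chk_ninn_25, List.forall_mem_cons.2 ⟨chk_ninn_26, List.forall_mem_cons.2 ⟨chk_ninn_27, List.forall_mem_cons.2 ⟨chk_ninn_28, List.forall_mem_cons.2 ⟨chk_ninn_29, List.forall_mem_cons.2 ⟨chk_ninn_30, List.forall_mem_cons.2 ⟨chk_ninn_31, List.forall_mem_cons.2 ⟨chk_ninn_32, List.forall_mem_cons.2 ⟨chk_ninn_33, List.forall_mem_cons.2 ⟨chk_ninn_34, List.forall_mem_cons.2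 ⟨chk_ninn_35, List.forall_mem_cons.2 ⟨chk_ninn_36, List.forall_mem_cons.2 ⟨chk_ninn_37, List.forall_mem_cons.2 ⟨chk_ninn_38, List.forall_mem_cons.2 ⟨chk_ninn_39, List.forall_mem_cons.2 ⟨chk_ninn_40, List.forall_mem_cons.2 ⟨chk_ninn_41, List.forall_mem_cons.2 ⟨chk_ninn_42, List.forall_mem_cons.2 ⟨chk_ninn_43, List.forall_mem_cons.2 ⟨chk_ninn_44, List.forall_mem_cons.2 ⟨chk_ninn_45, List.forall_mem_cons.2 ⟨chk_ninn_46, List.forall_mem_cons.2 ⟨chk_ninn_47, List.forall_mem_cons.2 ⟨chk_ninn_48, List.forall_mem_cons.2 ⟨chk_ninn_49, List.forall_mem_cons.2 ⟨chk_ninn_50, List.forall_mem_cons.2 ⟨chk_ninn_51, List.forall_mem_cons.2 ⟨chk_ninn_52, List.forall_mem_cons.2 ⟨chk_ninn_53, List.forall_mem_cons.2 ⟨chk_ninn_54, List.forall_mem_cons.2 ⟨chk_ninn_55, List.forall_mem_cons.2 ⟨chk_ninn_56, List.forall_mem_cons.2 ⟨chk_ninn_57, List.forall_mem_cons.2 ⟨chk_ninn_58, List.forall_mem_cons.2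 ⟨chk_ninn_59, List.forall_mem_cons.2 ⟨chk_ninn_60, List.forall_mem_cons.2 ⟨chk_ninn_61, List.forall_mem_cons.2 ⟨chk_ninn_62, List.forall_mem_cons.2 ⟨chk_ninn_63, List.forall_mem_cons.2 ⟨chk_ninn_64, List.forall_mem_cons.2 ⟨chk_ninn_65, List.forall_mem_cons.2 ⟨chk_ninn_66, List.forall_mem_cons.2 ⟨chk_ninn_67, List.forall_mem_cons.2 ⟨chk_ninn_68, List.forall_mem_cons.2 ⟨chk_ninn_69, List.forall_mem_cons.2 ⟨chk_ninn_70, List.forall_mem_cons.2 ⟨chk_ninn_71, List.forall_mem_cons.2 ⟨chk_ninn_72, List.forall_mem_cons.2 ⟨chk_ninn_73, List.forall_mem_cons.2 ⟨chk_ninn_74, List.forall_mem_cons.2 ⟨chk_ninn_75, List.forall_mem_cons.2 ⟨chk_ninn_76, List.forall_mem_cons.2 ⟨chk_ninn_77, List.forall_mem_cons.2 ⟨chk_ninn_78, List.forall_mem_cons.2 ⟨chk_ninn_79, List.forall_mem_cons.2 ⟨chk_ninn_80, List.forall_mem_cons.2 ⟨chk_ninn_81, List.forall_mem_cons.2 ⟨chk_ninn_82, List.forall_mem_cons.2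 ⟨chk_ninn_83, List.forall_mem_cons.2 ⟨chk_ninn_84, List.forall_mem_cons.2 ⟨chk_ninn_85, List.forall_mem_cons.2 ⟨chk_ninn_86, List.forall_mem_cons.2 ⟨chk_ninn_87, List.forall_mem_cons.2 ⟨chk_ninn_88, List.forall_mem_cons.2 ⟨chk_ninn_89, List.forall_mem_cons.2 ⟨chk_ninn_90, List.forall_mem_cons.2 ⟨chk_ninn_91, List.forall_mem_cons.2 ⟨chk_ninn_92, List.forall_mem_cons.2 ⟨chk_ninn_93, List.forall_mem_cons.2 ⟨chk_ninn_94, List.forall_mem_cons.2 ⟨chk_ninn_95, List.forall_mem_cons.2 ⟨chk_ninn_96, List.forall_mem_cons.2 ⟨chk_ninn_97, List.forall_mem_cons.2 ⟨chk_ninn_98, List.forall_mem_cons.2 ⟨chk_ninn_99, List.forall_mem_cons.2 ⟨chk_ninn_100, List.forall_mem_cons.2 ⟨chk_ninn_101, List.forall_mem_cons.2 ⟨chk_ninn_102, List.forall_mem_cons.2 ⟨chk_ninn_103, List.forall_mem_cons.2 ⟨chk_ninn_104, List.forall_mem_cons.2 ⟨chk_ninn_105, List.forall_mem_cons.2 ⟨chk_ninn_106, List.forall_mem_cons.2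 ⟨chk_ninn_107, List.forall_mem_cons.2 ⟨chk_ninn_108, List.forall_mem_cons.2 ⟨chk_ninn_109, List.forall_mem_cons.2 ⟨chk_ninn_110, List.forall_mem_cons.2 ⟨chk_ninn_111, List.forall_mem_cons.2 ⟨chk_ninn_112, List.forall_mem_cons.2 ⟨chk_ninn_113, List.forall_mem_cons.2 ⟨chk_ninn_114, List.forall_mem_cons.2 ⟨chk_ninn_115, List.forall_mem_cons.2 ⟨chk_ninn_116, List.forall_mem_cons.2 ⟨chk_ninn_117, List.forall_mem_cons.2 ⟨chk_ninn_118, List.forall_mem_cons.2 ⟨chk_ninn_119, List.forall_mem_cons.2 ⟨chk_ninn_120, List.forall_mem_cons.2 ⟨chk_ninn_121, List.forall_mem_cons.2 ⟨chk_ninn_122, List.forall_mem_cons.2 ⟨chk_ninn_123, List.forall_mem_cons.2 ⟨chk_ninn_124, List.forall_mem_cons.2 ⟨chk_ninn_125, List.forall_mem_cons.2 ⟨chk_ninn_126, List.forall_mem_cons.2 ⟨chk_ninn_127, List.forall_mem_cons.2 ⟨chk_ninn_128, List.forall_mem_cons.2 ⟨chk_ninn_129, List.forall_mem_cons.2 ⟨chk_ninn_130,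 List.forall_mem_cons.2 ⟨chk_ninn_131, List.forall_mem_cons.2 ⟨chk_ninn_132, List.forall_mem_cons.2 ⟨chk_ninn_133, List.forall_mem_cons.2 ⟨chk_ninn_134, List.forall_mem_cons.2 ⟨chk_ninn_135, List.forall_mem_cons.2 ⟨chk_ninn_136, List.forall_mem_cons.2 ⟨chk_ninn_137, List.forall_mem_cons.2 ⟨chk_ninn_138, List.forall_mem_cons.2 ⟨chk_ninn_139, List.forall_mem_cons.2 ⟨chk_ninn_140, List.forall_mem_cons.2 ⟨chk_ninn_141, List.forall_mem_cons.2 ⟨chk_ninn_142, List.forall_mem_cons.2 ⟨chk_ninn_143, List.forall_mem_cons.2 ⟨chk_ninn_144, List.forall_mem_cons.2 ⟨chk_ninn_145, List.forall_mem_cons.2 ⟨chk_ninn_146, List.forall_mem_cons.2 ⟨chk_ninn_147, List.forall_mem_cons.2 ⟨chk_ninn_148, List.forall_mem_cons.2 ⟨chk_ninn_149, List.forall_mem_cons.2 ⟨chk_ninn_150, List.forall_mem_cons.2 ⟨chk_ninn_151, List.forall_mem_cons.2 ⟨chk_ninn_152, List.forall_mem_cons.2 ⟨chk_ninn_153, List.forall_mem_cons.2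 ⟨chk_ninn_154, List.forall_mem_cons.2 ⟨chk_ninn_155, List.forall_mem_cons.2 ⟨chk_ninn_156, List.forall_mem_cons.2 ⟨chk_ninn_157, List.forall_mem_cons.2 ⟨chk_ninn_158, List.forall_mem_cons.2 ⟨chk_ninn_159, List.forall_mem_cons.2 ⟨chk_ninn_160, List.forall_mem_cons.2 ⟨chk_ninn_161, List.forall_mem_cons.2 ⟨chk_ninn_162, List.forall_mem_cons.2 ⟨chk_ninn_163, List.forall_mem_cons.2 ⟨chk_ninn_164, List.forall_mem_cons.2 ⟨chk_ninn_165, List.forall_mem_cons.2 ⟨chk_ninn_166, List.forall_mem_cons.2 ⟨chk_ninn_167, List.forall_mem_cons.2 ⟨chk_ninn_168, List.forall_mem_cons.2 ⟨chk_ninn_169, List.forall_mem_cons.2 ⟨chk_ninn_170, List.forall_mem_cons.2 ⟨chk_ninn_171, List.forall_mem_cons.2 ⟨chk_ninn_172, List.forall_mem_cons.2 ⟨chk_ninn_173, List.forall_mem_cons.2 ⟨chk_ninn_174, List.forall_mem_cons.2 ⟨chk_ninn_175, List.forall_mem_cons.2 ⟨chk_ninn_176, List.forall_mem_cons.2 ⟨chk_ninn_177,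 List.forall_mem_cons.2 ⟨chk_ninn_178, List.forall_mem_cons.2 ⟨chk_ninn_179, List.forall_mem_cons.2 ⟨chk_ninn_180, List.forall_mem_cons.2 ⟨chk_ninn_181, List.forall_mem_cons.2 ⟨chk_ninn_182, List.forall_mem_cons.2 ⟨chk_ninn_183, List.forall_mem_cons.2 ⟨chk_ninn_184, fun _ h => absurd h List.not_mem_nil⟩⟩⟩⟩⟩⟩⟩⟩⟩⟩⟩⟩⟩⟩⟩⟩⟩⟩⟩⟩⟩⟩⟩⟩⟩⟩⟩⟩⟩⟩⟩⟩⟩⟩⟩⟩⟩⟩⟩⟩⟩⟩⟩⟩⟩⟩⟩⟩⟩⟩⟩⟩⟩⟩⟩⟩⟩⟩⟩⟩⟩⟩⟩⟩⟩⟩⟩⟩⟩⟩⟩⟩⟩⟩⟩⟩⟩⟩⟩⟩⟩⟩⟩⟩⟩⟩⟩⟩⟩⟩⟩⟩⟩⟩⟩⟩⟩⟩⟩⟩⟩⟩⟩⟩⟩⟩⟩⟩⟩⟩⟩⟩⟩⟩⟩⟩⟩⟩⟩⟩⟩⟩⟩⟩⟩⟩⟩⟩⟩⟩⟩⟩⟩⟩⟩⟩⟩⟩⟩⟩⟩⟩⟩⟩⟩⟩⟩⟩⟩⟩⟩⟩⟩⟩⟩⟩⟩⟩⟩⟩⟩⟩⟩⟩⟩⟩⟩⟩⟩⟩⟩⟩⟩⟩⟩⟩⟩⟩⟩⟩⟩⟩⟩⟩⟩)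

end Cfsg.Agent.Lib.Helper5.ONOut
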