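import Cfsg.Agent.Lib.Helper5.ONOut.D8
import Cfsg.Agent.Lib.Helper5.ONOut.D16
import Cfsg.Agent.Lib.Helper5.ONOut.DV

/-! # The outer automorphism group of the O'Nan group: the relation number 2, a part (generated) -/

set_option autoImplicit false
set_option maxRecDepth 100000

namespace Cfsg.Agent.Lib.Helper5.ONOut

open Cfsg.Agent.PF Cfsg.Agent.Lib.Helper6 Cfsg.Agent.Lib.Helper6.TC Cfsg.Agent.Lib.Helper6.NatArr Cfsg.Agent.Lib.Helper5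
open Cfsg.Agent.PL (Acts evalF)

theorem rel2_25 : allR 42625 1705 (fun q => Nat.beq ((fun q => f8 (f8 (fv (f8 (f8 (fv (f8 (f8 (fv (f8 (f8 (fv (f8 (f8 (fv (f8 (f8 (fv (f8 (f8 (fv (f8 (f8 (fv (f8 (f8 (fv (f8 (f8 (fv (f8 (f8 (fv (f8 (f8 (fv (f8 (f8 (fv (f8 (f8 (fv (f8 (f8 (fv (f8 (f8 (fv (f8 (f8 (fv (f8 (f8 (fv (f8 (f8 (fv (q)))))))))))))))))))))))))))))))))))))))))))))))))))))))))) q) ((fun q => q) q)) = true := by decide +kernel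

theorem rel2_26 : allR 44330 1705 (fun q => Nat.beq ((fun q => f8 (f8 (fv (f8 (f8 (fv (f8 (f8 (fv (f8 (f8 (fv (f8 (f8 (fv (f8 (f8 (fv (f8 (f8 (fv (f8 (f8 (fv (f8 (f8 (fv (f8 (f8 (fv (f8 (f8 (fv (f8 (f8 (fv (f8 (f8 (fv (f8 (f8 (fv (f8 (f8 (fv (f8 (f8 (fv (f8 (f8 (fv (f8 (f8 (fv (f8 (f8 (fv (q)))))))))))))))))))))))))))))))))))))))))))))))))))))))))) q) ((fun q => q) q)) = true := by decide +kernel

theorem rel2_27 : allR 46035 1705 (fun q => Nat.beq ((fun q => f8 (f8 (fv (f8 (f8 (fv (f8 (f8 (fv (f8 (f8 (fv (f8 (f8 (fv (f8 (f8 (fv (f8 (f8 (fv (f8 (f8 (fv (f8 (f8 (fv (f8 (f8 (fv (f8 (f8 (fv (f8 (f8 (fv (f8 (f8 (fv (f8 (f8 (fv (f8 (f8 (fv (f8 (f8 (fv (f8 (f8 (fv (f8 (f8 (fv (f8 (f8 (fv (q)))))))))))))))))))))))))))))))))))))))))))))))))))))))))) q) ((fun q => q) q)) = true := by decide +kernel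

theorem rel2_28 : allR 47740 1705 (fun q => Nat.beq ((fun q => f8 (f8 (fv (f8 (f8 (fv (f8 (f8 (fv (f8 (f8 (fv (f8 (f8 (fv (f8 (f8 (fv (f8 (f8 (fv (f8 (f8 (fv (f8 (f8 (fv (f8 (f8 (fv (f8 (f8 (fv (f8 (f8 (fv (f8 (f8 (fv (f8 (f8 (fv (f8 (f8 (fv (f8 (f8 (fv (f8 (f8 (fv (f8 (f8 (fv (f8 (f8 (fv (q)))))))))))))))))))))))))))))))))))))))))))))))))))))))))) q) ((fun q => q) q)) = true := by decide +kernel

theorem rel2_29 : allR 49445 1705 (fun q => Nat.beq ((fun q => f8 (f8 (fv (f8 (f8 (fv (f8 (f8 (fv (f8 (f8 (fv (f8 (f8 (fv (f8 (f8 (fv (f8 (f8 (fv (f8 (f8 (fv (f8 (f8 (fv (f8 (f8 (fv (f8 (f8 (fv (f8 (f8 (fv (f8 (f8 (fv (f8 (f8 (fv (f8 (f8 (fv (f8 (f8 (fv (f8 (f8 (fv (f8 (f8 (fv (f8 (f8 (fv (q)))))))))))))))))))))))))))))))))))))))))))))))))))))))))) q) ((fun q => q) q)) = true := by decide +kernel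

theorem rel2_30 : allR 51150 1705 (fun q => Nat.beq ((fun q => f8 (f8 (fv (f8 (f8 (fv (f8 (f8 (fv (f8 (f8 (fv (f8 (f8 (fv (f8 (f8 (fv (f8 (f8 (fv (f8 (f8 (fv (f8 (f8 (fv (f8 (f8 (fv (f8 (f8 (fv (f8 (f8 (fv (f8 (f8 (fv (f8 (f8 (fv (f8 (f8 (fv (f8 (f8 (fv (f8 (f8 (fv (f8 (f8 (fv (f8 (f8 (fv (q)))))))))))))))))))))))))))))))))))))))))))))))))))))))))) q) ((fun q => q) q)) = true := by decide +kernel

theorem rel2_31 : allR 52855 1705 (fun q => Nat.beq ((fun q => f8 (f8 (fv (f8 (f8 (fv (f8 (f8 (fv (f8 (f8 (fv (f8 (f8 (fv (f8 (f8 (fv (f8 (f8 (fv (f8 (f8 (fv (f8 (f8 (fv (f8 (f8 (fv (f8 (f8 (fv (f8 (f8 (fv (f8 (f8 (fv (f8 (f8 (fv (f8 (f8 (fv (f8 (f8 (fv (f8 (f8 (fv (f8 (f8 (fv (f8 (f8 (fv (q)))))))))))))))))))))))))))))))))))))))))))))))))))))))))) q) ((fun q => q) q)) = true := by decide +kernel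

theorem rel2_32 : allR 54560 1705 (fun q => Nat.beq ((fun q => f8 (f8 (fv (f8 (f8 (fv (f8 (f8 (fv (f8 (f8 (fv (f8 (f8 (fv (f8 (f8 (fv (f8 (f8 (fv (f8 (f8 (fv (f8 (f8 (fv (f8 (f8 (fv (f8 (f8 (fv (f8 (f8 (fv (f8 (f8 (fv (f8 (f8 (fv (f8 (f8 (fv (f8 (f8 (fv (f8 (f8 (fv (f8 (f8 (fv (f8 (f8 (fv (q)))))))))))))))))))))))))))))))))))))))))))))))))))))))))) q) ((fun q => q) q)) = true := by decide +kernel

theorem rel2_33 : allR 56265 1705 (fun q => Nat.beq ((fun q => f8 (f8 (fv (f8 (f8 (fv (f8 (f8 (fv (f8 (f8 (fv (f8 (f8 (fv (f8 (f8 (fv (f8 (f8 (fv (f8 (f8 (fv (f8 (f8 (fv (f8 (f8 (fv (f8 (f8 (fv (f8 (f8 (fv (f8 (f8 (fv (f8 (f8 (fv (f8 (f8 (fv (f8 (f8 (fv (f8 (f8 (fv (f8 (f8 (fv (f8 (f8 (fv (q)))))))))))))))))))))))))))))))))))))))))))))))))))))))))) q) ((fun q => q) q)) = true := by decide +kernel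

theorem rel2_34 : allR 57970 1705 (fun q => Nat.beq ((fun q => f8 (f8 (fv (f8 (f8 (fv (f8 (f8 (fv (f8 (f8 (fv (f8 (f8 (fv (f8 (f8 (fv (f8 (f8 (fv (f8 (f8 (fv (f8 (f8 (fv (f8 (f8 (fv (f8 (f8 (fv (f8 (f8 (fv (f8 (f8 (fv (f8 (f8 (fv (f8 (f8 (fv (f8 (f8 (fv (f8 (f8 (fv (f8 (f8 (fv (f8 (f8 (fv (q)))))))))))))))))))))))))))))))))))))))))))))))))))))))))) q) ((fun q => q) q)) = true := by decide +kernel

theorem rel2_35 : allR 59675 1705 (fun q => Nat.beq ((fun q => f8 (f8 (fv (f8 (f8 (fv (f8 (f8 (fv (f8 (f8 (fv (f8 (f8 (fv (f8 (f8 (fv (f8 (f8 (fv (f8 (f8 (fv (f8 (f8 (fv (f8 (f8 (fv (f8 (f8 (fv (f8 (f8 (fv (f8 (f8 (fv (f8 (f8 (fv (f8 (f8 (fv (f8 (f8 (fv (f8 (f8 (fv (f8 (f8 (fv (f8 (f8 (fv (q)))))))))))))))))))))))))))))))))))))))))))))))))))))))))) q) ((fun q => q) q)) = true := by decide +kernel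

theorem rel2_36 : allR 61380 1705 (fun q => Nat.beq ((fun q => f8 (f8 (fv (f8 (f8 (fv (f8 (f8 (fv (f8 (f8 (fv (f8 (f8 (fv (f8 (f8 (fv (f8 (f8 (fv (f8 (f8 (fv (f8 (f8 (fv (f8 (f8 (fv (f8 (f8 (fv (f8 (f8 (fv (f8 (f8 (fv (f8 (f8 (fv (f8 (f8 (fv (f8 (f8 (fv (f8 (f8 (fv (f8 (f8 (fv (f8 (f8 (fv (q)))))))))))))))))))))))))))))))))))))))))))))))))))))))))) q) ((fun q => q) q)) = true := by decide +kernel

theorem rel2_37 : allR 63085 1705 (fun q => Nat.beq ((fun q => f8 (f8 (fv (f8 (f8 (fv (f8 (f8 (fv (f8 (f8 (fv (f8 (f8 (fv (f8 (f8 (fv (f8 (f8 (fv (f8 (f8 (fv (f8 (f8 (fv (f8 (f8 (fv (f8 (f8 (fv (f8 (f8 (fv (f8 (f8 (fv (f8 (f8 (fv (f8 (f8 (fv (f8 (f8 (fv (f8 (f8 (fv (f8 (f8 (fv (f8 (f8 (fv (q)))))))))))))))))))))))))))))))))))))))))))))))))))))))))) q) ((fun q => q) q)) = true := by decide +kernel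

theorem rel2_38 : allR 64790 1705 (fun q => Nat.beq ((fun q => f8 (f8 (fv (f8 (f8 (fv (f8 (f8 (fv (f8 (f8 (fv (f8 (f8 (fv (f8 (f8 (fv (f8 (f8 (fv (f8 (f8 (fv (f8 (f8 (fv (f8 (f8 (fv (f8 (f8 (fv (f8 (f8 (fv (f8 (f8 (fv (f8 (f8 (fv (f8 (f8 (fv (f8 (f8 (fv (f8 (f8 (fv (f8 (f8 (fv (f8 (f8 (fv (q)))))))))))))))))))))))))))))))))))))))))))))))))))))))))) q) ((fun q => q) q)) = true := by decide +kernel

theorem rel2_39 : allR 66495 1705 (fun q => Nat.beq ((fun q => f8 (f8 (fv (f8 (f8 (fv (f8 (f8 (fv (f8 (f8 (fv (f8 (f8 (fv (f8 (f8 (fv (f8 (f8 (fv (f8 (f8 (fv (f8 (f8 (fv (f8 (f8 (fv (f8 (f8 (fv (f8 (f8 (fv (f8 (f8 (fv (f8 (f8 (fv (f8 (f8 (fv (f8 (f8 (fv (f8 (f8 (fv (f8 (f8 (fv (f8 (f8 (fv (q)))))))))))))))))))))))))))))))))))))))))))))))))))))))))) q) ((fun q => q) q)) = true := by decide +kernel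

theorem rel2_40 : allR 68200 1705 (fun q => Nat.beq ((fun q => f8 (f8 (fv (f8 (f8 (fv (f8 (f8 (fv (f8 (f8 (fv (f8 (f8 (fv (f8 (f8 (fv (f8 (f8 (fv (f8 (f8 (fv (f8 (f8 (fv (f8 (f8 (fv (f8 (f8 (fv (f8 (f8 (fv (f8 (f8 (fv (f8 (f8 (fv (f8 (f8 (fv (f8 (f8 (fv (f8 (f8 (fv (f8 (f8 (fv (f8 (f8 (fv (q)))))))))))))))))))))))))))))))))))))))))))))))))))))))))) q) ((fun q => q) q)) = true := by decide +kernel

theorem rel2_41 : allR 69905 1705 (fun q => Nat.beq ((fun q => f8 (f8 (fv (f8 (f8 (fv (f8 (f8 (fv (f8 (f8 (fv (f8 (f8 (fv (f8 (f8 (fv (f8 (f8 (fv (f8 (f8 (fv (f8 (f8 (fv (f8 (f8 (fv (f8 (f8 (fv (f8 (f8 (fv (f8 (f8 (fv (f8 (f8 (fv (f8 (f8 (fv (f8 (f8 (fv (f8 (f8 (fv (f8 (f8 (fv (f8 (f8 (fv (q)))))))))))))))))))))))))))))))))))))))))))))))))))))))))) q) ((fun q => q) q)) = true := by decide +kernel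

theorem rel2_42 : allR 71610 1705 (fun q => Nat.beq ((fun q => f8 (f8 (fv (f8 (f8 (fv (f8 (f8 (fv (f8 (f8 (fv (f8 (f8 (fv (f8 (f8 (fv (f8 (f8 (fv (f8 (f8 (fv (f8 (f8 (fv (f8 (f8 (fv (f8 (f8 (fv (f8 (f8 (fv (f8 (f8 (fv (f8 (f8 (fv (f8 (f8 (fv (f8 (f8 (fv (f8 (f8 (fv (f8 (f8 (fv (f8 (f8 (fv (q)))))))))))))))))))))))))))))))))))))))))))))))))))))))))) q) ((fun q => q) q)) = true := by decide +kernel

theorem rel2_43 : allR 73315 1705 (fun q => Nat.beq ((fun q => f8 (f8 (fv (f8 (f8 (fv (f8 (f8 (fv (f8 (f8 (fv (f8 (f8 (fv (f8 (f8 (fv (f8 (f8 (fv (f8 (f8 (fv (f8 (f8 (fv (f8 (f8 (fv (f8 (f8 (fv (f8 (f8 (fv (f8 (f8 (fv (f8 (f8 (fv (f8 (f8 (fv (f8 (f8 (fv (f8 (f8 (fv (f8 (f8 (fv (f8 (f8 (fv (q)))))))))))))))))))))))))))))))))))))))))))))))))))))))))) q) ((fun q => q) q)) = true := by decide +kernel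

theorem rel2_44 : allR 75020 1705 (fun q => Nat.beq ((fun q => f8 (f8 (fv (f8 (f8 (fv (f8 (f8 (fv (f8 (f8 (fv (f8 (f8 (fv (f8 (f8 (fv (f8 (f8 (fv (f8 (f8 (fv (f8 (f8 (fv (f8 (f8 (fv (f8 (f8 (fv (f8 (f8 (fv (f8 (f8 (fv (f8 (f8 (fv (f8 (f8 (fv (f8 (f8 (fv (f8 (f8 (fv (f8 (f8 (fv (f8 (f8 (fv (q)))))))))))))))))))))))))))))))))))))))))))))))))))))))))) q) ((fun q => q) q)) = true := by decide +kernel

theorem rel2_45 : allR 76725 1705 (fun q => Nat.beq ((fun q => f8 (f8 (fv (f8 (f8 (fv (f8 (f8 (fv (f8 (f8 (fv (f8 (f8 (fv (f8 (f8 (fv (f8 (f8 (fv (f8 (f8 (fv (f8 (f8 (fv (f8 (f8 (fv (f8 (f8 (fv (f8 (f8 (fv (f8 (f8 (fv (f8 (f8 (fv (f8 (f8 (fv (f8 (f8 (fv (f8 (f8 (fv (f8 (f8 (fv (f8 (f8 (fv (q)))))))))))))))))))))))))))))))))))))))))))))))))))))))))) q) ((fun q => q) q)) = true := by decide +kernel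

theorem rel2_46 : allR 78430 1705 (fun q => Nat.beq ((fun q => f8 (f8 (fv (f8 (f8 (fv (f8 (f8 (fv (f8 (f8 (fv (f8 (f8 (fv (f8 (f8 (fv (f8 (f8 (fv (f8 (f8 (fv (f8 (f8 (fv (f8 (f8 (fv (f8 (f8 (fv (f8 (f8 (fv (f8 (f8 (fv (f8 (f8 (fv (f8 (f8 (fv (f8 (f8 (fv (f8 (f8 (fv (f8 (f8 (fv (f8 (f8 (fv (q)))))))))))))))))))))))))))))))))))))))))))))))))))))))))) q) ((fun q => q) q)) = true := by decide +kernel

theorem rel2_47 : allR 80135 1705 (fun q => Nat.beq ((fun q => f8 (f8 (fv (f8 (f8 (fv (f8 (f8 (fv (f8 (f8 (fv (f8 (f8 (fv (f8 (f8 (fv (f8 (f8 (fv (f8 (f8 (fv (f8 (f8 (fv (f8 (f8 (fv (f8 (f8 (fv (f8 (f8 (fv (f8 (f8 (fv (f8 (f8 (fv (f8 (f8 (fv (f8 (f8 (fv (f8 (f8 (fv (f8 (f8 (fv (f8 (f8 (fv (q)))))))))))))))))))))))))))))))))))))))))))))))))))))))))) q) ((fun q => q) q)) = true := by decide +kernel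

theorem rel2_48 : allR 81840 1705 (fun q => Nat.beq ((fun q => f8 (f8 (fv (f8 (f8 (fv (f8 (f8 (fv (f8 (f8 (fv (f8 (f8 (fv (f8 (f8 (fv (f8 (f8 (fv (f8 (f8 (fv (f8 (f8 (fv (f8 (f8 (fv (f8 (f8 (fv (f8 (f8 (fv (f8 (f8 (fv (f8 (f8 (fv (f8 (f8 (fv (f8 (f8 (fv (f8 (f8 (fv (f8 (f8 (fv (f8 (f8 (fv (q)))))))))))))))))))))))))))))))))))))))))))))))))))))))))) q) ((fun q => q) q)) = true := by decide +kernel

theorem rel2_49 : allR 83545 1705 (fun q => Nat.beq ((fun q => f8 (f8 (fv (f8 (f8 (fv (f8 (f8 (fv (f8 (f8 (fv (f8 (f8 (fv (f8 (f8 (fv (f8 (f8 (fv (f8 (f8 (fv (f8 (f8 (fv (f8 (f8 (fv (f8 (f8 (fv (f8 (f8 (fv (f8 (f8 (fv (f8 (f8 (fv (f8 (f8 (fv (f8 (f8 (fv (f8 (f8 (fv (f8 (f8 (fv (f8 (f8 (fv (q)))))))))))))))))))))))))))))))))))))))))))))))))))))))))) q) ((fun q => q) q)) = true := by decide +kernel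


end Cfsg.Agent.Lib.Helper5.ONOut
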