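import Cfsg.Agent.Lib.Helper5.ONOut.D8
import Cfsg.Agent.Lib.Helper5.ONOut.D16
import Cfsg.Agent.Lib.Helper5.ONOut.DV

/-! # The outer automorphism group of the O'Nan group: the relation number 2, a part (generated) -/

set_option autoImplicit false
set_option maxRecDepth 100000

namespace Cfsg.Agent.Lib.Helper5.ONOut

open Cfsg.Agent.PF Cfsg.Agent.Lib.Helper6 Cfsg.Agent.Lib.Helper6.TC Cfsg.Agent.Lib.Helper6.NatArr Cfsg.Agent.Lib.Helper5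
open Cfsg.Agent.PL (Acts evalF)

theorem rel2_50 : allR 85250 1705 (fun q => Nat.beq ((fun q => f8 (f8 (fv (f8 (f8 (fv (f8 (f8 (fv (f8 (f8 (fv (f8 (f8 (fv (f8 (f8 (fv (f8 (f8 (fv (f8 (f8 (fv (f8 (f8 (fv (f8 (f8 (fv (f8 (f8 (fv (f8 (f8 (fv (f8 (f8 (fv (f8 (f8 (fv (f8 (f8 (fv (f8 (f8 (fv (f8 (f8 (fv (f8 (f8 (fv (f8 (f8 (fv (q)))))))))))))))))))))))))))))))))))))))))))))))))))))))))) q) ((fun q => q) q)) = true := by decide +kernel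

theorem rel2_51 : allR 86955 1705 (fun q => Nat.beq ((fun q => f8 (f8 (fv (f8 (f8 (fv (f8 (f8 (fv (f8 (f8 (fv (f8 (f8 (fv (f8 (f8 (fv (f8 (f8 (fv (f8 (f8 (fv (f8 (f8 (fv (f8 (f8 (fv (f8 (f8 (fv (f8 (f8 (fv (f8 (f8 (fv (f8 (f8 (fv (f8 (f8 (fv (f8 (f8 (fv (f8 (f8 (fv (f8 (f8 (fv (f8 (f8 (fv (q)))))))))))))))))))))))))))))))))))))))))))))))))))))))))) q) ((fun q => q) q)) = true := by decide +kernel

theorem rel2_52 : allR 88660 1705 (fun q => Nat.beq ((fun q => f8 (f8 (fv (f8 (f8 (fv (f8 (f8 (fv (f8 (f8 (fv (f8 (f8 (fv (f8 (f8 (fv (f8 (f8 (fv (f8 (f8 (fv (f8 (f8 (fv (f8 (f8 (fv (f8 (f8 (fv (f8 (f8 (fv (f8 (f8 (fv (f8 (f8 (fv (f8 (f8 (fv (f8 (f8 (fv (f8 (f8 (fv (f8 (f8 (fv (f8 (f8 (fv (q)))))))))))))))))))))))))))))))))))))))))))))))))))))))))) q) ((fun q => q) q)) = true := by decide +kernel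

theorem rel2_53 : allR 90365 1705 (fun q => Nat.beq ((fun q => f8 (f8 (fv (f8 (f8 (fv (f8 (f8 (fv (f8 (f8 (fv (f8 (f8 (fv (f8 (f8 (fv (f8 (f8 (fv (f8 (f8 (fv (f8 (f8 (fv (f8 (f8 (fv (f8 (f8 (fv (f8 (f8 (fv (f8 (f8 (fv (f8 (f8 (fv (f8 (f8 (fv (f8 (f8 (fv (f8 (f8 (fv (f8 (f8 (fv (f8 (f8 (fv (q)))))))))))))))))))))))))))))))))))))))))))))))))))))))))) q) ((fun q => q) q)) = true := by decide +kernel

theorem rel2_54 : allR 92070 1705 (fun q => Nat.beq ((fun q => f8 (f8 (fv (f8 (f8 (fv (f8 (f8 (fv (f8 (f8 (fv (f8 (f8 (fv (f8 (f8 (fv (f8 (f8 (fv (f8 (f8 (fv (f8 (f8 (fv (f8 (f8 (fv (f8 (f8 (fv (f8 (f8 (fv (f8 (f8 (fv (f8 (f8 (fv (f8 (f8 (fv (f8 (f8 (fv (f8 (f8 (fv (f8 (f8 (fv (f8 (f8 (fv (q)))))))))))))))))))))))))))))))))))))))))))))))))))))))))) q) ((fun q => q) q)) = true := by decide +kernel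

theorem rel2_55 : allR 93775 1705 (fun q => Nat.beq ((fun q => f8 (f8 (fv (f8 (f8 (fv (f8 (f8 (fv (f8 (f8 (fv (f8 (f8 (fv (f8 (f8 (fv (f8 (f8 (fv (f8 (f8 (fv (f8 (f8 (fv (f8 (f8 (fv (f8 (f8 (fv (f8 (f8 (fv (f8 (f8 (fv (f8 (f8 (fv (f8 (f8 (fv (f8 (f8 (fv (f8 (f8 (fv (f8 (f8 (fv (f8 (f8 (fv (q)))))))))))))))))))))))))))))))))))))))))))))))))))))))))) q) ((fun q => q) q)) = true := by decide +kernel

theorem rel2_56 : allR 95480 1705 (fun q => Nat.beq ((fun q => f8 (f8 (fv (f8 (f8 (fv (f8 (f8 (fv (f8 (f8 (fv (f8 (f8 (fv (f8 (f8 (fv (f8 (f8 (fv (f8 (f8 (fv (f8 (f8 (fv (f8 (f8 (fv (f8 (f8 (fv (f8 (f8 (fv (f8 (f8 (fv (f8 (f8 (fv (f8 (f8 (fv (f8 (f8 (fv (f8 (f8 (fv (f8 (f8 (fv (f8 (f8 (fv (q)))))))))))))))))))))))))))))))))))))))))))))))))))))))))) q) ((fun q => q) q)) = true := by decide +kernel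

theorem rel2_57 : allR 97185 1705 (fun q => Nat.beq ((fun q => f8 (f8 (fv (f8 (f8 (fv (f8 (f8 (fv (f8 (f8 (fv (f8 (f8 (fv (f8 (f8 (fv (f8 (f8 (fv (f8 (f8 (fv (f8 (f8 (fv (f8 (f8 (fv (f8 (f8 (fv (f8 (f8 (fv (f8 (f8 (fv (f8 (f8 (fv (f8 (f8 (fv (f8 (f8 (fv (f8 (f8 (fv (f8 (f8 (fv (f8 (f8 (fv (q)))))))))))))))))))))))))))))))))))))))))))))))))))))))))) q) ((fun q => q) q)) = true := by decide +kernel

theorem rel2_58 : allR 98890 1705 (fun q => Nat.beq ((fun q => f8 (f8 (fv (f8 (f8 (fv (f8 (f8 (fv (f8 (f8 (fv (f8 (f8 (fv (f8 (f8 (fv (f8 (f8 (fv (f8 (f8 (fv (f8 (f8 (fv (f8 (f8 (fv (f8 (f8 (fv (f8 (f8 (fv (f8 (f8 (fv (f8 (f8 (fv (f8 (f8 (fv (f8 (f8 (fv (f8 (f8 (fv (f8 (f8 (fv (f8 (f8 (fv (q)))))))))))))))))))))))))))))))))))))))))))))))))))))))))) q) ((fun q => q) q)) = true := by decide +kernel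

theorem rel2_59 : allR 100595 1705 (fun q => Nat.beq ((fun q => f8 (f8 (fv (f8 (f8 (fv (f8 (f8 (fv (f8 (f8 (fv (f8 (f8 (fv (f8 (f8 (fv (f8 (f8 (fv (f8 (f8 (fv (f8 (f8 (fv (f8 (f8 (fv (f8 (f8 (fv (f8 (f8 (fv (f8 (f8 (fv (f8 (f8 (fv (f8 (f8 (fv (f8 (f8 (fv (f8 (f8 (fv (f8 (f8 (fv (f8 (f8 (fv (q)))))))))))))))))))))))))))))))))))))))))))))))))))))))))) q) ((fun q => q) q)) = true := by decide +kernel

theorem rel2_60 : allR 102300 1705 (fun q => Nat.beq ((fun q => f8 (f8 (fv (f8 (f8 (fv (f8 (f8 (fv (f8 (f8 (fv (f8 (f8 (fv (f8 (f8 (fv (f8 (f8 (fv (f8 (f8 (fv (f8 (f8 (fv (f8 (f8 (fv (f8 (f8 (fv (f8 (f8 (fv (f8 (f8 (fv (f8 (f8 (fv (f8 (f8 (fv (f8 (f8 (fv (f8 (f8 (fv (f8 (f8 (fv (f8 (f8 (fv (q)))))))))))))))))))))))))))))))))))))))))))))))))))))))))) q) ((fun q => q) q)) = true := by decide +kernel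

theorem rel2_61 : allR 104005 1705 (fun q => Nat.beq ((fun q => f8 (f8 (fv (f8 (f8 (fv (f8 (f8 (fv (f8 (f8 (fv (f8 (f8 (fv (f8 (f8 (fv (f8 (f8 (fv (f8 (f8 (fv (f8 (f8 (fv (f8 (f8 (fv (f8 (f8 (fv (f8 (f8 (fv (f8 (f8 (fv (f8 (f8 (fv (f8 (f8 (fv (f8 (f8 (fv (f8 (f8 (fv (f8 (f8 (fv (f8 (f8 (fv (q)))))))))))))))))))))))))))))))))))))))))))))))))))))))))) q) ((fun q => q) q)) = true := by decide +kernel

theorem rel2_62 : allR 105710 1705 (fun q => Nat.beq ((fun q => f8 (f8 (fv (f8 (f8 (fv (f8 (f8 (fv (f8 (f8 (fv (f8 (f8 (fv (f8 (f8 (fv (f8 (f8 (fv (f8 (f8 (fv (f8 (f8 (fv (f8 (f8 (fv (f8 (f8 (fv (f8 (f8 (fv (f8 (f8 (fv (f8 (f8 (fv (f8 (f8 (fv (f8 (f8 (fv (f8 (f8 (fv (f8 (f8 (fv (f8 (f8 (fv (q)))))))))))))))))))))))))))))))))))))))))))))))))))))))))) q) ((fun q => q) q)) = true := by decide +kernel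

theorem rel2_63 : allR 107415 1705 (fun q => Nat.beq ((fun q => f8 (f8 (fv (f8 (f8 (fv (f8 (f8 (fv (f8 (f8 (fv (f8 (f8 (fv (f8 (f8 (fv (f8 (f8 (fv (f8 (f8 (fv (f8 (f8 (fv (f8 (f8 (fv (f8 (f8 (fv (f8 (f8 (fv (f8 (f8 (fv (f8 (f8 (fv (f8 (f8 (fv (f8 (f8 (fv (f8 (f8 (fv (f8 (f8 (fv (f8 (f8 (fv (q)))))))))))))))))))))))))))))))))))))))))))))))))))))))))) q) ((fun q => q) q)) = true := by decide +kernel

theorem rel2_64 : allR 109120 1705 (fun q => Nat.beq ((fun q => f8 (f8 (fv (f8 (f8 (fv (f8 (f8 (fv (f8 (f8 (fv (f8 (f8 (fv (f8 (f8 (fv (f8 (f8 (fv (f8 (f8 (fv (f8 (f8 (fv (f8 (f8 (fv (f8 (f8 (fv (f8 (f8 (fv (f8 (f8 (fv (f8 (f8 (fv (f8 (f8 (fv (f8 (f8 (fv (f8 (f8 (fv (f8 (f8 (fv (f8 (f8 (fv (q)))))))))))))))))))))))))))))))))))))))))))))))))))))))))) q) ((fun q => q) q)) = true := by decide +kernel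

theorem rel2_65 : allR 110825 1705 (fun q => Nat.beq ((fun q => f8 (f8 (fv (f8 (f8 (fv (f8 (f8 (fv (f8 (f8 (fv (f8 (f8 (fv (f8 (f8 (fv (f8 (f8 (fv (f8 (f8 (fv (f8 (f8 (fv (f8 (f8 (fv (f8 (f8 (fv (f8 (f8 (fv (f8 (f8 (fv (f8 (f8 (fv (f8 (f8 (fv (f8 (f8 (fv (f8 (f8 (fv (f8 (f8 (fv (f8 (f8 (fv (q)))))))))))))))))))))))))))))))))))))))))))))))))))))))))) q) ((fun q => q) q)) = true := by decide +kernel

theorem rel2_66 : allR 112530 1705 (fun q => Nat.beq ((fun q => f8 (f8 (fv (f8 (f8 (fv (f8 (f8 (fv (f8 (f8 (fv (f8 (f8 (fv (f8 (f8 (fv (f8 (f8 (fv (f8 (f8 (fv (f8 (f8 (fv (f8 (f8 (fv (f8 (f8 (fv (f8 (f8 (fv (f8 (f8 (fv (f8 (f8 (fv (f8 (f8 (fv (f8 (f8 (fv (f8 (f8 (fv (f8 (f8 (fv (f8 (f8 (fv (q)))))))))))))))))))))))))))))))))))))))))))))))))))))))))) q) ((fun q => q) q)) = true := by decide +kernel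

theorem rel2_67 : allR 114235 1705 (fun q => Nat.beq ((fun q => f8 (f8 (fv (f8 (f8 (fv (f8 (f8 (fv (f8 (f8 (fv (f8 (f8 (fv (f8 (f8 (fv (f8 (f8 (fv (f8 (f8 (fv (f8 (f8 (fv (f8 (f8 (fv (f8 (f8 (fv (f8 (f8 (fv (f8 (f8 (fv (f8 (f8 (fv (f8 (f8 (fv (f8 (f8 (fv (f8 (f8 (fv (f8 (f8 (fv (f8 (f8 (fv (q)))))))))))))))))))))))))))))))))))))))))))))))))))))))))) q) ((fun q => q) q)) = true := by decide +kernel

theorem rel2_68 : allR 115940 1705 (fun q => Nat.beq ((fun q => f8 (f8 (fv (f8 (f8 (fv (f8 (f8 (fv (f8 (f8 (fv (f8 (f8 (fv (f8 (f8 (fv (f8 (f8 (fv (f8 (f8 (fv (f8 (f8 (fv (f8 (f8 (fv (f8 (f8 (fv (f8 (f8 (fv (f8 (f8 (fv (f8 (f8 (fv (f8 (f8 (fv (f8 (f8 (fv (f8 (f8 (fv (f8 (f8 (fv (f8 (f8 (fv (q)))))))))))))))))))))))))))))))))))))))))))))))))))))))))) q) ((fun q => q) q)) = true := by decide +kernel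

theorem rel2_69 : allR 117645 1705 (fun q => Nat.beq ((fun q => f8 (f8 (fv (f8 (f8 (fv (f8 (f8 (fv (f8 (f8 (fv (f8 (f8 (fv (f8 (f8 (fv (f8 (f8 (fv (f8 (f8 (fv (f8 (f8 (fv (f8 (f8 (fv (f8 (f8 (fv (f8 (f8 (fv (f8 (f8 (fv (f8 (f8 (fv (f8 (f8 (fv (f8 (f8 (fv (f8 (f8 (fv (f8 (f8 (fv (f8 (f8 (fv (q)))))))))))))))))))))))))))))))))))))))))))))))))))))))))) q) ((fun q => q) q)) = true := by decide +kernel

theorem rel2_70 : allR 119350 1705 (fun q => Nat.beq ((fun q => f8 (f8 (fv (f8 (f8 (fv (f8 (f8 (fv (f8 (f8 (fv (f8 (f8 (fv (f8 (f8 (fv (f8 (f8 (fv (f8 (f8 (fv (f8 (f8 (fv (f8 (f8 (fv (f8 (f8 (fv (f8 (f8 (fv (f8 (f8 (fv (f8 (f8 (fv (f8 (f8 (fv (f8 (f8 (fv (f8 (f8 (fv (f8 (f8 (fv (f8 (f8 (fv (q)))))))))))))))))))))))))))))))))))))))))))))))))))))))))) q) ((fun q => q) q)) = true := by decide +kernel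

theorem rel2_71 : allR 121055 1705 (fun q => Nat.beq ((fun q => f8 (f8 (fv (f8 (f8 (fv (f8 (f8 (fv (f8 (f8 (fv (f8 (f8 (fv (f8 (f8 (fv (f8 (f8 (fv (f8 (f8 (fv (f8 (f8 (fv (f8 (f8 (fv (f8 (f8 (fv (f8 (f8 (fv (f8 (f8 (fv (f8 (f8 (fv (f8 (f8 (fv (f8 (f8 (fv (f8 (f8 (fv (f8 (f8 (fv (f8 (f8 (fv (q)))))))))))))))))))))))))))))))))))))))))))))))))))))))))) q) ((fun q => q) q)) = true := by decide +kernel


end Cfsg.Agent.Lib.Helper5.ONOut
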