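import Cfsg.Agent.Lib.Helper5.ONOut.Rel2x0
import Cfsg.Agent.Lib.Helper5.ONOut.Rel2x1
import Cfsg.Agent.Lib.Helper5.ONOut.Rel2x2
import Cfsg.Agent.Lib.Helper5.ONOut.Kills

/-! # The outer automorphism group of the O'Nan group: the relation number 2 (generated) -/

set_option autoImplicit false
set_option maxRecDepth 100000

namespace Cfsg.Agent.Lib.Helper5.ONOut

open Cfsg.Agent.PF Cfsg.Agent.Lib.Helper6 Cfsg.Agent.Lib.Helper6.TC Cfsg.Agent.Lib.Helper6.NatArr Cfsg.Agent.Lib.Helper5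
open Cfsg.Agent.PL (Acts evalF)

/-- a relation -/
theorem rel2 : ∀ q < 122760, (evalF f8 f16 fv [0, 0, 2])^[19] q = (fun q => q) q :=
  eq_of_chunks (f := (fun q => f8 (f8 (fv (f8 (f8 (fv (f8 (f8 (fv (f8 (f8 (fv (f8 (f8 (fv (f8 (f8 (fv (f8 (f8 (fv (f8 (f8 (fv (f8 (f8 (fv (f8 (f8 (fv (f8 (f8 (fv (f8 (f8 (fv (f8 (f8 (fv (f8 (f8 (fv (f8 (f8 (fv (f8 (f8 (fv (f8 (f8 (fv (f8 (f8 (fv (f8 (f8 (fv (q))))))))))))))))))))))))))))))))))))))))))))))))))))))))))) (g := (fun q => q)) [(0, 1705), (1705, 1705), (3410, 1705), (5115, 1705), (6820, 1705), (8525, 1705), (10230, 1705), (11935, 1705), (13640, 1705), (15345, 1705), (17050, 1705), (18755, 1705), (20460, 1705), (22165, 1705), (23870, 1705), (25575, 1705), (27280, 1705), (28985, 1705), (30690, 1705), (32395, 1705), (34100, 1705), (35805, 1705), (37510, 1705), (39215, 1705), (40920, 1705), (42625, 1705), (44330, 1705),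 (46035, 1705), (47740, 1705), (49445, 1705), (51150, 1705), (52855, 1705), (54560, 1705), (56265, 1705), (57970, 1705), (59675, 1705), (61380, 1705), (63085, 1705), (64790, 1705), (66495, 1705), (68200, 1705), (69905, 1705), (71610, 1705), (73315, 1705), (75020, 1705), (76725, 1705), (78430, 1705), (80135, 1705), (81840, 1705), (83545, 1705), (85250, 1705), (86955, 1705), (88660, 1705), (90365, 1705), (92070, 1705), (93775, 1705), (95480, 1705), (97185, 1705), (98890, 1705), (100595, 1705), (102300, 1705), (104005, 1705), (105710, 1705), (107415, 1705), (109120, 1705), (110825, 1705), (112530, 1705), (114235, 1705), (115940, 1705), (117645, 1705), (119350, 1705), (121055, 1705)] (by decide) (List.forall_mem_cons.2 ⟨rel2_0, List.forall_mem_cons.2 ⟨rel2_1, List.forall_mem_cons.2 ⟨rel2_2, List.forall_mem_cons.2 ⟨rel2_3, List.forall_mem_cons.2 ⟨rel2_4, List.forall_mem_cons.2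 ⟨rel2_5, List.forall_mem_cons.2 ⟨rel2_6, List.forall_mem_cons.2 ⟨rel2_7, List.forall_mem_cons.2 ⟨rel2_8, List.forall_mem_cons.2 ⟨rel2_9, List.forall_mem_cons.2 ⟨rel2_10, List.forall_mem_cons.2 ⟨rel2_11, List.forall_mem_cons.2 ⟨rel2_12, List.forall_mem_cons.2 ⟨rel2_13, List.forall_mem_cons.2 ⟨rel2_14, List.forall_mem_cons.2 ⟨rel2_15, List.forall_mem_cons.2 ⟨rel2_16, List.forall_mem_cons.2 ⟨rel2_17, List.forall_mem_cons.2 ⟨rel2_18, List.forall_mem_cons.2 ⟨rel2_19, List.forall_mem_cons.2 ⟨rel2_20, List.forall_mem_cons.2 ⟨rel2_21, List.forall_mem_cons.2 ⟨rel2_22, List.forall_mem_cons.2 ⟨rel2_23, List.forall_mem_cons.2 ⟨rel2_24, List.forall_mem_cons.2 ⟨rel2_25, List.forall_mem_cons.2 ⟨rel2_26, List.forall_mem_cons.2 ⟨rel2_27, List.forall_mem_cons.2 ⟨rel2_28, List.forall_mem_cons.2 ⟨rel2_29, List.forall_mem_cons.2 ⟨rel2_30, List.forall_mem_cons.2 ⟨rel2_31, List.forall_mem_cons.2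 ⟨rel2_32, List.forall_mem_cons.2 ⟨rel2_33, List.forall_mem_cons.2 ⟨rel2_34, List.forall_mem_cons.2 ⟨rel2_35, List.forall_mem_cons.2 ⟨rel2_36, List.forall_mem_cons.2 ⟨rel2_37, List.forall_mem_cons.2 ⟨rel2_38, List.forall_mem_cons.2 ⟨rel2_39, List.forall_mem_cons.2 ⟨rel2_40, List.forall_mem_cons.2 ⟨rel2_41, List.forall_mem_cons.2 ⟨rel2_42, List.forall_mem_cons.2 ⟨rel2_43, List.forall_mem_cons.2 ⟨rel2_44, List.forall_mem_cons.2 ⟨rel2_45, List.forall_mem_cons.2 ⟨rel2_46, List.forall_mem_cons.2 ⟨rel2_47, List.forall_mem_cons.2 ⟨rel2_48, List.forall_mem_cons.2 ⟨rel2_49, List.forall_mem_cons.2 ⟨rel2_50, List.forall_mem_cons.2 ⟨rel2_51, List.forall_mem_cons.2 ⟨rel2_52, List.forall_mem_cons.2 ⟨rel2_53, List.forall_mem_cons.2 ⟨rel2_54, List.forall_mem_cons.2 ⟨rel2_55, List.forall_mem_cons.2 ⟨rel2_56, List.forall_mem_cons.2 ⟨rel2_57, List.forall_mem_cons.2 ⟨rel2_58,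 List.forall_mem_cons.2 ⟨rel2_59, List.forall_mem_cons.2 ⟨rel2_60, List.forall_mem_cons.2 ⟨rel2_61, List.forall_mem_cons.2 ⟨rel2_62, List.forall_mem_cons.2 ⟨rel2_63, List.forall_mem_cons.2 ⟨rel2_64, List.forall_mem_cons.2 ⟨rel2_65, List.forall_mem_cons.2 ⟨rel2_66, List.forall_mem_cons.2 ⟨rel2_67, List.forall_mem_cons.2 ⟨rel2_68, List.forall_mem_cons.2 ⟨rel2_69, List.forall_mem_cons.2 ⟨rel2_70, List.forall_mem_cons.2 ⟨rel2_71, fun _ h => absurd h List.not_mem_nil⟩⟩⟩⟩⟩⟩⟩⟩⟩⟩⟩⟩⟩⟩⟩⟩⟩⟩⟩⟩⟩⟩⟩⟩⟩⟩⟩⟩⟩⟩⟩⟩⟩⟩⟩⟩⟩⟩⟩⟩⟩⟩⟩⟩⟩⟩⟩⟩⟩⟩⟩⟩⟩⟩⟩⟩⟩⟩⟩⟩⟩⟩⟩⟩⟩⟩⟩⟩⟩⟩⟩⟩)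

end Cfsg.Agent.Lib.Helper5.ONOut
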