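import Cfsg.Agent.Lib.Helper5.ONOut.D8
import Cfsg.Agent.Lib.Helper5.ONOut.D16
import Cfsg.Agent.Lib.Helper5.ONOut.DV

/-! # The outer automorphism group of the O'Nan group: the relation number 3, a part (generated) -/

set_option autoImplicit false
set_option maxRecDepth 100000

namespace Cfsg.Agent.Lib.Helper5.ONOut

open Cfsg.Agent.PF Cfsg.Agent.Lib.Helper6 Cfsg.Agent.Lib.Helper6.TC Cfsg.Agent.Lib.Helper6.NatArr Cfsg.Agent.Lib.Helper5
open Cfsg.Agent.PL (Acts evalF)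

theorem rel3_25 : allR 99000 3960 (fun q => Nat.beq ((fun q => f8 (f16 (fv (f8 (f16 (fv (f8 (f16 (fv (f8 (f16 (fv (f8 (f16 (fv (f8 (f16 (fv (f8 (f16 (fv (f8 (f16 (fv (q))))))))))))))))))))))))) q) ((fun q => q) q)) = true := by decide +kernel

theorem rel3_26 : allR 102960 3960 (fun q => Nat.beq ((fun q => f8 (f16 (fv (f8 (f16 (fv (f8 (f16 (fv (f8 (f16 (fv (f8 (f16 (fv (f8 (f16 (fv (f8 (f16 (fv (f8 (f16 (fv (q))))))))))))))))))))))))) q) ((fun q => q) q)) = true := by decide +kernel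

theorem rel3_27 : allR 106920 3960 (fun q => Nat.beq ((fun q => f8 (f16 (fv (f8 (f16 (fv (f8 (f16 (fv (f8 (f16 (fv (f8 (f16 (fv (f8 (f16 (fv (f8 (f16 (fv (f8 (f16 (fv (q))))))))))))))))))))))))) q) ((fun q => q) q)) = true := by decide +kernel

theorem rel3_28 : allR 110880 3960 (fun q => Nat.beq ((fun q => f8 (f16 (fv (f8 (f16 (fv (f8 (f16 (fv (f8 (f16 (fv (f8 (f16 (fv (f8 (f16 (fv (f8 (f16 (fv (f8 (f16 (fv (q))))))))))))))))))))))))) q) ((fun q => q) q)) = true := by decide +kernel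

theorem rel3_29 : allR 114840 3960 (fun q => Nat.beq ((fun q => f8 (f16 (fv (f8 (f16 (fv (f8 (f16 (fv (f8 (f16 (fv (f8 (f16 (fv (f8 (f16 (fv (f8 (f16 (fv (f8 (f16 (fv (q))))))))))))))))))))))))) q) ((fun q => q) q)) = true := by decide +kernel

theorem rel3_30 : allR 118800 3960 (fun q => Nat.beq ((fun q => f8 (f16 (fv (f8 (f16 (fv (f8 (f16 (fv (f8 (f16 (fv (f8 (f16 (fv (f8 (f16 (fv (f8 (f16 (fv (f8 (f16 (fv (q))))))))))))))))))))))))) q) ((fun q => q) q)) = true := by decide +kernel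


end Cfsg.Agent.Lib.Helper5.ONOut
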