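import Cfsg.Agent.Lib.Helper5.ONOut.Rel3x0
import Cfsg.Agent.Lib.Helper5.ONOut.Rel3x1
import Cfsg.Agent.Lib.Helper5.ONOut.Kills

/-! # The outer automorphism group of the O'Nan group: the relation number 3 (generated) -/

set_option autoImplicit false
set_option maxRecDepth 100000

namespace Cfsg.Agent.Lib.Helper5.ONOut

open Cfsg.Agent.PF Cfsg.Agent.Lib.Helper6 Cfsg.Agent.Lib.Helper6.TC Cfsg.Agent.Lib.Helper6.NatArr Cfsg.Agent.Lib.Helper5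
open Cfsg.Agent.PL (Acts evalF)

/-- a relation -/
theorem rel3 : ∀ q < 122760, (evalF f8 f16 fv [0, 1, 2])^[8] q = (fun q => q) q :=
  eq_of_chunks (f := (fun q => f8 (f16 (fv (f8 (f16 (fv (f8 (f16 (fv (f8 (f16 (fv (f8 (f16 (fv (f8 (f16 (fv (f8 (f16 (fv (f8 (f16 (fv (q)))))))))))))))))))))))))) (g := (fun q => q)) [(0, 3960), (3960, 3960), (7920, 3960), (11880, 3960), (15840, 3960), (19800, 3960), (23760, 3960), (27720, 3960), (31680, 3960), (35640, 3960), (39600, 3960), (43560, 3960), (47520, 3960), (51480, 3960), (55440, 3960), (59400, 3960), (63360, 3960), (67320, 3960), (71280, 3960), (75240, 3960), (79200, 3960), (83160, 3960), (87120, 3960), (91080, 3960), (95040, 3960), (99000, 3960), (102960, 3960), (106920, 3960), (110880, 3960), (114840, 3960), (118800, 3960)] (by decide) (List.forall_mem_cons.2 ⟨rel3_0, List.forall_mem_cons.2 ⟨rel3_1, List.forall_mem_cons.2 ⟨rel3_2,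 List.forall_mem_cons.2 ⟨rel3_3, List.forall_mem_cons.2 ⟨rel3_4, List.forall_mem_cons.2 ⟨rel3_5, List.forall_mem_cons.2 ⟨rel3_6, List.forall_mem_cons.2 ⟨rel3_7, List.forall_mem_cons.2 ⟨rel3_8, List.forall_mem_cons.2 ⟨rel3_9, List.forall_mem_cons.2 ⟨rel3_10, List.forall_mem_cons.2 ⟨rel3_11, List.forall_mem_cons.2 ⟨rel3_12, List.forall_mem_cons.2 ⟨rel3_13, List.forall_mem_cons.2 ⟨rel3_14, List.forall_mem_cons.2 ⟨rel3_15, List.forall_mem_cons.2 ⟨rel3_16, List.forall_mem_cons.2 ⟨rel3_17, List.forall_mem_cons.2 ⟨rel3_18, List.forall_mem_cons.2 ⟨rel3_19, List.forall_mem_cons.2 ⟨rel3_20, List.forall_mem_cons.2 ⟨rel3_21, List.forall_mem_cons.2 ⟨rel3_22, List.forall_mem_cons.2 ⟨rel3_23, List.forall_mem_cons.2 ⟨rel3_24, List.forall_mem_cons.2 ⟨rel3_25, List.forall_mem_cons.2 ⟨rel3_26, List.forall_mem_cons.2 ⟨rel3_27, List.forall_mem_cons.2 ⟨rel3_28, List.forall_mem_cons.2 ⟨rel3_29,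 List.forall_mem_cons.2 ⟨rel3_30, fun _ h => absurd h List.not_mem_nil⟩⟩⟩⟩⟩⟩⟩⟩⟩⟩⟩⟩⟩⟩⟩⟩⟩⟩⟩⟩⟩⟩⟩⟩⟩⟩⟩⟩⟩⟩⟩)

end Cfsg.Agent.Lib.Helper5.ONOut
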