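import Cfsg.Agent.Lib.Helper5.ONOut.Rel0
import Cfsg.Agent.Lib.Helper5.ONOut.Rel1
import Cfsg.Agent.Lib.Helper5.ONOut.Rel2
import Cfsg.Agent.Lib.Helper5.ONOut.Rel3

/-! # The outer automorphism group of the O'Nan group: the relations (generated) -/

set_option autoImplicit false
set_option maxRecDepth 100000

namespace Cfsg.Agent.Lib.Helper5.ONOut

open Cfsg.Agent.PF Cfsg.Agent.Lib.Helper6 Cfsg.Agent.Lib.Helper6.TC Cfsg.Agent.Lib.Helper6.NatArr Cfsg.Agent.Lib.Helper5
open Cfsg.Agent.PL (Acts evalF)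

theorem chk_rels : ∀ e ∈ kills, ∀ q < 122760, (evalF f8 f16 fv e.1)^[e.2.1] q = q := by
  intro e he
  simp only [kills, List.mem_cons, List.not_mem_nil, or_false] at he
  rcases he with rfl | rfl | rfl | rfl
  · exact rel0
  · exact rel1
  · exact rel2
  · exact rel3

end Cfsg.Agent.Lib.Helper5.ONOut
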