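import Cfsg.Agent.Lib.Helper5.ONOut.CVx0

/-! # The outer automorphism group of the O'Nan group: the inverse of `w` (generated) -/

set_option autoImplicit false
set_option maxRecDepth 100000

namespace Cfsg.Agent.Lib.Helper5.ONOut

open Cfsg.Agent.PF Cfsg.Agent.Lib.Helper6 Cfsg.Agent.Lib.Helper6.TC Cfsg.Agent.Lib.Helper6.NatArr Cfsg.Agent.Lib.Helper5
open Cfsg.Agent.PL (Acts evalF)

/-- the map of the inverse of `w` -/
theorem chk_v : ∀ q < 122760, (fun q => fv (f23 q)) q = (fun q => q) q :=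
  eq_of_chunks (f := (fun q => fv (f23 q))) (g := (fun q => q)) [(0, 30690), (30690, 30690), (61380, 30690), (92070, 30690)] (by decide) (List.forall_mem_cons.2 ⟨chk_v_0, List.forall_mem_cons.2 ⟨chk_v_1, List.forall_mem_cons.2 ⟨chk_v_2, List.forall_mem_cons.2 ⟨chk_v_3, fun _ h => absurd h List.not_mem_nil⟩⟩⟩⟩)

end Cfsg.Agent.Lib.Helper5.ONOut
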