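import Cfsg.Agent.Lib.Helper5.ONOut.TauExtra2x0

/-! # The outer automorphism group of the O'Nan group: the further relator number 2 for the images of the letters (generated) -/

set_option autoImplicit false
set_option maxRecDepth 100000

namespace Cfsg.Agent.Lib.Helper5.ONOut

open Cfsg.Agent.PF Cfsg.Agent.Lib.Helper6 Cfsg.Agent.Lib.Helper6.TC Cfsg.Agent.Lib.Helper6.NatArr Cfsg.Agent.Lib.Helper5
open Cfsg.Agent.PL (Acts evalF)

/-- the images of the letters of the relator -/
noncomputable def WE2 : List (ℕ → ℕ) := [p2, p7, p3, p7, p3, p2, p3, p6, p3, p6]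

/-- the further relator number 2 holds for the images of the letters -/
theorem pextra2 : ∀ q < 122760, wordF WE2 q = (fun q => q) q :=
  eq_of_chunks (f := (fun q => p2 (p7 (p3 (p7 (p3 (p2 (p3 (p6 (p3 (p6 (q)))))))))))) (g := (fun q => q)) [(0, 8769), (8769, 8769), (17538, 8769), (26307, 8769), (35076, 8769), (43845, 8769), (52614, 8769), (61383, 8769), (70152, 8769), (78921, 8769), (87690, 8769), (96459, 8769), (105228, 8769), (113997, 8763)] (by decide) (List.forall_mem_cons.2 ⟨pextra2_0, List.forall_mem_cons.2 ⟨pextra2_1, List.forall_mem_cons.2 ⟨pextra2_2, List.forall_mem_cons.2 ⟨pextra2_3, List.forall_mem_cons.2 ⟨pextra2_4, List.forall_mem_cons.2 ⟨pextra2_5, List.forall_mem_cons.2 ⟨pextra2_6, List.forall_mem_cons.2 ⟨pextra2_7, List.forall_mem_cons.2 ⟨pextra2_8, List.forall_mem_cons.2 ⟨pextra2_9, List.forall_mem_cons.2 ⟨pextra2_10, List.forall_mem_cons.2 ⟨pextra2_11, List.forall_mem_cons.2 ⟨pextra2_12, List.forall_mem_cons.2 ⟨pextra2_13, fun _ h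 => absurd h List.not_mem_nil⟩⟩⟩⟩⟩⟩⟩⟩⟩⟩⟩⟩⟩⟩)

end Cfsg.Agent.Lib.Helper5.ONOut
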