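import Cfsg.Agent.Lib.Helper5.ONOut.DP1
import Cfsg.Agent.Lib.Helper5.ONOut.DP2
import Cfsg.Agent.Lib.Helper5.ONOut.DP3
import Cfsg.Agent.Lib.Helper5.ONOut.DP6

/-! # The outer automorphism group of the O'Nan group: the further relator number 4 for the images of the letters, a part (generated) -/

set_option autoImplicit false
set_option maxRecDepth 100000

namespace Cfsg.Agent.Lib.Helper5.ONOut

open Cfsg.Agent.PF Cfsg.Agent.Lib.Helper6 Cfsg.Agent.Lib.Helper6.TC Cfsg.Agent.Lib.Helper6.NatArr Cfsg.Agent.Lib.Helper5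
open Cfsg.Agent.PL (Acts evalF)

theorem pextra4_25 : allR 118050 4710 (fun q => Nat.beq ((fun q => p1 (p2 (p3 (p6 (p1 (p2 (p3 (p6 (p1 (p2 (p3 (p6 (p1 (p2 (p3 (p6 (p1 (p2 (p3 (p6 (q))))))))))))))))))))) q) ((fun q => q) q)) = true := by decide +kernel


end Cfsg.Agent.Lib.Helper5.ONOut
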