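import Cfsg.Agent.Lib.Helper5.ONOut.TauExtra4x0
import Cfsg.Agent.Lib.Helper5.ONOut.TauExtra4x1

/-! # The outer automorphism group of the O'Nan group: the further relator number 4 for the images of the letters (generated) -/

set_option autoImplicit false
set_option maxRecDepth 100000

namespace Cfsg.Agent.Lib.Helper5.ONOut

open Cfsg.Agent.PF Cfsg.Agent.Lib.Helper6 Cfsg.Agent.Lib.Helper6.TC Cfsg.Agent.Lib.Helper6.NatArr Cfsg.Agent.Lib.Helper5
open Cfsg.Agent.PL (Acts evalF)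

/-- the images of the letters of the relator -/
noncomputable def WE4 : List (ℕ → ℕ) := [p1, p2, p3, p6, p1, p2, p3, p6, p1, p2, p3, p6, p1, p2, p3, p6, p1, p2, p3, p6]

/-- the further relator number 4 holds for the images of the letters -/
theorem pextra4 : ∀ q < 122760, wordF WE4 q = (fun q => q) q :=
  eq_of_chunks (f := (fun q => p1 (p2 (p3 (p6 (p1 (p2 (p3 (p6 (p1 (p2 (p3 (p6 (p1 (p2 (p3 (p6 (p1 (p2 (p3 (p6 (q)))))))))))))))))))))) (g := (fun q => q)) [(0, 4722), (4722, 4722), (9444, 4722), (14166, 4722), (18888, 4722), (23610, 4722), (28332, 4722), (33054, 4722), (37776, 4722), (42498, 4722), (47220, 4722), (51942, 4722), (56664, 4722), (61386, 4722), (66108, 4722), (70830, 4722), (75552, 4722), (80274, 4722), (84996, 4722), (89718, 4722), (94440, 4722), (99162, 4722), (103884, 4722), (108606, 4722), (113328, 4722), (118050, 4710)] (by decide) (List.forall_mem_cons.2 ⟨pextra4_0, List.forall_mem_cons.2 ⟨pextra4_1,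 List.forall_mem_cons.2 ⟨pextra4_2, List.forall_mem_cons.2 ⟨pextra4_3, List.forall_mem_cons.2 ⟨pextra4_4, List.forall_mem_cons.2 ⟨pextra4_5, List.forall_mem_cons.2 ⟨pextra4_6, List.forall_mem_cons.2 ⟨pextra4_7, List.forall_mem_cons.2 ⟨pextra4_8, List.forall_mem_cons.2 ⟨pextra4_9, List.forall_mem_cons.2 ⟨pextra4_10, List.forall_mem_cons.2 ⟨pextra4_11, List.forall_mem_cons.2 ⟨pextra4_12, List.forall_mem_cons.2 ⟨pextra4_13, List.forall_mem_cons.2 ⟨pextra4_14, List.forall_mem_cons.2 ⟨pextra4_15, List.forall_mem_cons.2 ⟨pextra4_16, List.forall_mem_cons.2 ⟨pextra4_17, List.forall_mem_cons.2 ⟨pextra4_18, List.forall_mem_cons.2 ⟨pextra4_19, List.forall_mem_cons.2 ⟨pextra4_20, List.forall_mem_cons.2 ⟨pextra4_21, List.forall_mem_cons.2 ⟨pextra4_22, List.forall_mem_cons.2 ⟨pextra4_23, List.forall_mem_cons.2 ⟨pextra4_24, List.forall_mem_cons.2 ⟨pextra4_25, fun _ h => absurd h List.not_mem_nil⟩⟩⟩⟩⟩⟩⟩⟩⟩⟩⟩⟩⟩⟩⟩⟩⟩⟩⟩⟩⟩⟩⟩⟩⟩⟩)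

end Cfsg.Agent.Lib.Helper5.ONOut
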