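import Cfsg.Agent.Lib.Helper5.ONOut.TauExtra6x0

/-! # The outer automorphism group of the O'Nan group: the further relator number 6 for the images of the letters (generated) -/

set_option autoImplicit false
set_option maxRecDepth 100000

namespace Cfsg.Agent.Lib.Helper5.ONOut

open Cfsg.Agent.PF Cfsg.Agent.Lib.Helper6 Cfsg.Agent.Lib.Helper6.TC Cfsg.Agent.Lib.Helper6.NatArr Cfsg.Agent.Lib.Helper5
open Cfsg.Agent.PL (Acts evalF)

/-- the images of the letters of the relator -/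
noncomputable def WE6 : List (ℕ → ℕ) := [p6, p4, p3, p6, p3, p4, p6, p4, p3, p6, p3]

/-- the further relator number 6 holds for the images of the letters -/
theorem pextra6 : ∀ q < 122760, wordF WE6 q = (fun q => q) q :=
  eq_of_chunks (f := (fun q => p6 (p4 (p3 (p6 (p3 (p4 (p6 (p4 (p3 (p6 (p3 (q))))))))))))) (g := (fun q => q)) [(0, 8184), (8184, 8184), (16368, 8184), (24552, 8184), (32736, 8184), (40920, 8184), (49104, 8184), (57288, 8184), (65472, 8184), (73656, 8184), (81840, 8184), (90024, 8184), (98208, 8184), (106392, 8184), (114576, 8184)] (by decide) (List.forall_mem_cons.2 ⟨pextra6_0, List.forall_mem_cons.2 ⟨pextra6_1, List.forall_mem_cons.2 ⟨pextra6_2, List.forall_mem_cons.2 ⟨pextra6_3, List.forall_mem_cons.2 ⟨pextra6_4, List.forall_mem_cons.2 ⟨pextra6_5, List.forall_mem_cons.2 ⟨pextra6_6, List.forall_mem_cons.2 ⟨pextra6_7, List.forall_mem_cons.2 ⟨pextra6_8, List.forall_mem_cons.2 ⟨pextra6_9, List.forall_mem_cons.2 ⟨pextra6_10, List.forall_mem_cons.2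 ⟨pextra6_11, List.forall_mem_cons.2 ⟨pextra6_12, List.forall_mem_cons.2 ⟨pextra6_13, List.forall_mem_cons.2 ⟨pextra6_14, fun _ h => absurd h List.not_mem_nil⟩⟩⟩⟩⟩⟩⟩⟩⟩⟩⟩⟩⟩⟩⟩)

end Cfsg.Agent.Lib.Helper5.ONOut
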