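import Cfsg.Agent.Lib.Helper5.ONOut.TauInv0x0
import Cfsg.Agent.Lib.Helper5.ONOut.TauInv1x0
import Cfsg.Agent.Lib.Helper5.ONOut.TauInv2x0
import Cfsg.Agent.Lib.Helper5.ONOut.TauInv3x0
import Cfsg.Agent.Lib.Helper5.ONOut.TauInv4x0
import Cfsg.Agent.Lib.Helper5.ONOut.TauInv5x0
import Cfsg.Agent.Lib.Helper5.ONOut.TauInv6x0
import Cfsg.Agent.Lib.Helper5.ONOut.TauInv7x0

/-! # The outer automorphism group of the O'Nan group: the images of inverse letters (generated) -/

set_option autoImplicit false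
set_option maxRecDepth 100000

namespace Cfsg.Agent.Lib.Helper5.ONOut

open Cfsg.Agent.PF Cfsg.Agent.Lib.Helper6 Cfsg.Agent.Lib.Helper6.TC Cfsg.Agent.Lib.Helper6.NatArr Cfsg.Agent.Lib.Helper5
open Cfsg.Agent.PL (Acts evalF)

/-- the images of the letters 0 and 0 are inverse to each other -/
theorem pinv0 : ∀ q < 122760, (fun q => p0 (p0 q)) q = (fun q => q) q :=
  eq_of_chunks (f := (fun q => p0 (p0 q))) (g := (fun q => q)) [(0, 30690), (30690, 30690), (61380, 30690), (92070, 30690)] (by decide) (List.forall_mem_cons.2 ⟨pinv0_0, List.forall_mem_cons.2 ⟨pinv0_1, List.forall_mem_cons.2 ⟨pinv0_2, List.forall_mem_cons.2 ⟨pinv0_3, fun _ h => absurd h List.not_mem_nil⟩⟩⟩⟩)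

/-- the images of the letters 1 and 1 are inverse to each other -/
theorem pinv1 : ∀ q < 122760, (fun q => p1 (p1 q)) q = (fun q => q) q :=
  eq_of_chunks (f := (fun q => p1 (p1 q))) (g := (fun q => q)) [(0, 30690), (30690, 30690), (61380, 30690), (92070, 30690)] (by decide) (List.forall_mem_cons.2 ⟨pinv1_0, List.forall_mem_cons.2 ⟨pinv1_1, List.forall_mem_cons.2 ⟨pinv1_2, List.forall_mem_cons.2 ⟨pinv1_3, fun _ h => absurd h List.not_mem_nil⟩⟩⟩⟩)

/-- the images of the letters 2 and 2 are inverse to each other -/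
theorem pinv2 : ∀ q < 122760, (fun q => p2 (p2 q)) q = (fun q => q) q :=
  eq_of_chunks (f := (fun q => p2 (p2 q))) (g := (fun q => q)) [(0, 30690), (30690, 30690), (61380, 30690), (92070, 30690)] (by decide) (List.forall_mem_cons.2 ⟨pinv2_0, List.forall_mem_cons.2 ⟨pinv2_1, List.forall_mem_cons.2 ⟨pinv2_2, List.forall_mem_cons.2 ⟨pinv2_3, fun _ h => absurd h List.not_mem_nil⟩⟩⟩⟩)

/-- the images of the letters 3 and 3 are inverse to each other -/
theorem pinv3 : ∀ q < 122760, (fun q => p3 (p3 q)) q = (fun q => q) q :=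
  eq_of_chunks (f := (fun q => p3 (p3 q))) (g := (fun q => q)) [(0, 30690), (30690, 30690), (61380, 30690), (92070, 30690)] (by decide) (List.forall_mem_cons.2 ⟨pinv3_0, List.forall_mem_cons.2 ⟨pinv3_1, List.forall_mem_cons.2 ⟨pinv3_2, List.forall_mem_cons.2 ⟨pinv3_3, fun _ h => absurd h List.not_mem_nil⟩⟩⟩⟩)

/-- the images of the letters 4 and 4 are inverse to each other -/
theorem pinv4 : ∀ q < 122760, (fun q => p4 (p4 q)) q = (fun q => q) q :=
  eq_of_chunks (f := (fun q => p4 (p4 q))) (g := (fun q => q)) [(0, 30690), (30690, 30690), (61380, 30690), (92070, 30690)] (by decide) (List.forall_mem_cons.2 ⟨pinv4_0, List.forall_mem_cons.2 ⟨pinv4_1, List.forall_mem_cons.2 ⟨pinv4_2, List.forall_mem_cons.2 ⟨pinv4_3, fun _ h => absurd h List.not_mem_nil⟩⟩⟩⟩)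

/-- the images of the letters 5 and 5 are inverse to each other -/
theorem pinv5 : ∀ q < 122760, (fun q => p5 (p5 q)) q = (fun q => q) q :=
  eq_of_chunks (f := (fun q => p5 (p5 q))) (g := (fun q => q)) [(0, 30690), (30690, 30690), (61380, 30690), (92070, 30690)] (by decide) (List.forall_mem_cons.2 ⟨pinv5_0, List.forall_mem_cons.2 ⟨pinv5_1, List.forall_mem_cons.2 ⟨pinv5_2, List.forall_mem_cons.2 ⟨pinv5_3, fun _ h => absurd h List.not_mem_nil⟩⟩⟩⟩)

/-- the images of the letters 6 and 7 are inverse to each other -/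
theorem pinv6 : ∀ q < 122760, (fun q => p7 (p6 q)) q = (fun q => q) q :=
  eq_of_chunks (f := (fun q => p7 (p6 q))) (g := (fun q => q)) [(0, 30690), (30690, 30690), (61380, 30690), (92070, 30690)] (by decide) (List.forall_mem_cons.2 ⟨pinv6_0, List.forall_mem_cons.2 ⟨pinv6_1, List.forall_mem_cons.2 ⟨pinv6_2, List.forall_mem_cons.2 ⟨pinv6_3, fun _ h => absurd h List.not_mem_nil⟩⟩⟩⟩)

/-- the images of the letters 7 and 6 are inverse to each other -/
theorem pinv7 : ∀ q < 122760, (fun q => p6 (p7 q)) q = (fun q => q) q :=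
  eq_of_chunks (f := (fun q => p6 (p7 q))) (g := (fun q => q)) [(0, 30690), (30690, 30690), (61380, 30690), (92070, 30690)] (by decide) (List.forall_mem_cons.2 ⟨pinv7_0, List.forall_mem_cons.2 ⟨pinv7_1, List.forall_mem_cons.2 ⟨pinv7_2, List.forall_mem_cons.2 ⟨pinv7_3, fun _ h => absurd h List.not_mem_nil⟩⟩⟩⟩)


end Cfsg.Agent.Lib.Helper5.ONOut
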