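import Cfsg.Agent.Lib.Helper5.ONOut.TauPair12x0

/-! # The outer automorphism group of the O'Nan group: the relator of the images of the letters 1 and 2 (generated) -/

set_option autoImplicit false
set_option maxRecDepth 100000

namespace Cfsg.Agent.Lib.Helper5.ONOut

open Cfsg.Agent.PF Cfsg.Agent.Lib.Helper6 Cfsg.Agent.Lib.Helper6.TC Cfsg.Agent.Lib.Helper6.NatArr Cfsg.Agent.Lib.Helper5
open Cfsg.Agent.PL (Acts evalF)

/-- the relator of the images of the letters 1 and 2 -/
theorem ppair12 : ∀ q < 122760, (fun q => p2 (p1 q))^[3] q = (fun q => q) q :=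
  eq_of_chunks (f := (fun q => p2 (p1 (p2 (p1 (p2 (p1 (q)))))))) (g := (fun q => q)) [(0, 13640), (13640, 13640), (27280, 13640), (40920, 13640), (54560, 13640), (68200, 13640), (81840, 13640), (95480, 13640), (109120, 13640)] (by decide) (List.forall_mem_cons.2 ⟨ppair12_0, List.forall_mem_cons.2 ⟨ppair12_1, List.forall_mem_cons.2 ⟨ppair12_2, List.forall_mem_cons.2 ⟨ppair12_3, List.forall_mem_cons.2 ⟨ppair12_4, List.forall_mem_cons.2 ⟨ppair12_5, List.forall_mem_cons.2 ⟨ppair12_6, List.forall_mem_cons.2 ⟨ppair12_7, List.forall_mem_cons.2 ⟨ppair12_8, fun _ h => absurd h List.not_mem_nil⟩⟩⟩⟩⟩⟩⟩⟩⟩)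

end Cfsg.Agent.Lib.Helper5.ONOut
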