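import Cfsg.Agent.Lib.Helper5.ONOut.Reps
import Cfsg.Agent.Lib.Helper5.ONOut.TauInv
import Cfsg.Agent.Lib.Helper5.ONOut.TauPair01
import Cfsg.Agent.Lib.Helper5.ONOut.TauPair02
import Cfsg.Agent.Lib.Helper5.ONOut.TauPair12
import Cfsg.Agent.Lib.Helper5.ONOut.TauPair03
import Cfsg.Agent.Lib.Helper5.ONOut.TauPair13
import Cfsg.Agent.Lib.Helper5.ONOut.TauPair23
import Cfsg.Agent.Lib.Helper5.ONOut.TauPair04
import Cfsg.Agent.Lib.Helper5.ONOut.TauPair14
import Cfsg.Agent.Lib.Helper5.ONOut.TauPair24
import Cfsg.Agent.Lib.Helper5.ONOut.TauPair34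
import Cfsg.Agent.Lib.Helper5.ONOut.TauPair05
import Cfsg.Agent.Lib.Helper5.ONOut.TauPair15
import Cfsg.Agent.Lib.Helper5.ONOut.TauPair25
import Cfsg.Agent.Lib.Helper5.ONOut.TauPair35
import Cfsg.Agent.Lib.Helper5.ONOut.TauPair45
import Cfsg.Agent.Lib.Helper5.ONOut.TauExtra0
import Cfsg.Agent.Lib.Helper5.ONOut.TauExtra1
import Cfsg.Agent.Lib.Helper5.ONOut.TauExtra2
import Cfsg.Agent.Lib.Helper5.ONOut.TauExtra3
import Cfsg.Agent.Lib.Helper5.ONOut.TauExtra4
import Cfsg.Agent.Lib.Helper5.ONOut.TauExtra5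
import Cfsg.Agent.Lib.Helper5.ONOut.TauExtra6

/-! # The outer automorphism group of the O'Nan group: the homomorphism given by the images of the letters (generated) -/

set_option autoImplicit false
set_option maxRecDepth 100000

namespace Cfsg.Agent.Lib.Helper5.ONOut

open Cfsg.Agent.PF Cfsg.Agent.Lib.Helper6 Cfsg.Agent.Lib.Helper6.TC Cfsg.Agent.Lib.Helper6.NatArr Cfsg.Agent.Lib.Helper5
open Cfsg.Agent.PL (Acts evalF)

open Cfsg Cfsg.Spor

/-- the maps of the images of the letters -/
noncomputable def fp : ℕ → ℕ → ℕ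
  | 0 => p0
  | 1 => p1
  | 2 => p2
  | 3 => p3
  | 4 => p4
  | 5 => p5
  | 6 => p6
  | _ => p7

theorem hrep : ∀ l, l < ONTC.data.T.g → Rep (GenBridge.Prange ONTC.data) (fp l) := by
  intro l hl
  have hl' : l < 8 := hl
  interval_cases l
  · exact repP0
  · exact repP1
  · exact repP2
  · exact repP3
  · exact repP4
  · exact repP5
  · exact repP6
  · exact repP7

theorem hinv : ∀ l, l < ONTC.data.T.g → ∀ q, q < ONTC.data.T.n →
    fp (TCGS.ivN ONTC.data.ivs l) (fp l q) = q := by
  intro l hl
  have hl' : l < 8 := hl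
  interval_cases l
  · exact pinv0
  · exact pinv1
  · exact pinv2
  · exact pinv3
  · exact pinv4
  · exact pinv5
  · exact pinv6
  · exact pinv7

theorem hpair : ∀ i j, i < j → j < ONTC.data.gn → ∀ q, q < ONTC.data.T.n →
    (fun q => fp j (fp i q))^[coxLabel ON.edges (ONTC.data.gen i) (ONTC.data.gen j)] q = q := by
  intro i j hij hj
  have hj' : j < 6 := hj
  interval_cases j <;> interval_cases i
  · have hl : coxLabel ON.edges (ONTC.data.gen 0) (ONTC.data.gen 1) = 3 := by decide
    rw [hl]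
    exact ppair01
  · have hl : coxLabel ON.edges (ONTC.data.gen 0) (ONTC.data.gen 2) = 2 := by decide
    rw [hl]
    exact ppair02
  · have hl : coxLabel ON.edges (ONTC.data.gen 1) (ONTC.data.gen 2) = 3 := by decide
    rw [hl]
    exact ppair12
  · have hl : coxLabel ON.edges (ONTC.data.gen 0) (ONTC.data.gen 3) = 2 := by decide
    rw [hl]
    exact ppair03
  · have hl : coxLabel ON.edges (ONTC.data.gen 1) (ONTC.data.gen 3) = 2 := by decide
    rw [hl]
    exact ppair13
  · have hl : coxLabel ON.edges (ONTC.data.gen 2) (ONTC.data.gen 3) = 8 := by decide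
    rw [hl]
    exact ppair23
  · have hl : coxLabel ON.edges (ONTC.data.gen 0) (ONTC.data.gen 4) = 2 := by decide
    rw [hl]
    exact ppair04
  · have hl : coxLabel ON.edges (ONTC.data.gen 1) (ONTC.data.gen 4) = 2 := by decide
    rw [hl]
    exact ppair14
  · have hl : coxLabel ON.edges (ONTC.data.gen 2) (ONTC.data.gen 4) = 2 := by decide
    rw [hl]
    exact ppair24
  · have hl : coxLabel ON.edges (ONTC.data.gen 3) (ONTC.data.gen 4) = 3 := by decide
    rw [hl]
    exact ppair34
  · have hl : coxLabel ON.edges (ONTC.data.gen 0) (ONTC.data.gen 5) = 2 := by decide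
    rw [hl]
    exact ppair05
  · have hl : coxLabel ON.edges (ONTC.data.gen 1) (ONTC.data.gen 5) = 2 := by decide
    rw [hl]
    exact ppair15
  · have hl : coxLabel ON.edges (ONTC.data.gen 2) (ONTC.data.gen 5) = 2 := by decide
    rw [hl]
    exact ppair25
  · have hl : coxLabel ON.edges (ONTC.data.gen 3) (ONTC.data.gen 5) = 2 := by decide
    rw [hl]
    exact ppair35
  · have hl : coxLabel ON.edges (ONTC.data.gen 4) (ONTC.data.gen 5) = 3 := by decide
    rw [hl]
    exact ppair45

theorem hextra : ∀ p ∈ ONTC.data.extraPow, ∀ q, q < ONTC.data.T.n →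
    wordF (((List.replicate p.2 p.1).flatten).map fp) q = q := by
  intro p hp
  have hp' : p ∈ ONTC.extraPow := hp
  simp only [ONTC.extraPow, List.mem_cons, List.not_mem_nil, or_false] at hp'
  rcases hp' with rfl | rfl | rfl | rfl | rfl | rfl | rfl
  · exact pextra0
  · exact pextra1
  · exact pextra2
  · exact pextra3
  · exact pextra4
  · exact pextra5
  · exact pextra6

/-- the images of the letters under the outer automorphism -/
noncomputable def homData : GenBridge.HomData ONTC.data where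
  fp := fp
  hrep := hrep
  hinv := hinv
  hpair := hpair
  hextra := hextra

theorem fp_ne : fp 0 0 ≠ 0 := by decide +kernel

end Cfsg.Agent.Lib.Helper5.ONOut
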