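import Cfsg.Agent.Lib.Helper5.ONOut.Reps
import Cfsg.Agent.Lib.Helper5.ONOut.ChkXYW
import Cfsg.Agent.Lib.Helper5.ONOut.TV
import Cfsg.Agent.Lib.Helper5.ONOut.CntA
import Cfsg.Agent.Lib.Helper5.ONOut.CntB
import Cfsg.Agent.Lib.Helper5.ONOut.CntG
import Cfsg.Agent.Lib.Helper5.ONOut.Cent
import Cfsg.Agent.Lib.Helper5.ONOut.Kill
import Cfsg.Agent.Lib.Helper5.ONOut.Rels
import Cfsg.Agent.Lib.Helper5.ONOut.Tau
import Cfsg.Agent.Lib.Helper5.ONOut.NInn
import Cfsg.Agent.Lib.Helper5.ONOut.TSX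
import Cfsg.Agent.Lib.Helper6.ONSimple
import Cfsg.Agent.Lib.Helper6.OutGeneric

/-! # The outer automorphism group of the O'Nan group has order two (generated) -/

set_option autoImplicit false
set_option maxRecDepth 100000

namespace Cfsg.Agent.Lib.Helper5.ONOut

open Cfsg.Agent.PF Cfsg.Agent.Lib.Helper6 Cfsg.Agent.Lib.Helper6.TC Cfsg.Agent.Lib.Helper6.NatArr Cfsg.Agent.Lib.Helper5
open Cfsg.Agent.PL (Acts evalF)

open Cfsg Cfsg.Spor

/-- the action on the rows is faithful -/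
theorem ρ_inj : Function.Injective ONTC.data.ρ := ONSimple.card_inj.2

theorem card_P : Nat.card ↥P = 460815505920 := GenBridge.card_Prange ONTC.data ρ_inj ONSimple.card_inj.1

theorem hR : ∀ k < 31, k ≠ 0 → ∃ j : ℕ, ∃ r ∈ ({1, 3} : Finset ℕ), (k * 9 ^ j) % 31 = r % 31 := by
  have h : ∀ k < 31, k ≠ 0 → ∃ j < 15, (k * 9 ^ j) % 31 = 1 % 31 ∨ (k * 9 ^ j) % 31 = 3 % 31 := by decide
  intro k hk hk0
  obtain ⟨j, -, e | e⟩ := h k hk hk0
  · exact ⟨j, 1, by simp, e⟩
  · exact ⟨j, 3, by simp, e⟩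

theorem hsolve : ∀ i < 31, ∃ a : ℕ, (a + 9 * i) % 31 = (9 * a) % 31 := by
  have h : ∀ i < 31, ∃ a < 31, (a + 9 * i) % 31 = (9 * a) % 31 := by decide
  intro i hi
  obtain ⟨a, -, e⟩ := h i hi
  exact ⟨a, e⟩

/-- the certificate -/
noncomputable def setup : FSetup 122760 P where
  N := 460815505920
  hN := card_P
  fuel := 11
  p := 31
  hp := by norm_num
  hp2 := by norm_num
  m := 9
  s := 4
  r₁ := 3
  hR := hR
  hsolve := hsolve
  x := x
  y := y
  w := w
  hx := hx
  hy := hy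
  hw := hw
  fx := f8
  fy := f16
  fw := f23
  fv := fv
  ax := ax
  ay := ay
  aw := aw
  chk_v := chk_v
  q₀ := 1
  hq₀ := by norm_num
  chk_x := chk_x
  chk_x1 := chk_x1
  chk_yx := chk_yx
  chk_wy := chk_wy
  LG := LG0
  LsG := LsG
  hG := hG
  chk_treeG := chk_treeG
  chk_countsG := chk_countsG
  LA := LA0
  LsA := LsA
  hA := hA
  chk_treeA := chk_treeA
  chk_countsA := chk_countsA
  chk_cycA := chk_cycA
  tests := [0]
  chk_centX := chk_centX
  LB := LB0
  LsB := LsB
  hB := hB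
  chk_treeB := chk_treeB
  chk_countsB := chk_countsB
  chk_cycB := chk_cycB
  kills := kills
  chk_rels := chk_rels
  testsB := [0]

instance : Finite ON := ONSimple.ub.1
instance : IsSimpleGroup ON := ONSimple.main.1

/-- the outer automorphism, on the permutation group -/
theorem exists_σ : ∃ σ : MulAut ↥P, ∀ z : ON, σ (GenBridge.iso ONTC.data ρ_inj z) = homData.φ z :=
  homData.exists_aut ρ_inj (l₀ := 0) (q₀ := 0) (by decide) (by decide) fp_ne

/-- the image of `x` under the outer automorphism acts by the table -/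
theorem acts_σx (σ : MulAut ↥P) (hσ : ∀ z : ON, σ (GenBridge.iso ONTC.data ρ_inj z) = homData.φ z) :
    Acts (σ setup.xP).1 fsx := by
  have e : setup.xP = GenBridge.iso ONTC.data ρ_inj (SimpG.wordG ONTC.data [1, 7, 2, 3, 4]) := Subtype.ext rfl
  rw [e, hσ]
  have h := homData.acts_φ_wordG [1, 7, 2, 3, 4] (by decide)
  exact Cfsg.Agent.PF.Acts.congr h eqsx

/-- the outer automorphism group of the permutation group has order two -/
theorem card_out_P : Nat.card (Cfsg.Out ↥P) = 2 := by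
  obtain ⟨σ, hσ⟩ := exists_σ
  exact setup.card_out_two chk_kill σ (setup.not_inner_of_cand σ (acts_σx σ hσ) chk_ninn)

/-- **The outer automorphism group of the O'Nan group has order two.** -/
theorem card_out : Nat.card (Cfsg.Out ON) = 2 := by
  rw [OutGeneric.card_out_congr (GenBridge.iso ONTC.data ρ_inj)]
  exact card_out_P

end Cfsg.Agent.Lib.Helper5.ONOut
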