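import Cfsg.Agent.Lib.Helper5.ONOut.D8
import Cfsg.Agent.Lib.Helper5.ONOut.D16
import Cfsg.Agent.Lib.Helper5.ONOut.DV

/-! # The outer automorphism group of the O'Nan group: the relation number 0, a part (generated) -/

set_option autoImplicit false
set_option maxRecDepth 100000

namespace Cfsg.Agent.Lib.Helper5.ONOut

open Cfsg.Agent.PF Cfsg.Agent.Lib.Helper6 Cfsg.Agent.Lib.Helper6.TC Cfsg.Agent.Lib.Helper6.NatArr Cfsg.Agent.Lib.Helper5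
open Cfsg.Agent.PL (Acts evalF)

theorem rel0_25 : allR 63950 2558 (fun q => Nat.beq ((fun q => f8 (fv (f8 (fv (f8 (fv (f8 (fv (f8 (fv (f8 (fv (f8 (fv (f8 (fv (f8 (fv (f8 (fv (f8 (fv (f8 (fv (f8 (fv (f8 (fv (f8 (fv (f8 (fv (f8 (fv (f8 (fv (f8 (fv (q))))))))))))))))))))))))))))))))))))))) q) ((fun q => q) q)) = true := by decide +kernel

theorem rel0_26 : allR 66508 2558 (fun q => Nat.beq ((fun q => f8 (fv (f8 (fv (f8 (fv (f8 (fv (f8 (fv (f8 (fv (f8 (fv (f8 (fv (f8 (fv (f8 (fv (f8 (fv (f8 (fv (f8 (fv (f8 (fv (f8 (fv (f8 (fv (f8 (fv (f8 (fv (f8 (fv (q))))))))))))))))))))))))))))))))))))))) q) ((fun q => q) q)) = true := by decide +kernel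

theorem rel0_27 : allR 69066 2558 (fun q => Nat.beq ((fun q => f8 (fv (f8 (fv (f8 (fv (f8 (fv (f8 (fv (f8 (fv (f8 (fv (f8 (fv (f8 (fv (f8 (fv (f8 (fv (f8 (fv (f8 (fv (f8 (fv (f8 (fv (f8 (fv (f8 (fv (f8 (fv (f8 (fv (q))))))))))))))))))))))))))))))))))))))) q) ((fun q => q) q)) = true := by decide +kernel

theorem rel0_28 : allR 71624 2558 (fun q => Nat.beq ((fun q => f8 (fv (f8 (fv (f8 (fv (f8 (fv (f8 (fv (f8 (fv (f8 (fv (f8 (fv (f8 (fv (f8 (fv (f8 (fv (f8 (fv (f8 (fv (f8 (fv (f8 (fv (f8 (fv (f8 (fv (f8 (fv (f8 (fv (q))))))))))))))))))))))))))))))))))))))) q) ((fun q => q) q)) = true := by decide +kernel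

theorem rel0_29 : allR 74182 2558 (fun q => Nat.beq ((fun q => f8 (fv (f8 (fv (f8 (fv (f8 (fv (f8 (fv (f8 (fv (f8 (fv (f8 (fv (f8 (fv (f8 (fv (f8 (fv (f8 (fv (f8 (fv (f8 (fv (f8 (fv (f8 (fv (f8 (fv (f8 (fv (f8 (fv (q))))))))))))))))))))))))))))))))))))))) q) ((fun q => q) q)) = true := by decide +kernel

theorem rel0_30 : allR 76740 2558 (fun q => Nat.beq ((fun q => f8 (fv (f8 (fv (f8 (fv (f8 (fv (f8 (fv (f8 (fv (f8 (fv (f8 (fv (f8 (fv (f8 (fv (f8 (fv (f8 (fv (f8 (fv (f8 (fv (f8 (fv (f8 (fv (f8 (fv (f8 (fv (f8 (fv (q))))))))))))))))))))))))))))))))))))))) q) ((fun q => q) q)) = true := by decide +kernel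

theorem rel0_31 : allR 79298 2558 (fun q => Nat.beq ((fun q => f8 (fv (f8 (fv (f8 (fv (f8 (fv (f8 (fv (f8 (fv (f8 (fv (f8 (fv (f8 (fv (f8 (fv (f8 (fv (f8 (fv (f8 (fv (f8 (fv (f8 (fv (f8 (fv (f8 (fv (f8 (fv (f8 (fv (q))))))))))))))))))))))))))))))))))))))) q) ((fun q => q) q)) = true := by decide +kernel

theorem rel0_32 : allR 81856 2558 (fun q => Nat.beq ((fun q => f8 (fv (f8 (fv (f8 (fv (f8 (fv (f8 (fv (f8 (fv (f8 (fv (f8 (fv (f8 (fv (f8 (fv (f8 (fv (f8 (fv (f8 (fv (f8 (fv (f8 (fv (f8 (fv (f8 (fv (f8 (fv (f8 (fv (q))))))))))))))))))))))))))))))))))))))) q) ((fun q => q) q)) = true := by decide +kernel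

theorem rel0_33 : allR 84414 2558 (fun q => Nat.beq ((fun q => f8 (fv (f8 (fv (f8 (fv (f8 (fv (f8 (fv (f8 (fv (f8 (fv (f8 (fv (f8 (fv (f8 (fv (f8 (fv (f8 (fv (f8 (fv (f8 (fv (f8 (fv (f8 (fv (f8 (fv (f8 (fv (f8 (fv (q))))))))))))))))))))))))))))))))))))))) q) ((fun q => q) q)) = true := by decide +kernel

theorem rel0_34 : allR 86972 2558 (fun q => Nat.beq ((fun q => f8 (fv (f8 (fv (f8 (fv (f8 (fv (f8 (fv (f8 (fv (f8 (fv (f8 (fv (f8 (fv (f8 (fv (f8 (fv (f8 (fv (f8 (fv (f8 (fv (f8 (fv (f8 (fv (f8 (fv (f8 (fv (f8 (fv (q))))))))))))))))))))))))))))))))))))))) q) ((fun q => q) q)) = true := by decide +kernel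

theorem rel0_35 : allR 89530 2558 (fun q => Nat.beq ((fun q => f8 (fv (f8 (fv (f8 (fv (f8 (fv (f8 (fv (f8 (fv (f8 (fv (f8 (fv (f8 (fv (f8 (fv (f8 (fv (f8 (fv (f8 (fv (f8 (fv (f8 (fv (f8 (fv (f8 (fv (f8 (fv (f8 (fv (q))))))))))))))))))))))))))))))))))))))) q) ((fun q => q) q)) = true := by decide +kernel

theorem rel0_36 : allR 92088 2558 (fun q => Nat.beq ((fun q => f8 (fv (f8 (fv (f8 (fv (f8 (fv (f8 (fv (f8 (fv (f8 (fv (f8 (fv (f8 (fv (f8 (fv (f8 (fv (f8 (fv (f8 (fv (f8 (fv (f8 (fv (f8 (fv (f8 (fv (f8 (fv (f8 (fv (q))))))))))))))))))))))))))))))))))))))) q) ((fun q => q) q)) = true := by decide +kernel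

theorem rel0_37 : allR 94646 2558 (fun q => Nat.beq ((fun q => f8 (fv (f8 (fv (f8 (fv (f8 (fv (f8 (fv (f8 (fv (f8 (fv (f8 (fv (f8 (fv (f8 (fv (f8 (fv (f8 (fv (f8 (fv (f8 (fv (f8 (fv (f8 (fv (f8 (fv (f8 (fv (f8 (fv (q))))))))))))))))))))))))))))))))))))))) q) ((fun q => q) q)) = true := by decide +kernel

theorem rel0_38 : allR 97204 2558 (fun q => Nat.beq ((fun q => f8 (fv (f8 (fv (f8 (fv (f8 (fv (f8 (fv (f8 (fv (f8 (fv (f8 (fv (f8 (fv (f8 (fv (f8 (fv (f8 (fv (f8 (fv (f8 (fv (f8 (fv (f8 (fv (f8 (fv (f8 (fv (f8 (fv (q))))))))))))))))))))))))))))))))))))))) q) ((fun q => q) q)) = true := by decide +kernel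

theorem rel0_39 : allR 99762 2558 (fun q => Nat.beq ((fun q => f8 (fv (f8 (fv (f8 (fv (f8 (fv (f8 (fv (f8 (fv (f8 (fv (f8 (fv (f8 (fv (f8 (fv (f8 (fv (f8 (fv (f8 (fv (f8 (fv (f8 (fv (f8 (fv (f8 (fv (f8 (fv (f8 (fv (q))))))))))))))))))))))))))))))))))))))) q) ((fun q => q) q)) = true := by decide +kernel

theorem rel0_40 : allR 102320 2558 (fun q => Nat.beq ((fun q => f8 (fv (f8 (fv (f8 (fv (f8 (fv (f8 (fv (f8 (fv (f8 (fv (f8 (fv (f8 (fv (f8 (fv (f8 (fv (f8 (fv (f8 (fv (f8 (fv (f8 (fv (f8 (fv (f8 (fv (f8 (fv (f8 (fv (q))))))))))))))))))))))))))))))))))))))) q) ((fun q => q) q)) = true := by decide +kernel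

theorem rel0_41 : allR 104878 2558 (fun q => Nat.beq ((fun q => f8 (fv (f8 (fv (f8 (fv (f8 (fv (f8 (fv (f8 (fv (f8 (fv (f8 (fv (f8 (fv (f8 (fv (f8 (fv (f8 (fv (f8 (fv (f8 (fv (f8 (fv (f8 (fv (f8 (fv (f8 (fv (f8 (fv (q))))))))))))))))))))))))))))))))))))))) q) ((fun q => q) q)) = true := by decide +kernel

theorem rel0_42 : allR 107436 2558 (fun q => Nat.beq ((fun q => f8 (fv (f8 (fv (f8 (fv (f8 (fv (f8 (fv (f8 (fv (f8 (fv (f8 (fv (f8 (fv (f8 (fv (f8 (fv (f8 (fv (f8 (fv (f8 (fv (f8 (fv (f8 (fv (f8 (fv (f8 (fv (f8 (fv (q))))))))))))))))))))))))))))))))))))))) q) ((fun q => q) q)) = true := by decide +kernel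

theorem rel0_43 : allR 109994 2558 (fun q => Nat.beq ((fun q => f8 (fv (f8 (fv (f8 (fv (f8 (fv (f8 (fv (f8 (fv (f8 (fv (f8 (fv (f8 (fv (f8 (fv (f8 (fv (f8 (fv (f8 (fv (f8 (fv (f8 (fv (f8 (fv (f8 (fv (f8 (fv (f8 (fv (q))))))))))))))))))))))))))))))))))))))) q) ((fun q => q) q)) = true := by decide +kernel

theorem rel0_44 : allR 112552 2558 (fun q => Nat.beq ((fun q => f8 (fv (f8 (fv (f8 (fv (f8 (fv (f8 (fv (f8 (fv (f8 (fv (f8 (fv (f8 (fv (f8 (fv (f8 (fv (f8 (fv (f8 (fv (f8 (fv (f8 (fv (f8 (fv (f8 (fv (f8 (fv (f8 (fv (q))))))))))))))))))))))))))))))))))))))) q) ((fun q => q) q)) = true := by decide +kernel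

theorem rel0_45 : allR 115110 2558 (fun q => Nat.beq ((fun q => f8 (fv (f8 (fv (f8 (fv (f8 (fv (f8 (fv (f8 (fv (f8 (fv (f8 (fv (f8 (fv (f8 (fv (f8 (fv (f8 (fv (f8 (fv (f8 (fv (f8 (fv (f8 (fv (f8 (fv (f8 (fv (f8 (fv (q))))))))))))))))))))))))))))))))))))))) q) ((fun q => q) q)) = true := by decide +kernel

theorem rel0_46 : allR 117668 2558 (fun q => Nat.beq ((fun q => f8 (fv (f8 (fv (f8 (fv (f8 (fv (f8 (fv (f8 (fv (f8 (fv (f8 (fv (f8 (fv (f8 (fv (f8 (fv (f8 (fv (f8 (fv (f8 (fv (f8 (fv (f8 (fv (f8 (fv (f8 (fv (f8 (fv (q))))))))))))))))))))))))))))))))))))))) q) ((fun q => q) q)) = true := by decide +kernel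

theorem rel0_47 : allR 120226 2534 (fun q => Nat.beq ((fun q => f8 (fv (f8 (fv (f8 (fv (f8 (fv (f8 (fv (f8 (fv (f8 (fv (f8 (fv (f8 (fv (f8 (fv (f8 (fv (f8 (fv (f8 (fv (f8 (fv (f8 (fv (f8 (fv (f8 (fv (f8 (fv (f8 (fv (q))))))))))))))))))))))))))))))))))))))) q) ((fun q => q) q)) = true := by decide +kernel


end Cfsg.Agent.Lib.Helper5.ONOut
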