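import Cfsg.Agent.Lib.Helper5.ONOut.Rel0x0
import Cfsg.Agent.Lib.Helper5.ONOut.Rel0x1
import Cfsg.Agent.Lib.Helper5.ONOut.Kills

/-! # The outer automorphism group of the O'Nan group: the relation number 0 (generated) -/

set_option autoImplicit false
set_option maxRecDepth 100000

namespace Cfsg.Agent.Lib.Helper5.ONOut

open Cfsg.Agent.PF Cfsg.Agent.Lib.Helper6 Cfsg.Agent.Lib.Helper6.TC Cfsg.Agent.Lib.Helper6.NatArr Cfsg.Agent.Lib.Helper5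
open Cfsg.Agent.PL (Acts evalF)

/-- a relation -/
theorem rel0 : ∀ q < 122760, (evalF f8 f16 fv [0, 2])^[19] q = (fun q => q) q :=
  eq_of_chunks (f := (fun q => f8 (fv (f8 (fv (f8 (fv (f8 (fv (f8 (fv (f8 (fv (f8 (fv (f8 (fv (f8 (fv (f8 (fv (f8 (fv (f8 (fv (f8 (fv (f8 (fv (f8 (fv (f8 (fv (f8 (fv (f8 (fv (f8 (fv (q)))))))))))))))))))))))))))))))))))))))) (g := (fun q => q)) [(0, 2558), (2558, 2558), (5116, 2558), (7674, 2558), (10232, 2558), (12790, 2558), (15348, 2558), (17906, 2558), (20464, 2558), (23022, 2558), (25580, 2558), (28138, 2558), (30696, 2558), (33254, 2558), (35812, 2558), (38370, 2558), (40928, 2558), (43486, 2558), (46044, 2558), (48602, 2558), (51160, 2558), (53718, 2558), (56276, 2558), (58834, 2558), (61392, 2558), (63950, 2558), (66508, 2558), (69066, 2558), (71624, 2558), (74182, 2558), (76740, 2558), (79298, 2558), (81856, 2558), (84414, 2558),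 (86972, 2558), (89530, 2558), (92088, 2558), (94646, 2558), (97204, 2558), (99762, 2558), (102320, 2558), (104878, 2558), (107436, 2558), (109994, 2558), (112552, 2558), (115110, 2558), (117668, 2558), (120226, 2534)] (by decide) (List.forall_mem_cons.2 ⟨rel0_0, List.forall_mem_cons.2 ⟨rel0_1, List.forall_mem_cons.2 ⟨rel0_2, List.forall_mem_cons.2 ⟨rel0_3, List.forall_mem_cons.2 ⟨rel0_4, List.forall_mem_cons.2 ⟨rel0_5, List.forall_mem_cons.2 ⟨rel0_6, List.forall_mem_cons.2 ⟨rel0_7, List.forall_mem_cons.2 ⟨rel0_8, List.forall_mem_cons.2 ⟨rel0_9, List.forall_mem_cons.2 ⟨rel0_10, List.forall_mem_cons.2 ⟨rel0_11, List.forall_mem_cons.2 ⟨rel0_12, List.forall_mem_cons.2 ⟨rel0_13, List.forall_mem_cons.2 ⟨rel0_14, List.forall_mem_cons.2 ⟨rel0_15, List.forall_mem_cons.2 ⟨rel0_16, List.forall_mem_cons.2 ⟨rel0_17, List.forall_mem_cons.2 ⟨rel0_18, List.forall_mem_cons.2 ⟨rel0_19,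 List.forall_mem_cons.2 ⟨rel0_20, List.forall_mem_cons.2 ⟨rel0_21, List.forall_mem_cons.2 ⟨rel0_22, List.forall_mem_cons.2 ⟨rel0_23, List.forall_mem_cons.2 ⟨rel0_24, List.forall_mem_cons.2 ⟨rel0_25, List.forall_mem_cons.2 ⟨rel0_26, List.forall_mem_cons.2 ⟨rel0_27, List.forall_mem_cons.2 ⟨rel0_28, List.forall_mem_cons.2 ⟨rel0_29, List.forall_mem_cons.2 ⟨rel0_30, List.forall_mem_cons.2 ⟨rel0_31, List.forall_mem_cons.2 ⟨rel0_32, List.forall_mem_cons.2 ⟨rel0_33, List.forall_mem_cons.2 ⟨rel0_34, List.forall_mem_cons.2 ⟨rel0_35, List.forall_mem_cons.2 ⟨rel0_36, List.forall_mem_cons.2 ⟨rel0_37, List.forall_mem_cons.2 ⟨rel0_38, List.forall_mem_cons.2 ⟨rel0_39, List.forall_mem_cons.2 ⟨rel0_40, List.forall_mem_cons.2 ⟨rel0_41, List.forall_mem_cons.2 ⟨rel0_42, List.forall_mem_cons.2 ⟨rel0_43, List.forall_mem_cons.2 ⟨rel0_44, List.forall_mem_cons.2 ⟨rel0_45, List.forall_mem_cons.2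 ⟨rel0_46, List.forall_mem_cons.2 ⟨rel0_47, fun _ h => absurd h List.not_mem_nil⟩⟩⟩⟩⟩⟩⟩⟩⟩⟩⟩⟩⟩⟩⟩⟩⟩⟩⟩⟩⟩⟩⟩⟩⟩⟩⟩⟩⟩⟩⟩⟩⟩⟩⟩⟩⟩⟩⟩⟩⟩⟩⟩⟩⟩⟩⟩⟩)

end Cfsg.Agent.Lib.Helper5.ONOut
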