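import Cfsg.Agent.Lib.Helper5.ONOut.D8
import Cfsg.Agent.Lib.Helper5.ONOut.D16
import Cfsg.Agent.Lib.Helper5.ONOut.DV

/-! # The outer automorphism group of the O'Nan group: the relation number 0, a part (generated) -/

set_option autoImplicit false
set_option maxRecDepth 100000

namespace Cfsg.Agent.Lib.Helper5.ONOut

open Cfsg.Agent.PF Cfsg.Agent.Lib.Helper6 Cfsg.Agent.Lib.Helper6.TC Cfsg.Agent.Lib.Helper6.NatArr Cfsg.Agent.Lib.Helper5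
open Cfsg.Agent.PL (Acts evalF)

theorem rel0_0 : allR 0 2558 (fun q => Nat.beq ((fun q => f8 (fv (f8 (fv (f8 (fv (f8 (fv (f8 (fv (f8 (fv (f8 (fv (f8 (fv (f8 (fv (f8 (fv (f8 (fv (f8 (fv (f8 (fv (f8 (fv (f8 (fv (f8 (fv (f8 (fv (f8 (fv (f8 (fv (q))))))))))))))))))))))))))))))))))))))) q) ((fun q => q) q)) = true := by decide +kernel

theorem rel0_1 : allR 2558 2558 (fun q => Nat.beq ((fun q => f8 (fv (f8 (fv (f8 (fv (f8 (fv (f8 (fv (f8 (fv (f8 (fv (f8 (fv (f8 (fv (f8 (fv (f8 (fv (f8 (fv (f8 (fv (f8 (fv (f8 (fv (f8 (fv (f8 (fv (f8 (fv (f8 (fv (q))))))))))))))))))))))))))))))))))))))) q) ((fun q => q) q)) = true := by decide +kernel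

theorem rel0_2 : allR 5116 2558 (fun q => Nat.beq ((fun q => f8 (fv (f8 (fv (f8 (fv (f8 (fv (f8 (fv (f8 (fv (f8 (fv (f8 (fv (f8 (fv (f8 (fv (f8 (fv (f8 (fv (f8 (fv (f8 (fv (f8 (fv (f8 (fv (f8 (fv (f8 (fv (f8 (fv (q))))))))))))))))))))))))))))))))))))))) q) ((fun q => q) q)) = true := by decide +kernel

theorem rel0_3 : allR 7674 2558 (fun q => Nat.beq ((fun q => f8 (fv (f8 (fv (f8 (fv (f8 (fv (f8 (fv (f8 (fv (f8 (fv (f8 (fv (f8 (fv (f8 (fv (f8 (fv (f8 (fv (f8 (fv (f8 (fv (f8 (fv (f8 (fv (f8 (fv (f8 (fv (f8 (fv (q))))))))))))))))))))))))))))))))))))))) q) ((fun q => q) q)) = true := by decide +kernel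

theorem rel0_4 : allR 10232 2558 (fun q => Nat.beq ((fun q => f8 (fv (f8 (fv (f8 (fv (f8 (fv (f8 (fv (f8 (fv (f8 (fv (f8 (fv (f8 (fv (f8 (fv (f8 (fv (f8 (fv (f8 (fv (f8 (fv (f8 (fv (f8 (fv (f8 (fv (f8 (fv (f8 (fv (q))))))))))))))))))))))))))))))))))))))) q) ((fun q => q) q)) = true := by decide +kernel

theorem rel0_5 : allR 12790 2558 (fun q => Nat.beq ((fun q => f8 (fv (f8 (fv (f8 (fv (f8 (fv (f8 (fv (f8 (fv (f8 (fv (f8 (fv (f8 (fv (f8 (fv (f8 (fv (f8 (fv (f8 (fv (f8 (fv (f8 (fv (f8 (fv (f8 (fv (f8 (fv (f8 (fv (q))))))))))))))))))))))))))))))))))))))) q) ((fun q => q) q)) = true := by decide +kernel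

theorem rel0_6 : allR 15348 2558 (fun q => Nat.beq ((fun q => f8 (fv (f8 (fv (f8 (fv (f8 (fv (f8 (fv (f8 (fv (f8 (fv (f8 (fv (f8 (fv (f8 (fv (f8 (fv (f8 (fv (f8 (fv (f8 (fv (f8 (fv (f8 (fv (f8 (fv (f8 (fv (f8 (fv (q))))))))))))))))))))))))))))))))))))))) q) ((fun q => q) q)) = true := by decide +kernel

theorem rel0_7 : allR 17906 2558 (fun q => Nat.beq ((fun q => f8 (fv (f8 (fv (f8 (fv (f8 (fv (f8 (fv (f8 (fv (f8 (fv (f8 (fv (f8 (fv (f8 (fv (f8 (fv (f8 (fv (f8 (fv (f8 (fv (f8 (fv (f8 (fv (f8 (fv (f8 (fv (f8 (fv (q))))))))))))))))))))))))))))))))))))))) q) ((fun q => q) q)) = true := by decide +kernel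

theorem rel0_8 : allR 20464 2558 (fun q => Nat.beq ((fun q => f8 (fv (f8 (fv (f8 (fv (f8 (fv (f8 (fv (f8 (fv (f8 (fv (f8 (fv (f8 (fv (f8 (fv (f8 (fv (f8 (fv (f8 (fv (f8 (fv (f8 (fv (f8 (fv (f8 (fv (f8 (fv (f8 (fv (q))))))))))))))))))))))))))))))))))))))) q) ((fun q => q) q)) = true := by decide +kernel

theorem rel0_9 : allR 23022 2558 (fun q => Nat.beq ((fun q => f8 (fv (f8 (fv (f8 (fv (f8 (fv (f8 (fv (f8 (fv (f8 (fv (f8 (fv (f8 (fv (f8 (fv (f8 (fv (f8 (fv (f8 (fv (f8 (fv (f8 (fv (f8 (fv (f8 (fv (f8 (fv (f8 (fv (q))))))))))))))))))))))))))))))))))))))) q) ((fun q => q) q)) = true := by decide +kernel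

theorem rel0_10 : allR 25580 2558 (fun q => Nat.beq ((fun q => f8 (fv (f8 (fv (f8 (fv (f8 (fv (f8 (fv (f8 (fv (f8 (fv (f8 (fv (f8 (fv (f8 (fv (f8 (fv (f8 (fv (f8 (fv (f8 (fv (f8 (fv (f8 (fv (f8 (fv (f8 (fv (f8 (fv (q))))))))))))))))))))))))))))))))))))))) q) ((fun q => q) q)) = true := by decide +kernel

theorem rel0_11 : allR 28138 2558 (fun q => Nat.beq ((fun q => f8 (fv (f8 (fv (f8 (fv (f8 (fv (f8 (fv (f8 (fv (f8 (fv (f8 (fv (f8 (fv (f8 (fv (f8 (fv (f8 (fv (f8 (fv (f8 (fv (f8 (fv (f8 (fv (f8 (fv (f8 (fv (f8 (fv (q))))))))))))))))))))))))))))))))))))))) q) ((fun q => q) q)) = true := by decide +kernel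

theorem rel0_12 : allR 30696 2558 (fun q => Nat.beq ((fun q => f8 (fv (f8 (fv (f8 (fv (f8 (fv (f8 (fv (f8 (fv (f8 (fv (f8 (fv (f8 (fv (f8 (fv (f8 (fv (f8 (fv (f8 (fv (f8 (fv (f8 (fv (f8 (fv (f8 (fv (f8 (fv (f8 (fv (q))))))))))))))))))))))))))))))))))))))) q) ((fun q => q) q)) = true := by decide +kernel

theorem rel0_13 : allR 33254 2558 (fun q => Nat.beq ((fun q => f8 (fv (f8 (fv (f8 (fv (f8 (fv (f8 (fv (f8 (fv (f8 (fv (f8 (fv (f8 (fv (f8 (fv (f8 (fv (f8 (fv (f8 (fv (f8 (fv (f8 (fv (f8 (fv (f8 (fv (f8 (fv (f8 (fv (q))))))))))))))))))))))))))))))))))))))) q) ((fun q => q) q)) = true := by decide +kernel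

theorem rel0_14 : allR 35812 2558 (fun q => Nat.beq ((fun q => f8 (fv (f8 (fv (f8 (fv (f8 (fv (f8 (fv (f8 (fv (f8 (fv (f8 (fv (f8 (fv (f8 (fv (f8 (fv (f8 (fv (f8 (fv (f8 (fv (f8 (fv (f8 (fv (f8 (fv (f8 (fv (f8 (fv (q))))))))))))))))))))))))))))))))))))))) q) ((fun q => q) q)) = true := by decide +kernel

theorem rel0_15 : allR 38370 2558 (fun q => Nat.beq ((fun q => f8 (fv (f8 (fv (f8 (fv (f8 (fv (f8 (fv (f8 (fv (f8 (fv (f8 (fv (f8 (fv (f8 (fv (f8 (fv (f8 (fv (f8 (fv (f8 (fv (f8 (fv (f8 (fv (f8 (fv (f8 (fv (f8 (fv (q))))))))))))))))))))))))))))))))))))))) q) ((fun q => q) q)) = true := by decide +kernel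

theorem rel0_16 : allR 40928 2558 (fun q => Nat.beq ((fun q => f8 (fv (f8 (fv (f8 (fv (f8 (fv (f8 (fv (f8 (fv (f8 (fv (f8 (fv (f8 (fv (f8 (fv (f8 (fv (f8 (fv (f8 (fv (f8 (fv (f8 (fv (f8 (fv (f8 (fv (f8 (fv (f8 (fv (q))))))))))))))))))))))))))))))))))))))) q) ((fun q => q) q)) = true := by decide +kernel

theorem rel0_17 : allR 43486 2558 (fun q => Nat.beq ((fun q => f8 (fv (f8 (fv (f8 (fv (f8 (fv (f8 (fv (f8 (fv (f8 (fv (f8 (fv (f8 (fv (f8 (fv (f8 (fv (f8 (fv (f8 (fv (f8 (fv (f8 (fv (f8 (fv (f8 (fv (f8 (fv (f8 (fv (q))))))))))))))))))))))))))))))))))))))) q) ((fun q => q) q)) = true := by decide +kernel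

theorem rel0_18 : allR 46044 2558 (fun q => Nat.beq ((fun q => f8 (fv (f8 (fv (f8 (fv (f8 (fv (f8 (fv (f8 (fv (f8 (fv (f8 (fv (f8 (fv (f8 (fv (f8 (fv (f8 (fv (f8 (fv (f8 (fv (f8 (fv (f8 (fv (f8 (fv (f8 (fv (f8 (fv (q))))))))))))))))))))))))))))))))))))))) q) ((fun q => q) q)) = true := by decide +kernel

theorem rel0_19 : allR 48602 2558 (fun q => Nat.beq ((fun q => f8 (fv (f8 (fv (f8 (fv (f8 (fv (f8 (fv (f8 (fv (f8 (fv (f8 (fv (f8 (fv (f8 (fv (f8 (fv (f8 (fv (f8 (fv (f8 (fv (f8 (fv (f8 (fv (f8 (fv (f8 (fv (f8 (fv (q))))))))))))))))))))))))))))))))))))))) q) ((fun q => q) q)) = true := by decide +kernel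

theorem rel0_20 : allR 51160 2558 (fun q => Nat.beq ((fun q => f8 (fv (f8 (fv (f8 (fv (f8 (fv (f8 (fv (f8 (fv (f8 (fv (f8 (fv (f8 (fv (f8 (fv (f8 (fv (f8 (fv (f8 (fv (f8 (fv (f8 (fv (f8 (fv (f8 (fv (f8 (fv (f8 (fv (q))))))))))))))))))))))))))))))))))))))) q) ((fun q => q) q)) = true := by decide +kernel

theorem rel0_21 : allR 53718 2558 (fun q => Nat.beq ((fun q => f8 (fv (f8 (fv (f8 (fv (f8 (fv (f8 (fv (f8 (fv (f8 (fv (f8 (fv (f8 (fv (f8 (fv (f8 (fv (f8 (fv (f8 (fv (f8 (fv (f8 (fv (f8 (fv (f8 (fv (f8 (fv (f8 (fv (q))))))))))))))))))))))))))))))))))))))) q) ((fun q => q) q)) = true := by decide +kernel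

theorem rel0_22 : allR 56276 2558 (fun q => Nat.beq ((fun q => f8 (fv (f8 (fv (f8 (fv (f8 (fv (f8 (fv (f8 (fv (f8 (fv (f8 (fv (f8 (fv (f8 (fv (f8 (fv (f8 (fv (f8 (fv (f8 (fv (f8 (fv (f8 (fv (f8 (fv (f8 (fv (f8 (fv (q))))))))))))))))))))))))))))))))))))))) q) ((fun q => q) q)) = true := by decide +kernel

theorem rel0_23 : allR 58834 2558 (fun q => Nat.beq ((fun q => f8 (fv (f8 (fv (f8 (fv (f8 (fv (f8 (fv (f8 (fv (f8 (fv (f8 (fv (f8 (fv (f8 (fv (f8 (fv (f8 (fv (f8 (fv (f8 (fv (f8 (fv (f8 (fv (f8 (fv (f8 (fv (f8 (fv (q))))))))))))))))))))))))))))))))))))))) q) ((fun q => q) q)) = true := by decide +kernel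

theorem rel0_24 : allR 61392 2558 (fun q => Nat.beq ((fun q => f8 (fv (f8 (fv (f8 (fv (f8 (fv (f8 (fv (f8 (fv (f8 (fv (f8 (fv (f8 (fv (f8 (fv (f8 (fv (f8 (fv (f8 (fv (f8 (fv (f8 (fv (f8 (fv (f8 (fv (f8 (fv (f8 (fv (q))))))))))))))))))))))))))))))))))))))) q) ((fun q => q) q)) = true := by decide +kernel


end Cfsg.Agent.Lib.Helper5.ONOut
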