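import Cfsg.Agent.Lib.Helper5.ONOut.D8
import Cfsg.Agent.Lib.Helper5.ONOut.D16
import Cfsg.Agent.Lib.Helper5.ONOut.DV

/-! # The outer automorphism group of the O'Nan group: the relation number 2, a part (generated) -/

set_option autoImplicit false
set_option maxRecDepth 100000

namespace Cfsg.Agent.Lib.Helper5.ONOut

open Cfsg.Agent.PF Cfsg.Agent.Lib.Helper6 Cfsg.Agent.Lib.Helper6.TC Cfsg.Agent.Lib.Helper6.NatArr Cfsg.Agent.Lib.Helper5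
open Cfsg.Agent.PL (Acts evalF)

theorem rel2_0 : allR 0 1705 (fun q => Nat.beq ((fun q => f8 (f8 (fv (f8 (f8 (fv (f8 (f8 (fv (f8 (f8 (fv (f8 (f8 (fv (f8 (f8 (fv (f8 (f8 (fv (f8 (f8 (fv (f8 (f8 (fv (f8 (f8 (fv (f8 (f8 (fv (f8 (f8 (fv (f8 (f8 (fv (f8 (f8 (fv (f8 (f8 (fv (f8 (f8 (fv (f8 (f8 (fv (f8 (f8 (fv (f8 (f8 (fv (q)))))))))))))))))))))))))))))))))))))))))))))))))))))))))) q) ((fun q => q) q)) = true := by decide +kernel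

theorem rel2_1 : allR 1705 1705 (fun q => Nat.beq ((fun q => f8 (f8 (fv (f8 (f8 (fv (f8 (f8 (fv (f8 (f8 (fv (f8 (f8 (fv (f8 (f8 (fv (f8 (f8 (fv (f8 (f8 (fv (f8 (f8 (fv (f8 (f8 (fv (f8 (f8 (fv (f8 (f8 (fv (f8 (f8 (fv (f8 (f8 (fv (f8 (f8 (fv (f8 (f8 (fv (f8 (f8 (fv (f8 (f8 (fv (f8 (f8 (fv (q)))))))))))))))))))))))))))))))))))))))))))))))))))))))))) q) ((fun q => q) q)) = true := by decide +kernel

theorem rel2_2 : allR 3410 1705 (fun q => Nat.beq ((fun q => f8 (f8 (fv (f8 (f8 (fv (f8 (f8 (fv (f8 (f8 (fv (f8 (f8 (fv (f8 (f8 (fv (f8 (f8 (fv (f8 (f8 (fv (f8 (f8 (fv (f8 (f8 (fv (f8 (f8 (fv (f8 (f8 (fv (f8 (f8 (fv (f8 (f8 (fv (f8 (f8 (fv (f8 (f8 (fv (f8 (f8 (fv (f8 (f8 (fv (f8 (f8 (fv (q)))))))))))))))))))))))))))))))))))))))))))))))))))))))))) q) ((fun q => q) q)) = true := by decide +kernel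

theorem rel2_3 : allR 5115 1705 (fun q => Nat.beq ((fun q => f8 (f8 (fv (f8 (f8 (fv (f8 (f8 (fv (f8 (f8 (fv (f8 (f8 (fv (f8 (f8 (fv (f8 (f8 (fv (f8 (f8 (fv (f8 (f8 (fv (f8 (f8 (fv (f8 (f8 (fv (f8 (f8 (fv (f8 (f8 (fv (f8 (f8 (fv (f8 (f8 (fv (f8 (f8 (fv (f8 (f8 (fv (f8 (f8 (fv (f8 (f8 (fv (q)))))))))))))))))))))))))))))))))))))))))))))))))))))))))) q) ((fun q => q) q)) = true := by decide +kernel

theorem rel2_4 : allR 6820 1705 (fun q => Nat.beq ((fun q => f8 (f8 (fv (f8 (f8 (fv (f8 (f8 (fv (f8 (f8 (fv (f8 (f8 (fv (f8 (f8 (fv (f8 (f8 (fv (f8 (f8 (fv (f8 (f8 (fv (f8 (f8 (fv (f8 (f8 (fv (f8 (f8 (fv (f8 (f8 (fv (f8 (f8 (fv (f8 (f8 (fv (f8 (f8 (fv (f8 (f8 (fv (f8 (f8 (fv (f8 (f8 (fv (q)))))))))))))))))))))))))))))))))))))))))))))))))))))))))) q) ((fun q => q) q)) = true := by decide +kernel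

theorem rel2_5 : allR 8525 1705 (fun q => Nat.beq ((fun q => f8 (f8 (fv (f8 (f8 (fv (f8 (f8 (fv (f8 (f8 (fv (f8 (f8 (fv (f8 (f8 (fv (f8 (f8 (fv (f8 (f8 (fv (f8 (f8 (fv (f8 (f8 (fv (f8 (f8 (fv (f8 (f8 (fv (f8 (f8 (fv (f8 (f8 (fv (f8 (f8 (fv (f8 (f8 (fv (f8 (f8 (fv (f8 (f8 (fv (f8 (f8 (fv (q)))))))))))))))))))))))))))))))))))))))))))))))))))))))))) q) ((fun q => q) q)) = true := by decide +kernel

theorem rel2_6 : allR 10230 1705 (fun q => Nat.beq ((fun q => f8 (f8 (fv (f8 (f8 (fv (f8 (f8 (fv (f8 (f8 (fv (f8 (f8 (fv (f8 (f8 (fv (f8 (f8 (fv (f8 (f8 (fv (f8 (f8 (fv (f8 (f8 (fv (f8 (f8 (fv (f8 (f8 (fv (f8 (f8 (fv (f8 (f8 (fv (f8 (f8 (fv (f8 (f8 (fv (f8 (f8 (fv (f8 (f8 (fv (f8 (f8 (fv (q)))))))))))))))))))))))))))))))))))))))))))))))))))))))))) q) ((fun q => q) q)) = true := by decide +kernel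

theorem rel2_7 : allR 11935 1705 (fun q => Nat.beq ((fun q => f8 (f8 (fv (f8 (f8 (fv (f8 (f8 (fv (f8 (f8 (fv (f8 (f8 (fv (f8 (f8 (fv (f8 (f8 (fv (f8 (f8 (fv (f8 (f8 (fv (f8 (f8 (fv (f8 (f8 (fv (f8 (f8 (fv (f8 (f8 (fv (f8 (f8 (fv (f8 (f8 (fv (f8 (f8 (fv (f8 (f8 (fv (f8 (f8 (fv (f8 (f8 (fv (q)))))))))))))))))))))))))))))))))))))))))))))))))))))))))) q) ((fun q => q) q)) = true := by decide +kernel

theorem rel2_8 : allR 13640 1705 (fun q => Nat.beq ((fun q => f8 (f8 (fv (f8 (f8 (fv (f8 (f8 (fv (f8 (f8 (fv (f8 (f8 (fv (f8 (f8 (fv (f8 (f8 (fv (f8 (f8 (fv (f8 (f8 (fv (f8 (f8 (fv (f8 (f8 (fv (f8 (f8 (fv (f8 (f8 (fv (f8 (f8 (fv (f8 (f8 (fv (f8 (f8 (fv (f8 (f8 (fv (f8 (f8 (fv (f8 (f8 (fv (q)))))))))))))))))))))))))))))))))))))))))))))))))))))))))) q) ((fun q => q) q)) = true := by decide +kernel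

theorem rel2_9 : allR 15345 1705 (fun q => Nat.beq ((fun q => f8 (f8 (fv (f8 (f8 (fv (f8 (f8 (fv (f8 (f8 (fv (f8 (f8 (fv (f8 (f8 (fv (f8 (f8 (fv (f8 (f8 (fv (f8 (f8 (fv (f8 (f8 (fv (f8 (f8 (fv (f8 (f8 (fv (f8 (f8 (fv (f8 (f8 (fv (f8 (f8 (fv (f8 (f8 (fv (f8 (f8 (fv (f8 (f8 (fv (f8 (f8 (fv (q)))))))))))))))))))))))))))))))))))))))))))))))))))))))))) q) ((fun q => q) q)) = true := by decide +kernel

theorem rel2_10 : allR 17050 1705 (fun q => Nat.beq ((fun q => f8 (f8 (fv (f8 (f8 (fv (f8 (f8 (fv (f8 (f8 (fv (f8 (f8 (fv (f8 (f8 (fv (f8 (f8 (fv (f8 (f8 (fv (f8 (f8 (fv (f8 (f8 (fv (f8 (f8 (fv (f8 (f8 (fv (f8 (f8 (fv (f8 (f8 (fv (f8 (f8 (fv (f8 (f8 (fv (f8 (f8 (fv (f8 (f8 (fv (f8 (f8 (fv (q)))))))))))))))))))))))))))))))))))))))))))))))))))))))))) q) ((fun q => q) q)) = true := by decide +kernel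

theorem rel2_11 : allR 18755 1705 (fun q => Nat.beq ((fun q => f8 (f8 (fv (f8 (f8 (fv (f8 (f8 (fv (f8 (f8 (fv (f8 (f8 (fv (f8 (f8 (fv (f8 (f8 (fv (f8 (f8 (fv (f8 (f8 (fv (f8 (f8 (fv (f8 (f8 (fv (f8 (f8 (fv (f8 (f8 (fv (f8 (f8 (fv (f8 (f8 (fv (f8 (f8 (fv (f8 (f8 (fv (f8 (f8 (fv (f8 (f8 (fv (q)))))))))))))))))))))))))))))))))))))))))))))))))))))))))) q) ((fun q => q) q)) = true := by decide +kernel

theorem rel2_12 : allR 20460 1705 (fun q => Nat.beq ((fun q => f8 (f8 (fv (f8 (f8 (fv (f8 (f8 (fv (f8 (f8 (fv (f8 (f8 (fv (f8 (f8 (fv (f8 (f8 (fv (f8 (f8 (fv (f8 (f8 (fv (f8 (f8 (fv (f8 (f8 (fv (f8 (f8 (fv (f8 (f8 (fv (f8 (f8 (fv (f8 (f8 (fv (f8 (f8 (fv (f8 (f8 (fv (f8 (f8 (fv (f8 (f8 (fv (q)))))))))))))))))))))))))))))))))))))))))))))))))))))))))) q) ((fun q => q) q)) = true := by decide +kernel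

theorem rel2_13 : allR 22165 1705 (fun q => Nat.beq ((fun q => f8 (f8 (fv (f8 (f8 (fv (f8 (f8 (fv (f8 (f8 (fv (f8 (f8 (fv (f8 (f8 (fv (f8 (f8 (fv (f8 (f8 (fv (f8 (f8 (fv (f8 (f8 (fv (f8 (f8 (fv (f8 (f8 (fv (f8 (f8 (fv (f8 (f8 (fv (f8 (f8 (fv (f8 (f8 (fv (f8 (f8 (fv (f8 (f8 (fv (f8 (f8 (fv (q)))))))))))))))))))))))))))))))))))))))))))))))))))))))))) q) ((fun q => q) q)) = true := by decide +kernel

theorem rel2_14 : allR 23870 1705 (fun q => Nat.beq ((fun q => f8 (f8 (fv (f8 (f8 (fv (f8 (f8 (fv (f8 (f8 (fv (f8 (f8 (fv (f8 (f8 (fv (f8 (f8 (fv (f8 (f8 (fv (f8 (f8 (fv (f8 (f8 (fv (f8 (f8 (fv (f8 (f8 (fv (f8 (f8 (fv (f8 (f8 (fv (f8 (f8 (fv (f8 (f8 (fv (f8 (f8 (fv (f8 (f8 (fv (f8 (f8 (fv (q)))))))))))))))))))))))))))))))))))))))))))))))))))))))))) q) ((fun q => q) q)) = true := by decide +kernel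

theorem rel2_15 : allR 25575 1705 (fun q => Nat.beq ((fun q => f8 (f8 (fv (f8 (f8 (fv (f8 (f8 (fv (f8 (f8 (fv (f8 (f8 (fv (f8 (f8 (fv (f8 (f8 (fv (f8 (f8 (fv (f8 (f8 (fv (f8 (f8 (fv (f8 (f8 (fv (f8 (f8 (fv (f8 (f8 (fv (f8 (f8 (fv (f8 (f8 (fv (f8 (f8 (fv (f8 (f8 (fv (f8 (f8 (fv (f8 (f8 (fv (q)))))))))))))))))))))))))))))))))))))))))))))))))))))))))) q) ((fun q => q) q)) = true := by decide +kernel

theorem rel2_16 : allR 27280 1705 (fun q => Nat.beq ((fun q => f8 (f8 (fv (f8 (f8 (fv (f8 (f8 (fv (f8 (f8 (fv (f8 (f8 (fv (f8 (f8 (fv (f8 (f8 (fv (f8 (f8 (fv (f8 (f8 (fv (f8 (f8 (fv (f8 (f8 (fv (f8 (f8 (fv (f8 (f8 (fv (f8 (f8 (fv (f8 (f8 (fv (f8 (f8 (fv (f8 (f8 (fv (f8 (f8 (fv (f8 (f8 (fv (q)))))))))))))))))))))))))))))))))))))))))))))))))))))))))) q) ((fun q => q) q)) = true := by decide +kernel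

theorem rel2_17 : allR 28985 1705 (fun q => Nat.beq ((fun q => f8 (f8 (fv (f8 (f8 (fv (f8 (f8 (fv (f8 (f8 (fv (f8 (f8 (fv (f8 (f8 (fv (f8 (f8 (fv (f8 (f8 (fv (f8 (f8 (fv (f8 (f8 (fv (f8 (f8 (fv (f8 (f8 (fv (f8 (f8 (fv (f8 (f8 (fv (f8 (f8 (fv (f8 (f8 (fv (f8 (f8 (fv (f8 (f8 (fv (f8 (f8 (fv (q)))))))))))))))))))))))))))))))))))))))))))))))))))))))))) q) ((fun q => q) q)) = true := by decide +kernel

theorem rel2_18 : allR 30690 1705 (fun q => Nat.beq ((fun q => f8 (f8 (fv (f8 (f8 (fv (f8 (f8 (fv (f8 (f8 (fv (f8 (f8 (fv (f8 (f8 (fv (f8 (f8 (fv (f8 (f8 (fv (f8 (f8 (fv (f8 (f8 (fv (f8 (f8 (fv (f8 (f8 (fv (f8 (f8 (fv (f8 (f8 (fv (f8 (f8 (fv (f8 (f8 (fv (f8 (f8 (fv (f8 (f8 (fv (f8 (f8 (fv (q)))))))))))))))))))))))))))))))))))))))))))))))))))))))))) q) ((fun q => q) q)) = true := by decide +kernel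

theorem rel2_19 : allR 32395 1705 (fun q => Nat.beq ((fun q => f8 (f8 (fv (f8 (f8 (fv (f8 (f8 (fv (f8 (f8 (fv (f8 (f8 (fv (f8 (f8 (fv (f8 (f8 (fv (f8 (f8 (fv (f8 (f8 (fv (f8 (f8 (fv (f8 (f8 (fv (f8 (f8 (fv (f8 (f8 (fv (f8 (f8 (fv (f8 (f8 (fv (f8 (f8 (fv (f8 (f8 (fv (f8 (f8 (fv (f8 (f8 (fv (q)))))))))))))))))))))))))))))))))))))))))))))))))))))))))) q) ((fun q => q) q)) = true := by decide +kernel

theorem rel2_20 : allR 34100 1705 (fun q => Nat.beq ((fun q => f8 (f8 (fv (f8 (f8 (fv (f8 (f8 (fv (f8 (f8 (fv (f8 (f8 (fv (f8 (f8 (fv (f8 (f8 (fv (f8 (f8 (fv (f8 (f8 (fv (f8 (f8 (fv (f8 (f8 (fv (f8 (f8 (fv (f8 (f8 (fv (f8 (f8 (fv (f8 (f8 (fv (f8 (f8 (fv (f8 (f8 (fv (f8 (f8 (fv (f8 (f8 (fv (q)))))))))))))))))))))))))))))))))))))))))))))))))))))))))) q) ((fun q => q) q)) = true := by decide +kernel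

theorem rel2_21 : allR 35805 1705 (fun q => Nat.beq ((fun q => f8 (f8 (fv (f8 (f8 (fv (f8 (f8 (fv (f8 (f8 (fv (f8 (f8 (fv (f8 (f8 (fv (f8 (f8 (fv (f8 (f8 (fv (f8 (f8 (fv (f8 (f8 (fv (f8 (f8 (fv (f8 (f8 (fv (f8 (f8 (fv (f8 (f8 (fv (f8 (f8 (fv (f8 (f8 (fv (f8 (f8 (fv (f8 (f8 (fv (f8 (f8 (fv (q)))))))))))))))))))))))))))))))))))))))))))))))))))))))))) q) ((fun q => q) q)) = true := by decide +kernel

theorem rel2_22 : allR 37510 1705 (fun q => Nat.beq ((fun q => f8 (f8 (fv (f8 (f8 (fv (f8 (f8 (fv (f8 (f8 (fv (f8 (f8 (fv (f8 (f8 (fv (f8 (f8 (fv (f8 (f8 (fv (f8 (f8 (fv (f8 (f8 (fv (f8 (f8 (fv (f8 (f8 (fv (f8 (f8 (fv (f8 (f8 (fv (f8 (f8 (fv (f8 (f8 (fv (f8 (f8 (fv (f8 (f8 (fv (f8 (f8 (fv (q)))))))))))))))))))))))))))))))))))))))))))))))))))))))))) q) ((fun q => q) q)) = true := by decide +kernel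

theorem rel2_23 : allR 39215 1705 (fun q => Nat.beq ((fun q => f8 (f8 (fv (f8 (f8 (fv (f8 (f8 (fv (f8 (f8 (fv (f8 (f8 (fv (f8 (f8 (fv (f8 (f8 (fv (f8 (f8 (fv (f8 (f8 (fv (f8 (f8 (fv (f8 (f8 (fv (f8 (f8 (fv (f8 (f8 (fv (f8 (f8 (fv (f8 (f8 (fv (f8 (f8 (fv (f8 (f8 (fv (f8 (f8 (fv (f8 (f8 (fv (q)))))))))))))))))))))))))))))))))))))))))))))))))))))))))) q) ((fun q => q) q)) = true := by decide +kernel

theorem rel2_24 : allR 40920 1705 (fun q => Nat.beq ((fun q => f8 (f8 (fv (f8 (f8 (fv (f8 (f8 (fv (f8 (f8 (fv (f8 (f8 (fv (f8 (f8 (fv (f8 (f8 (fv (f8 (f8 (fv (f8 (f8 (fv (f8 (f8 (fv (f8 (f8 (fv (f8 (f8 (fv (f8 (f8 (fv (f8 (f8 (fv (f8 (f8 (fv (f8 (f8 (fv (f8 (f8 (fv (f8 (f8 (fv (f8 (f8 (fv (q)))))))))))))))))))))))))))))))))))))))))))))))))))))))))) q) ((fun q => q) q)) = true := by decide +kernel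


end Cfsg.Agent.Lib.Helper5.ONOut
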