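import Cfsg.Agent.Lib.Helper5.ONOut.D8
import Cfsg.Agent.Lib.Helper5.ONOut.D16
import Cfsg.Agent.Lib.Helper5.ONOut.DV

/-! # The outer automorphism group of the O'Nan group: the relation number 3, a part (generated) -/

set_option autoImplicit false
set_option maxRecDepth 100000

namespace Cfsg.Agent.Lib.Helper5.ONOut

open Cfsg.Agent.PF Cfsg.Agent.Lib.Helper6 Cfsg.Agent.Lib.Helper6.TC Cfsg.Agent.Lib.Helper6.NatArr Cfsg.Agent.Lib.Helper5
open Cfsg.Agent.PL (Acts evalF)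

theorem rel3_0 : allR 0 3960 (fun q => Nat.beq ((fun q => f8 (f16 (fv (f8 (f16 (fv (f8 (f16 (fv (f8 (f16 (fv (f8 (f16 (fv (f8 (f16 (fv (f8 (f16 (fv (f8 (f16 (fv (q))))))))))))))))))))))))) q) ((fun q => q) q)) = true := by decide +kernel

theorem rel3_1 : allR 3960 3960 (fun q => Nat.beq ((fun q => f8 (f16 (fv (f8 (f16 (fv (f8 (f16 (fv (f8 (f16 (fv (f8 (f16 (fv (f8 (f16 (fv (f8 (f16 (fv (f8 (f16 (fv (q))))))))))))))))))))))))) q) ((fun q => q) q)) = true := by decide +kernel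

theorem rel3_2 : allR 7920 3960 (fun q => Nat.beq ((fun q => f8 (f16 (fv (f8 (f16 (fv (f8 (f16 (fv (f8 (f16 (fv (f8 (f16 (fv (f8 (f16 (fv (f8 (f16 (fv (f8 (f16 (fv (q))))))))))))))))))))))))) q) ((fun q => q) q)) = true := by decide +kernel

theorem rel3_3 : allR 11880 3960 (fun q => Nat.beq ((fun q => f8 (f16 (fv (f8 (f16 (fv (f8 (f16 (fv (f8 (f16 (fv (f8 (f16 (fv (f8 (f16 (fv (f8 (f16 (fv (f8 (f16 (fv (q))))))))))))))))))))))))) q) ((fun q => q) q)) = true := by decide +kernel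

theorem rel3_4 : allR 15840 3960 (fun q => Nat.beq ((fun q => f8 (f16 (fv (f8 (f16 (fv (f8 (f16 (fv (f8 (f16 (fv (f8 (f16 (fv (f8 (f16 (fv (f8 (f16 (fv (f8 (f16 (fv (q))))))))))))))))))))))))) q) ((fun q => q) q)) = true := by decide +kernel

theorem rel3_5 : allR 19800 3960 (fun q => Nat.beq ((fun q => f8 (f16 (fv (f8 (f16 (fv (f8 (f16 (fv (f8 (f16 (fv (f8 (f16 (fv (f8 (f16 (fv (f8 (f16 (fv (f8 (f16 (fv (q))))))))))))))))))))))))) q) ((fun q => q) q)) = true := by decide +kernel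

theorem rel3_6 : allR 23760 3960 (fun q => Nat.beq ((fun q => f8 (f16 (fv (f8 (f16 (fv (f8 (f16 (fv (f8 (f16 (fv (f8 (f16 (fv (f8 (f16 (fv (f8 (f16 (fv (f8 (f16 (fv (q))))))))))))))))))))))))) q) ((fun q => q) q)) = true := by decide +kernel

theorem rel3_7 : allR 27720 3960 (fun q => Nat.beq ((fun q => f8 (f16 (fv (f8 (f16 (fv (f8 (f16 (fv (f8 (f16 (fv (f8 (f16 (fv (f8 (f16 (fv (f8 (f16 (fv (f8 (f16 (fv (q))))))))))))))))))))))))) q) ((fun q => q) q)) = true := by decide +kernel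

theorem rel3_8 : allR 31680 3960 (fun q => Nat.beq ((fun q => f8 (f16 (fv (f8 (f16 (fv (f8 (f16 (fv (f8 (f16 (fv (f8 (f16 (fv (f8 (f16 (fv (f8 (f16 (fv (f8 (f16 (fv (q))))))))))))))))))))))))) q) ((fun q => q) q)) = true := by decide +kernel

theorem rel3_9 : allR 35640 3960 (fun q => Nat.beq ((fun q => f8 (f16 (fv (f8 (f16 (fv (f8 (f16 (fv (f8 (f16 (fv (f8 (f16 (fv (f8 (f16 (fv (f8 (f16 (fv (f8 (f16 (fv (q))))))))))))))))))))))))) q) ((fun q => q) q)) = true := by decide +kernel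

theorem rel3_10 : allR 39600 3960 (fun q => Nat.beq ((fun q => f8 (f16 (fv (f8 (f16 (fv (f8 (f16 (fv (f8 (f16 (fv (f8 (f16 (fv (f8 (f16 (fv (f8 (f16 (fv (f8 (f16 (fv (q))))))))))))))))))))))))) q) ((fun q => q) q)) = true := by decide +kernel

theorem rel3_11 : allR 43560 3960 (fun q => Nat.beq ((fun q => f8 (f16 (fv (f8 (f16 (fv (f8 (f16 (fv (f8 (f16 (fv (f8 (f16 (fv (f8 (f16 (fv (f8 (f16 (fv (f8 (f16 (fv (q))))))))))))))))))))))))) q) ((fun q => q) q)) = true := by decide +kernel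

theorem rel3_12 : allR 47520 3960 (fun q => Nat.beq ((fun q => f8 (f16 (fv (f8 (f16 (fv (f8 (f16 (fv (f8 (f16 (fv (f8 (f16 (fv (f8 (f16 (fv (f8 (f16 (fv (f8 (f16 (fv (q))))))))))))))))))))))))) q) ((fun q => q) q)) = true := by decide +kernel

theorem rel3_13 : allR 51480 3960 (fun q => Nat.beq ((fun q => f8 (f16 (fv (f8 (f16 (fv (f8 (f16 (fv (f8 (f16 (fv (f8 (f16 (fv (f8 (f16 (fv (f8 (f16 (fv (f8 (f16 (fv (q))))))))))))))))))))))))) q) ((fun q => q) q)) = true := by decide +kernel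

theorem rel3_14 : allR 55440 3960 (fun q => Nat.beq ((fun q => f8 (f16 (fv (f8 (f16 (fv (f8 (f16 (fv (f8 (f16 (fv (f8 (f16 (fv (f8 (f16 (fv (f8 (f16 (fv (f8 (f16 (fv (q))))))))))))))))))))))))) q) ((fun q => q) q)) = true := by decide +kernel

theorem rel3_15 : allR 59400 3960 (fun q => Nat.beq ((fun q => f8 (f16 (fv (f8 (f16 (fv (f8 (f16 (fv (f8 (f16 (fv (f8 (f16 (fv (f8 (f16 (fv (f8 (f16 (fv (f8 (f16 (fv (q))))))))))))))))))))))))) q) ((fun q => q) q)) = true := by decide +kernel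

theorem rel3_16 : allR 63360 3960 (fun q => Nat.beq ((fun q => f8 (f16 (fv (f8 (f16 (fv (f8 (f16 (fv (f8 (f16 (fv (f8 (f16 (fv (f8 (f16 (fv (f8 (f16 (fv (f8 (f16 (fv (q))))))))))))))))))))))))) q) ((fun q => q) q)) = true := by decide +kernel

theorem rel3_17 : allR 67320 3960 (fun q => Nat.beq ((fun q => f8 (f16 (fv (f8 (f16 (fv (f8 (f16 (fv (f8 (f16 (fv (f8 (f16 (fv (f8 (f16 (fv (f8 (f16 (fv (f8 (f16 (fv (q))))))))))))))))))))))))) q) ((fun q => q) q)) = true := by decide +kernel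

theorem rel3_18 : allR 71280 3960 (fun q => Nat.beq ((fun q => f8 (f16 (fv (f8 (f16 (fv (f8 (f16 (fv (f8 (f16 (fv (f8 (f16 (fv (f8 (f16 (fv (f8 (f16 (fv (f8 (f16 (fv (q))))))))))))))))))))))))) q) ((fun q => q) q)) = true := by decide +kernel

theorem rel3_19 : allR 75240 3960 (fun q => Nat.beq ((fun q => f8 (f16 (fv (f8 (f16 (fv (f8 (f16 (fv (f8 (f16 (fv (f8 (f16 (fv (f8 (f16 (fv (f8 (f16 (fv (f8 (f16 (fv (q))))))))))))))))))))))))) q) ((fun q => q) q)) = true := by decide +kernel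

theorem rel3_20 : allR 79200 3960 (fun q => Nat.beq ((fun q => f8 (f16 (fv (f8 (f16 (fv (f8 (f16 (fv (f8 (f16 (fv (f8 (f16 (fv (f8 (f16 (fv (f8 (f16 (fv (f8 (f16 (fv (q))))))))))))))))))))))))) q) ((fun q => q) q)) = true := by decide +kernel

theorem rel3_21 : allR 83160 3960 (fun q => Nat.beq ((fun q => f8 (f16 (fv (f8 (f16 (fv (f8 (f16 (fv (f8 (f16 (fv (f8 (f16 (fv (f8 (f16 (fv (f8 (f16 (fv (f8 (f16 (fv (q))))))))))))))))))))))))) q) ((fun q => q) q)) = true := by decide +kernel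

theorem rel3_22 : allR 87120 3960 (fun q => Nat.beq ((fun q => f8 (f16 (fv (f8 (f16 (fv (f8 (f16 (fv (f8 (f16 (fv (f8 (f16 (fv (f8 (f16 (fv (f8 (f16 (fv (f8 (f16 (fv (q))))))))))))))))))))))))) q) ((fun q => q) q)) = true := by decide +kernel

theorem rel3_23 : allR 91080 3960 (fun q => Nat.beq ((fun q => f8 (f16 (fv (f8 (f16 (fv (f8 (f16 (fv (f8 (f16 (fv (f8 (f16 (fv (f8 (f16 (fv (f8 (f16 (fv (f8 (f16 (fv (q))))))))))))))))))))))))) q) ((fun q => q) q)) = true := by decide +kernel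

theorem rel3_24 : allR 95040 3960 (fun q => Nat.beq ((fun q => f8 (f16 (fv (f8 (f16 (fv (f8 (f16 (fv (f8 (f16 (fv (f8 (f16 (fv (f8 (f16 (fv (f8 (f16 (fv (f8 (f16 (fv (q))))))))))))))))))))))))) q) ((fun q => q) q)) = true := by decide +kernel


end Cfsg.Agent.Lib.Helper5.ONOut
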