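import Cfsg.Agent.Lib.Helper5.ONOut.C13x0
import Cfsg.Agent.Lib.Helper5.ONOut.C13x1

/-! # The outer automorphism group of the O'Nan group: the element number 13 (generated) -/

set_option autoImplicit false
set_option maxRecDepth 100000

namespace Cfsg.Agent.Lib.Helper5.ONOut

open Cfsg.Agent.PF Cfsg.Agent.Lib.Helper6 Cfsg.Agent.Lib.Helper6.TC Cfsg.Agent.Lib.Helper6.NatArr Cfsg.Agent.Lib.Helper5
open Cfsg.Agent.PL (Acts evalF)

/-- the table agrees with the word -/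
theorem eq13 : ∀ q < 122760, f13 q = wordF W13 q :=
  eq_of_chunks (f := f13) (g := (fun q => f10 (f11 (f12 (f10 (f12 (f12 (f10 (f11 (f11 (f1 (f0 (f2 (f12 (f2 (f9 (f11 (f11 (f4 (f1 (f11 (f5 (f11 (f11 (f8 (q)))))))))))))))))))))))))) [(0, 3960), (3960, 3960), (7920, 3960), (11880, 3960), (15840, 3960), (19800, 3960), (23760, 3960), (27720, 3960), (31680, 3960), (35640, 3960), (39600, 3960), (43560, 3960), (47520, 3960), (51480, 3960), (55440, 3960), (59400, 3960), (63360, 3960), (67320, 3960), (71280, 3960), (75240, 3960), (79200, 3960), (83160, 3960), (87120, 3960), (91080, 3960), (95040, 3960), (99000, 3960), (102960, 3960), (106920, 3960), (110880, 3960), (114840, 3960), (118800, 3960)] (by decide) (List.forall_mem_cons.2 ⟨eq13_0, List.forall_mem_cons.2 ⟨eq13_1, List.forall_mem_cons.2 ⟨eq13_2, List.forall_mem_cons.2 ⟨eq13_3, List.forall_mem_cons.2 ⟨eq13_4, List.forall_mem_cons.2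 ⟨eq13_5, List.forall_mem_cons.2 ⟨eq13_6, List.forall_mem_cons.2 ⟨eq13_7, List.forall_mem_cons.2 ⟨eq13_8, List.forall_mem_cons.2 ⟨eq13_9, List.forall_mem_cons.2 ⟨eq13_10, List.forall_mem_cons.2 ⟨eq13_11, List.forall_mem_cons.2 ⟨eq13_12, List.forall_mem_cons.2 ⟨eq13_13, List.forall_mem_cons.2 ⟨eq13_14, List.forall_mem_cons.2 ⟨eq13_15, List.forall_mem_cons.2 ⟨eq13_16, List.forall_mem_cons.2 ⟨eq13_17, List.forall_mem_cons.2 ⟨eq13_18, List.forall_mem_cons.2 ⟨eq13_19, List.forall_mem_cons.2 ⟨eq13_20, List.forall_mem_cons.2 ⟨eq13_21, List.forall_mem_cons.2 ⟨eq13_22, List.forall_mem_cons.2 ⟨eq13_23, List.forall_mem_cons.2 ⟨eq13_24, List.forall_mem_cons.2 ⟨eq13_25, List.forall_mem_cons.2 ⟨eq13_26, List.forall_mem_cons.2 ⟨eq13_27, List.forall_mem_cons.2 ⟨eq13_28, List.forall_mem_cons.2 ⟨eq13_29, List.forall_mem_cons.2 ⟨eq13_30, fun _ h => absurd h List.not_mem_nil⟩⟩⟩⟩⟩⟩⟩⟩⟩⟩⟩⟩⟩⟩⟩⟩⟩⟩⟩⟩⟩⟩⟩⟩⟩⟩⟩⟩⟩⟩⟩)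

end Cfsg.Agent.Lib.Helper5.ONOut
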