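import Cfsg.Agent.Lib.Helper5.ONOut.C14x0
import Cfsg.Agent.Lib.Helper5.ONOut.C14x1

/-! # The outer automorphism group of the O'Nan group: the element number 14 (generated) -/

set_option autoImplicit false
set_option maxRecDepth 100000

namespace Cfsg.Agent.Lib.Helper5.ONOut

open Cfsg.Agent.PF Cfsg.Agent.Lib.Helper6 Cfsg.Agent.Lib.Helper6.TC Cfsg.Agent.Lib.Helper6.NatArr Cfsg.Agent.Lib.Helper5
open Cfsg.Agent.PL (Acts evalF)

/-- the table agrees with the word -/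
theorem eq14 : ∀ q < 122760, f14 q = wordF W14 q :=
  eq_of_chunks (f := f14) (g := (fun q => f9 (f11 (f13 (f12 (f10 (f13 (f9 (f10 (f3 (f12 (f5 (f4 (f13 (f6 (f8 (f13 (f10 (f3 (f4 (f4 (f9 (q))))))))))))))))))))))) [(0, 4385), (4385, 4385), (8770, 4385), (13155, 4385), (17540, 4385), (21925, 4385), (26310, 4385), (30695, 4385), (35080, 4385), (39465, 4385), (43850, 4385), (48235, 4385), (52620, 4385), (57005, 4385), (61390, 4385), (65775, 4385), (70160, 4385), (74545, 4385), (78930, 4385), (83315, 4385), (87700, 4385), (92085, 4385), (96470, 4385), (100855, 4385), (105240, 4385), (109625, 4385), (114010, 4385), (118395, 4365)] (by decide) (List.forall_mem_cons.2 ⟨eq14_0, List.forall_mem_cons.2 ⟨eq14_1, List.forall_mem_cons.2 ⟨eq14_2, List.forall_mem_cons.2 ⟨eq14_3, List.forall_mem_cons.2 ⟨eq14_4, List.forall_mem_cons.2 ⟨eq14_5, List.forall_mem_cons.2 ⟨eq14_6, List.forall_mem_cons.2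 ⟨eq14_7, List.forall_mem_cons.2 ⟨eq14_8, List.forall_mem_cons.2 ⟨eq14_9, List.forall_mem_cons.2 ⟨eq14_10, List.forall_mem_cons.2 ⟨eq14_11, List.forall_mem_cons.2 ⟨eq14_12, List.forall_mem_cons.2 ⟨eq14_13, List.forall_mem_cons.2 ⟨eq14_14, List.forall_mem_cons.2 ⟨eq14_15, List.forall_mem_cons.2 ⟨eq14_16, List.forall_mem_cons.2 ⟨eq14_17, List.forall_mem_cons.2 ⟨eq14_18, List.forall_mem_cons.2 ⟨eq14_19, List.forall_mem_cons.2 ⟨eq14_20, List.forall_mem_cons.2 ⟨eq14_21, List.forall_mem_cons.2 ⟨eq14_22, List.forall_mem_cons.2 ⟨eq14_23, List.forall_mem_cons.2 ⟨eq14_24, List.forall_mem_cons.2 ⟨eq14_25, List.forall_mem_cons.2 ⟨eq14_26, List.forall_mem_cons.2 ⟨eq14_27, fun _ h => absurd h List.not_mem_nil⟩⟩⟩⟩⟩⟩⟩⟩⟩⟩⟩⟩⟩⟩⟩⟩⟩⟩⟩⟩⟩⟩⟩⟩⟩⟩⟩⟩)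

end Cfsg.Agent.Lib.Helper5.ONOut
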