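import Cfsg.Agent.Lib.Helper5.ONOut.C15x0

/-! # The outer automorphism group of the O'Nan group: the element number 15 (generated) -/

set_option autoImplicit false
set_option maxRecDepth 100000

namespace Cfsg.Agent.Lib.Helper5.ONOut

open Cfsg.Agent.PF Cfsg.Agent.Lib.Helper6 Cfsg.Agent.Lib.Helper6.TC Cfsg.Agent.Lib.Helper6.NatArr Cfsg.Agent.Lib.Helper5
open Cfsg.Agent.PL (Acts evalF)

/-- the table agrees with the word -/
theorem eq15 : ∀ q < 122760, f15 q = wordF W15 q :=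
  eq_of_chunks (f := f15) (g := (fun q => f9 (f11 (f12 (f12 (f9 (f12 (f4 (f12 (f11 (f12 (f0 (f7 (f13 (f8 (f6 (f9 (f13 (f0 (f7 (q))))))))))))))))))))) [(0, 4911), (4911, 4911), (9822, 4911), (14733, 4911), (19644, 4911), (24555, 4911), (29466, 4911), (34377, 4911), (39288, 4911), (44199, 4911), (49110, 4911), (54021, 4911), (58932, 4911), (63843, 4911), (68754, 4911), (73665, 4911), (78576, 4911), (83487, 4911), (88398, 4911), (93309, 4911), (98220, 4911), (103131, 4911), (108042, 4911), (112953, 4911), (117864, 4896)] (by decide) (List.forall_mem_cons.2 ⟨eq15_0, List.forall_mem_cons.2 ⟨eq15_1, List.forall_mem_cons.2 ⟨eq15_2, List.forall_mem_cons.2 ⟨eq15_3, List.forall_mem_cons.2 ⟨eq15_4, List.forall_mem_cons.2 ⟨eq15_5, List.forall_mem_cons.2 ⟨eq15_6, List.forall_mem_cons.2 ⟨eq15_7, List.forall_mem_cons.2 ⟨eq15_8, List.forall_mem_cons.2 ⟨eq15_9, List.forall_mem_cons.2 ⟨eq15_10, List.forall_mem_cons.2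 ⟨eq15_11, List.forall_mem_cons.2 ⟨eq15_12, List.forall_mem_cons.2 ⟨eq15_13, List.forall_mem_cons.2 ⟨eq15_14, List.forall_mem_cons.2 ⟨eq15_15, List.forall_mem_cons.2 ⟨eq15_16, List.forall_mem_cons.2 ⟨eq15_17, List.forall_mem_cons.2 ⟨eq15_18, List.forall_mem_cons.2 ⟨eq15_19, List.forall_mem_cons.2 ⟨eq15_20, List.forall_mem_cons.2 ⟨eq15_21, List.forall_mem_cons.2 ⟨eq15_22, List.forall_mem_cons.2 ⟨eq15_23, List.forall_mem_cons.2 ⟨eq15_24, fun _ h => absurd h List.not_mem_nil⟩⟩⟩⟩⟩⟩⟩⟩⟩⟩⟩⟩⟩⟩⟩⟩⟩⟩⟩⟩⟩⟩⟩⟩⟩)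

end Cfsg.Agent.Lib.Helper5.ONOut
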