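import Cfsg.Agent.Lib.Helper5.ONOut.C19x0
import Cfsg.Agent.Lib.Helper5.ONOut.C19x1

/-! # The outer automorphism group of the O'Nan group: the element number 19 (generated) -/

set_option autoImplicit false
set_option maxRecDepth 100000

namespace Cfsg.Agent.Lib.Helper5.ONOut

open Cfsg.Agent.PF Cfsg.Agent.Lib.Helper6 Cfsg.Agent.Lib.Helper6.TC Cfsg.Agent.Lib.Helper6.NatArr Cfsg.Agent.Lib.Helper5
open Cfsg.Agent.PL (Acts evalF)

/-- the table agrees with the word -/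
theorem eq19 : ∀ q < 122760, f19 q = wordF W19 q :=
  eq_of_chunks (f := f19) (g := (fun q => f18 (f18 (f17 (f18 (f17 (f18 (f17 (f18 (f17 (f17 (f18 (f17 (f6 (f1 (f4 (f16 (f1 (f14 (f16 (f8 (f1 (f0 (f11 (q))))))))))))))))))))))))) [(0, 4092), (4092, 4092), (8184, 4092), (12276, 4092), (16368, 4092), (20460, 4092), (24552, 4092), (28644, 4092), (32736, 4092), (36828, 4092), (40920, 4092), (45012, 4092), (49104, 4092), (53196, 4092), (57288, 4092), (61380, 4092), (65472, 4092), (69564, 4092), (73656, 4092), (77748, 4092), (81840, 4092), (85932, 4092), (90024, 4092), (94116, 4092), (98208, 4092), (102300, 4092), (106392, 4092), (110484, 4092), (114576, 4092), (118668, 4092)] (by decide) (List.forall_mem_cons.2 ⟨eq19_0, List.forall_mem_cons.2 ⟨eq19_1, List.forall_mem_cons.2 ⟨eq19_2, List.forall_mem_cons.2 ⟨eq19_3, List.forall_mem_cons.2 ⟨eq19_4, List.forall_mem_cons.2 ⟨eq19_5, List.forall_mem_cons.2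 ⟨eq19_6, List.forall_mem_cons.2 ⟨eq19_7, List.forall_mem_cons.2 ⟨eq19_8, List.forall_mem_cons.2 ⟨eq19_9, List.forall_mem_cons.2 ⟨eq19_10, List.forall_mem_cons.2 ⟨eq19_11, List.forall_mem_cons.2 ⟨eq19_12, List.forall_mem_cons.2 ⟨eq19_13, List.forall_mem_cons.2 ⟨eq19_14, List.forall_mem_cons.2 ⟨eq19_15, List.forall_mem_cons.2 ⟨eq19_16, List.forall_mem_cons.2 ⟨eq19_17, List.forall_mem_cons.2 ⟨eq19_18, List.forall_mem_cons.2 ⟨eq19_19, List.forall_mem_cons.2 ⟨eq19_20, List.forall_mem_cons.2 ⟨eq19_21, List.forall_mem_cons.2 ⟨eq19_22, List.forall_mem_cons.2 ⟨eq19_23, List.forall_mem_cons.2 ⟨eq19_24, List.forall_mem_cons.2 ⟨eq19_25, List.forall_mem_cons.2 ⟨eq19_26, List.forall_mem_cons.2 ⟨eq19_27, List.forall_mem_cons.2 ⟨eq19_28, List.forall_mem_cons.2 ⟨eq19_29, fun _ h => absurd h List.not_mem_nil⟩⟩⟩⟩⟩⟩⟩⟩⟩⟩⟩⟩⟩⟩⟩⟩⟩⟩⟩⟩⟩⟩⟩⟩⟩⟩⟩⟩⟩⟩)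

end Cfsg.Agent.Lib.Helper5.ONOut
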