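import Cfsg.Agent.Lib.Helper5.ONOut.C20x0

/-! # The outer automorphism group of the O'Nan group: the element number 20 (generated) -/

set_option autoImplicit false
set_option maxRecDepth 100000

namespace Cfsg.Agent.Lib.Helper5.ONOut

open Cfsg.Agent.PF Cfsg.Agent.Lib.Helper6 Cfsg.Agent.Lib.Helper6.TC Cfsg.Agent.Lib.Helper6.NatArr Cfsg.Agent.Lib.Helper5
open Cfsg.Agent.PL (Acts evalF)

/-- the table agrees with the word -/
theorem eq20 : ∀ q < 122760, f20 q = wordF W20 q :=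
  eq_of_chunks (f := f20) (g := (fun q => f17 (f18 (f17 (f19 (f18 (f18 (f18 (f19 (f17 (f19 (f17 (q))))))))))))) [(0, 8184), (8184, 8184), (16368, 8184), (24552, 8184), (32736, 8184), (40920, 8184), (49104, 8184), (57288, 8184), (65472, 8184), (73656, 8184), (81840, 8184), (90024, 8184), (98208, 8184), (106392, 8184), (114576, 8184)] (by decide) (List.forall_mem_cons.2 ⟨eq20_0, List.forall_mem_cons.2 ⟨eq20_1, List.forall_mem_cons.2 ⟨eq20_2, List.forall_mem_cons.2 ⟨eq20_3, List.forall_mem_cons.2 ⟨eq20_4, List.forall_mem_cons.2 ⟨eq20_5, List.forall_mem_cons.2 ⟨eq20_6, List.forall_mem_cons.2 ⟨eq20_7, List.forall_mem_cons.2 ⟨eq20_8, List.forall_mem_cons.2 ⟨eq20_9, List.forall_mem_cons.2 ⟨eq20_10, List.forall_mem_cons.2 ⟨eq20_11, List.forall_mem_cons.2 ⟨eq20_12, List.forall_mem_cons.2 ⟨eq20_13, List.forall_mem_cons.2 ⟨eq20_14, fun _ h => absurd h List.not_mem_nil⟩⟩⟩⟩⟩⟩⟩⟩⟩⟩⟩⟩⟩⟩⟩)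

end Cfsg.Agent.Lib.Helper5.ONOut
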