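import Cfsg.Agent.Lib.Helper5.ONOut.C21x0
import Cfsg.Agent.Lib.Helper5.ONOut.C21x1

/-! # The outer automorphism group of the O'Nan group: the element number 21 (generated) -/

set_option autoImplicit false
set_option maxRecDepth 100000

namespace Cfsg.Agent.Lib.Helper5.ONOut

open Cfsg.Agent.PF Cfsg.Agent.Lib.Helper6 Cfsg.Agent.Lib.Helper6.TC Cfsg.Agent.Lib.Helper6.NatArr Cfsg.Agent.Lib.Helper5
open Cfsg.Agent.PL (Acts evalF)

/-- the table agrees with the word -/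
theorem eq21 : ∀ q < 122760, f21 q = wordF W21 q :=
  eq_of_chunks (f := f21) (g := (fun q => f17 (f19 (f19 (f20 (f17 (f19 (f18 (f17 (f19 (f17 (f11 (f18 (f8 (f20 (f5 (f10 (f5 (f4 (f16 (f16 (q)))))))))))))))))))))) [(0, 4722), (4722, 4722), (9444, 4722), (14166, 4722), (18888, 4722), (23610, 4722), (28332, 4722), (33054, 4722), (37776, 4722), (42498, 4722), (47220, 4722), (51942, 4722), (56664, 4722), (61386, 4722), (66108, 4722), (70830, 4722), (75552, 4722), (80274, 4722), (84996, 4722), (89718, 4722), (94440, 4722), (99162, 4722), (103884, 4722), (108606, 4722), (113328, 4722), (118050, 4710)] (by decide) (List.forall_mem_cons.2 ⟨eq21_0, List.forall_mem_cons.2 ⟨eq21_1, List.forall_mem_cons.2 ⟨eq21_2, List.forall_mem_cons.2 ⟨eq21_3, List.forall_mem_cons.2 ⟨eq21_4, List.forall_mem_cons.2 ⟨eq21_5, List.forall_mem_cons.2 ⟨eq21_6, List.forall_mem_cons.2 ⟨eq21_7, List.forall_mem_cons.2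 ⟨eq21_8, List.forall_mem_cons.2 ⟨eq21_9, List.forall_mem_cons.2 ⟨eq21_10, List.forall_mem_cons.2 ⟨eq21_11, List.forall_mem_cons.2 ⟨eq21_12, List.forall_mem_cons.2 ⟨eq21_13, List.forall_mem_cons.2 ⟨eq21_14, List.forall_mem_cons.2 ⟨eq21_15, List.forall_mem_cons.2 ⟨eq21_16, List.forall_mem_cons.2 ⟨eq21_17, List.forall_mem_cons.2 ⟨eq21_18, List.forall_mem_cons.2 ⟨eq21_19, List.forall_mem_cons.2 ⟨eq21_20, List.forall_mem_cons.2 ⟨eq21_21, List.forall_mem_cons.2 ⟨eq21_22, List.forall_mem_cons.2 ⟨eq21_23, List.forall_mem_cons.2 ⟨eq21_24, List.forall_mem_cons.2 ⟨eq21_25, fun _ h => absurd h List.not_mem_nil⟩⟩⟩⟩⟩⟩⟩⟩⟩⟩⟩⟩⟩⟩⟩⟩⟩⟩⟩⟩⟩⟩⟩⟩⟩⟩)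

end Cfsg.Agent.Lib.Helper5.ONOut
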