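import Cfsg.Agent.Lib.Helper5.ONOut.C25x0

/-! # The outer automorphism group of the O'Nan group: the element number 25 (generated) -/

set_option autoImplicit false
set_option maxRecDepth 100000

namespace Cfsg.Agent.Lib.Helper5.ONOut

open Cfsg.Agent.PF Cfsg.Agent.Lib.Helper6 Cfsg.Agent.Lib.Helper6.TC Cfsg.Agent.Lib.Helper6.NatArr Cfsg.Agent.Lib.Helper5
open Cfsg.Agent.PL (Acts evalF)

/-- the table agrees with the word -/
theorem eq25 : ∀ q < 122760, f25 q = wordF W25 q :=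
  eq_of_chunks (f := f25) (g := (fun q => f16 (f16 (f23 (f8 (f16 (f8 (f8 (f24 (f24 (f8 (f24 (f23 (f16 (f8 (f23 (f8 (f8 (f8 (q)))))))))))))))))))) [(0, 5115), (5115, 5115), (10230, 5115), (15345, 5115), (20460, 5115), (25575, 5115), (30690, 5115), (35805, 5115), (40920, 5115), (46035, 5115), (51150, 5115), (56265, 5115), (61380, 5115), (66495, 5115), (71610, 5115), (76725, 5115), (81840, 5115), (86955, 5115), (92070, 5115), (97185, 5115), (102300, 5115), (107415, 5115), (112530, 5115), (117645, 5115)] (by decide) (List.forall_mem_cons.2 ⟨eq25_0, List.forall_mem_cons.2 ⟨eq25_1, List.forall_mem_cons.2 ⟨eq25_2, List.forall_mem_cons.2 ⟨eq25_3, List.forall_mem_cons.2 ⟨eq25_4, List.forall_mem_cons.2 ⟨eq25_5, List.forall_mem_cons.2 ⟨eq25_6, List.forall_mem_cons.2 ⟨eq25_7, List.forall_mem_cons.2 ⟨eq25_8, List.forall_mem_cons.2 ⟨eq25_9, List.forall_mem_cons.2 ⟨eq25_10, List.forall_mem_cons.2 ⟨eq25_11,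 List.forall_mem_cons.2 ⟨eq25_12, List.forall_mem_cons.2 ⟨eq25_13, List.forall_mem_cons.2 ⟨eq25_14, List.forall_mem_cons.2 ⟨eq25_15, List.forall_mem_cons.2 ⟨eq25_16, List.forall_mem_cons.2 ⟨eq25_17, List.forall_mem_cons.2 ⟨eq25_18, List.forall_mem_cons.2 ⟨eq25_19, List.forall_mem_cons.2 ⟨eq25_20, List.forall_mem_cons.2 ⟨eq25_21, List.forall_mem_cons.2 ⟨eq25_22, List.forall_mem_cons.2 ⟨eq25_23, fun _ h => absurd h List.not_mem_nil⟩⟩⟩⟩⟩⟩⟩⟩⟩⟩⟩⟩⟩⟩⟩⟩⟩⟩⟩⟩⟩⟩⟩⟩)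

end Cfsg.Agent.Lib.Helper5.ONOut
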