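import Cfsg.Agent.Lib.Helper5.ONOut.C26x0
import Cfsg.Agent.Lib.Helper5.ONOut.C26x1

/-! # The outer automorphism group of the O'Nan group: the element number 26 (generated) -/

set_option autoImplicit false
set_option maxRecDepth 100000

namespace Cfsg.Agent.Lib.Helper5.ONOut

open Cfsg.Agent.PF Cfsg.Agent.Lib.Helper6 Cfsg.Agent.Lib.Helper6.TC Cfsg.Agent.Lib.Helper6.NatArr Cfsg.Agent.Lib.Helper5
open Cfsg.Agent.PL (Acts evalF)

/-- the table agrees with the word -/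
theorem eq26 : ∀ q < 122760, f26 q = wordF W26 q :=
  eq_of_chunks (f := f26) (g := (fun q => f24 (f24 (f24 (f24 (f25 (f24 (f25 (f24 (f25 (f24 (f25 (f24 (f25 (f24 (f24 (f25 (f23 (f25 (f24 (f23 (f25 (f23 (f16 (f8 (f24 (f16 (f24 (f8 (f25 (f16 (f24 (f24 (f25 (q))))))))))))))))))))))))))))))))))) [(0, 2923), (2923, 2923), (5846, 2923), (8769, 2923), (11692, 2923), (14615, 2923), (17538, 2923), (20461, 2923), (23384, 2923), (26307, 2923), (29230, 2923), (32153, 2923), (35076, 2923), (37999, 2923), (40922, 2923), (43845, 2923), (46768, 2923), (49691, 2923), (52614, 2923), (55537, 2923), (58460, 2923), (61383, 2923), (64306, 2923), (67229, 2923), (70152, 2923), (73075, 2923), (75998, 2923), (78921, 2923), (81844, 2923), (84767, 2923), (87690, 2923), (90613, 2923), (93536, 2923), (96459, 2923), (99382, 2923), (102305, 2923), (105228, 2923), (108151, 2923), (111074, 2923), (113997,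 2923), (116920, 2923), (119843, 2917)] (by decide) (List.forall_mem_cons.2 ⟨eq26_0, List.forall_mem_cons.2 ⟨eq26_1, List.forall_mem_cons.2 ⟨eq26_2, List.forall_mem_cons.2 ⟨eq26_3, List.forall_mem_cons.2 ⟨eq26_4, List.forall_mem_cons.2 ⟨eq26_5, List.forall_mem_cons.2 ⟨eq26_6, List.forall_mem_cons.2 ⟨eq26_7, List.forall_mem_cons.2 ⟨eq26_8, List.forall_mem_cons.2 ⟨eq26_9, List.forall_mem_cons.2 ⟨eq26_10, List.forall_mem_cons.2 ⟨eq26_11, List.forall_mem_cons.2 ⟨eq26_12, List.forall_mem_cons.2 ⟨eq26_13, List.forall_mem_cons.2 ⟨eq26_14, List.forall_mem_cons.2 ⟨eq26_15, List.forall_mem_cons.2 ⟨eq26_16, List.forall_mem_cons.2 ⟨eq26_17, List.forall_mem_cons.2 ⟨eq26_18, List.forall_mem_cons.2 ⟨eq26_19, List.forall_mem_cons.2 ⟨eq26_20, List.forall_mem_cons.2 ⟨eq26_21, List.forall_mem_cons.2 ⟨eq26_22, List.forall_mem_cons.2 ⟨eq26_23, List.forall_mem_cons.2 ⟨eq26_24, List.forall_mem_cons.2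 ⟨eq26_25, List.forall_mem_cons.2 ⟨eq26_26, List.forall_mem_cons.2 ⟨eq26_27, List.forall_mem_cons.2 ⟨eq26_28, List.forall_mem_cons.2 ⟨eq26_29, List.forall_mem_cons.2 ⟨eq26_30, List.forall_mem_cons.2 ⟨eq26_31, List.forall_mem_cons.2 ⟨eq26_32, List.forall_mem_cons.2 ⟨eq26_33, List.forall_mem_cons.2 ⟨eq26_34, List.forall_mem_cons.2 ⟨eq26_35, List.forall_mem_cons.2 ⟨eq26_36, List.forall_mem_cons.2 ⟨eq26_37, List.forall_mem_cons.2 ⟨eq26_38, List.forall_mem_cons.2 ⟨eq26_39, List.forall_mem_cons.2 ⟨eq26_40, List.forall_mem_cons.2 ⟨eq26_41, fun _ h => absurd h List.not_mem_nil⟩⟩⟩⟩⟩⟩⟩⟩⟩⟩⟩⟩⟩⟩⟩⟩⟩⟩⟩⟩⟩⟩⟩⟩⟩⟩⟩⟩⟩⟩⟩⟩⟩⟩⟩⟩⟩⟩⟩⟩⟩⟩)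

end Cfsg.Agent.Lib.Helper5.ONOut
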