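import Cfsg.Agent.Lib.Helper5.ONOut.C27x0
import Cfsg.Agent.Lib.Helper5.ONOut.C27x1

/-! # The outer automorphism group of the O'Nan group: the element number 27 (generated) -/

set_option autoImplicit false
set_option maxRecDepth 100000

namespace Cfsg.Agent.Lib.Helper5.ONOut

open Cfsg.Agent.PF Cfsg.Agent.Lib.Helper6 Cfsg.Agent.Lib.Helper6.TC Cfsg.Agent.Lib.Helper6.NatArr Cfsg.Agent.Lib.Helper5
open Cfsg.Agent.PL (Acts evalF)

/-- the table agrees with the word -/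
theorem eq27 : ∀ q < 122760, f27 q = wordF W27 q :=
  eq_of_chunks (f := f27) (g := (fun q => f25 (f24 (f25 (f26 (f26 (f26 (f26 (f25 (f24 (f26 (f8 (f26 (f23 (f26 (f16 (f23 (f16 (f26 (f16 (f24 (f23 (f8 (f24 (f25 (f26 (f8 (f16 (q))))))))))))))))))))))))))))) [(0, 3508), (3508, 3508), (7016, 3508), (10524, 3508), (14032, 3508), (17540, 3508), (21048, 3508), (24556, 3508), (28064, 3508), (31572, 3508), (35080, 3508), (38588, 3508), (42096, 3508), (45604, 3508), (49112, 3508), (52620, 3508), (56128, 3508), (59636, 3508), (63144, 3508), (66652, 3508), (70160, 3508), (73668, 3508), (77176, 3508), (80684, 3508), (84192, 3508), (87700, 3508), (91208, 3508), (94716, 3508), (98224, 3508), (101732, 3508), (105240, 3508), (108748, 3508), (112256, 3508), (115764, 3508), (119272, 3488)] (by decide) (List.forall_mem_cons.2 ⟨eq27_0, List.forall_mem_cons.2 ⟨eq27_1, List.forall_mem_cons.2 ⟨eq27_2,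 List.forall_mem_cons.2 ⟨eq27_3, List.forall_mem_cons.2 ⟨eq27_4, List.forall_mem_cons.2 ⟨eq27_5, List.forall_mem_cons.2 ⟨eq27_6, List.forall_mem_cons.2 ⟨eq27_7, List.forall_mem_cons.2 ⟨eq27_8, List.forall_mem_cons.2 ⟨eq27_9, List.forall_mem_cons.2 ⟨eq27_10, List.forall_mem_cons.2 ⟨eq27_11, List.forall_mem_cons.2 ⟨eq27_12, List.forall_mem_cons.2 ⟨eq27_13, List.forall_mem_cons.2 ⟨eq27_14, List.forall_mem_cons.2 ⟨eq27_15, List.forall_mem_cons.2 ⟨eq27_16, List.forall_mem_cons.2 ⟨eq27_17, List.forall_mem_cons.2 ⟨eq27_18, List.forall_mem_cons.2 ⟨eq27_19, List.forall_mem_cons.2 ⟨eq27_20, List.forall_mem_cons.2 ⟨eq27_21, List.forall_mem_cons.2 ⟨eq27_22, List.forall_mem_cons.2 ⟨eq27_23, List.forall_mem_cons.2 ⟨eq27_24, List.forall_mem_cons.2 ⟨eq27_25, List.forall_mem_cons.2 ⟨eq27_26, List.forall_mem_cons.2 ⟨eq27_27, List.forall_mem_cons.2 ⟨eq27_28, List.forall_mem_cons.2 ⟨eq27_29, List.forall_mem_cons.2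 ⟨eq27_30, List.forall_mem_cons.2 ⟨eq27_31, List.forall_mem_cons.2 ⟨eq27_32, List.forall_mem_cons.2 ⟨eq27_33, List.forall_mem_cons.2 ⟨eq27_34, fun _ h => absurd h List.not_mem_nil⟩⟩⟩⟩⟩⟩⟩⟩⟩⟩⟩⟩⟩⟩⟩⟩⟩⟩⟩⟩⟩⟩⟩⟩⟩⟩⟩⟩⟩⟩⟩⟩⟩⟩⟩)

end Cfsg.Agent.Lib.Helper5.ONOut
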