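import Cfsg.Agent.Lib.Helper5.ONOut.C6x0

/-! # The outer automorphism group of the O'Nan group: the element number 6 (generated) -/

set_option autoImplicit false
set_option maxRecDepth 100000

namespace Cfsg.Agent.Lib.Helper5.ONOut

open Cfsg.Agent.PF Cfsg.Agent.Lib.Helper6 Cfsg.Agent.Lib.Helper6.TC Cfsg.Agent.Lib.Helper6.NatArr Cfsg.Agent.Lib.Helper5
open Cfsg.Agent.PL (Acts evalF)

/-- the table agrees with the column of the coset table -/
theorem eq6 : ∀ q < 122760, f6 q = fgen 6 q :=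
  eq_of_chunks (f := f6) (g := fgen 6) [(0, 24552), (24552, 24552), (49104, 24552), (73656, 24552), (98208, 24552)] (by decide) (List.forall_mem_cons.2 ⟨eq6_0, List.forall_mem_cons.2 ⟨eq6_1, List.forall_mem_cons.2 ⟨eq6_2, List.forall_mem_cons.2 ⟨eq6_3, List.forall_mem_cons.2 ⟨eq6_4, fun _ h => absurd h List.not_mem_nil⟩⟩⟩⟩⟩)

end Cfsg.Agent.Lib.Helper5.ONOut
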