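import Cfsg.Agent.Lib.Helper5.ONOut.C8x0

/-! # The outer automorphism group of the O'Nan group: the element number 8 (generated) -/

set_option autoImplicit false
set_option maxRecDepth 100000

namespace Cfsg.Agent.Lib.Helper5.ONOut

open Cfsg.Agent.PF Cfsg.Agent.Lib.Helper6 Cfsg.Agent.Lib.Helper6.TC Cfsg.Agent.Lib.Helper6.NatArr Cfsg.Agent.Lib.Helper5
open Cfsg.Agent.PL (Acts evalF)

/-- the table agrees with the word -/
theorem eq8 : ∀ q < 122760, f8 q = wordF W8 q :=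
  eq_of_chunks (f := f8) (g := (fun q => f1 (f6 (f2 (f3 (f4 (q))))))) [(0, 15345), (15345, 15345), (30690, 15345), (46035, 15345), (61380, 15345), (76725, 15345), (92070, 15345), (107415, 15345)] (by decide) (List.forall_mem_cons.2 ⟨eq8_0, List.forall_mem_cons.2 ⟨eq8_1, List.forall_mem_cons.2 ⟨eq8_2, List.forall_mem_cons.2 ⟨eq8_3, List.forall_mem_cons.2 ⟨eq8_4, List.forall_mem_cons.2 ⟨eq8_5, List.forall_mem_cons.2 ⟨eq8_6, List.forall_mem_cons.2 ⟨eq8_7, fun _ h => absurd h List.not_mem_nil⟩⟩⟩⟩⟩⟩⟩⟩)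

end Cfsg.Agent.Lib.Helper5.ONOut
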