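import Cfsg.Agent.Lib.Helper5.ONOut.C9x0

/-! # The outer automorphism group of the O'Nan group: the element number 9 (generated) -/

set_option autoImplicit false
set_option maxRecDepth 100000

namespace Cfsg.Agent.Lib.Helper5.ONOut

open Cfsg.Agent.PF Cfsg.Agent.Lib.Helper6 Cfsg.Agent.Lib.Helper6.TC Cfsg.Agent.Lib.Helper6.NatArr Cfsg.Agent.Lib.Helper5
open Cfsg.Agent.PL (Acts evalF)

/-- the table agrees with the word -/
theorem eq9 : ∀ q < 122760, f9 q = wordF W9 q :=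
  eq_of_chunks (f := f9) (g := (fun q => f1 (f0 (f3 (f4 (f4 (f1 (f7 (f7 (f7 (f6 (f3 (f1 (q)))))))))))))) [(0, 7673), (7673, 7673), (15346, 7673), (23019, 7673), (30692, 7673), (38365, 7673), (46038, 7673), (53711, 7673), (61384, 7673), (69057, 7673), (76730, 7673), (84403, 7673), (92076, 7673), (99749, 7673), (107422, 7673), (115095, 7665)] (by decide) (List.forall_mem_cons.2 ⟨eq9_0, List.forall_mem_cons.2 ⟨eq9_1, List.forall_mem_cons.2 ⟨eq9_2, List.forall_mem_cons.2 ⟨eq9_3, List.forall_mem_cons.2 ⟨eq9_4, List.forall_mem_cons.2 ⟨eq9_5, List.forall_mem_cons.2 ⟨eq9_6, List.forall_mem_cons.2 ⟨eq9_7, List.forall_mem_cons.2 ⟨eq9_8, List.forall_mem_cons.2 ⟨eq9_9, List.forall_mem_cons.2 ⟨eq9_10, List.forall_mem_cons.2 ⟨eq9_11, List.forall_mem_cons.2 ⟨eq9_12, List.forall_mem_cons.2 ⟨eq9_13, List.forall_mem_cons.2 ⟨eq9_14, List.forall_mem_cons.2 ⟨eq9_15, fun _ h => absurd h List.not_mem_nil⟩⟩⟩⟩⟩⟩⟩⟩⟩⟩⟩⟩⟩⟩⟩⟩)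

end Cfsg.Agent.Lib.Helper5.ONOut
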