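import Cfsg.Agent.Lib.Helper5.ONOut.CP0x0

/-! # The outer automorphism group of the O'Nan group: the image of the letter 0 under the outer automorphism (generated) -/

set_option autoImplicit false
set_option maxRecDepth 100000

namespace Cfsg.Agent.Lib.Helper5.ONOut

open Cfsg.Agent.PF Cfsg.Agent.Lib.Helper6 Cfsg.Agent.Lib.Helper6.TC Cfsg.Agent.Lib.Helper6.NatArr Cfsg.Agent.Lib.Helper5
open Cfsg.Agent.PL (Acts evalF)

/-- the table agrees with the word -/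
theorem eqP0 : ∀ q < 122760, p0 q = wordF WP0 q :=
  eq_of_chunks (f := p0) (g := (fun q => f14 (f13 (f15 (f13 (f11 (f10 (f15 (f13 (f12 (f15 (q)))))))))))) [(0, 8769), (8769, 8769), (17538, 8769), (26307, 8769), (35076, 8769), (43845, 8769), (52614, 8769), (61383, 8769), (70152, 8769), (78921, 8769), (87690, 8769), (96459, 8769), (105228, 8769), (113997, 8763)] (by decide) (List.forall_mem_cons.2 ⟨eqP0_0, List.forall_mem_cons.2 ⟨eqP0_1, List.forall_mem_cons.2 ⟨eqP0_2, List.forall_mem_cons.2 ⟨eqP0_3, List.forall_mem_cons.2 ⟨eqP0_4, List.forall_mem_cons.2 ⟨eqP0_5, List.forall_mem_cons.2 ⟨eqP0_6, List.forall_mem_cons.2 ⟨eqP0_7, List.forall_mem_cons.2 ⟨eqP0_8, List.forall_mem_cons.2 ⟨eqP0_9, List.forall_mem_cons.2 ⟨eqP0_10, List.forall_mem_cons.2 ⟨eqP0_11, List.forall_mem_cons.2 ⟨eqP0_12, List.forall_mem_cons.2 ⟨eqP0_13, fun _ h => absurd h List.not_mem_nil⟩⟩⟩⟩⟩⟩⟩⟩⟩⟩⟩⟩⟩⟩)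

end Cfsg.Agent.Lib.Helper5.ONOut
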