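import Cfsg.Agent.Lib.Helper5.ONOut.CP4x0

/-! # The outer automorphism group of the O'Nan group: the image of the letter 4 under the outer automorphism (generated) -/

set_option autoImplicit false
set_option maxRecDepth 100000

namespace Cfsg.Agent.Lib.Helper5.ONOut

open Cfsg.Agent.PF Cfsg.Agent.Lib.Helper6 Cfsg.Agent.Lib.Helper6.TC Cfsg.Agent.Lib.Helper6.NatArr Cfsg.Agent.Lib.Helper5
open Cfsg.Agent.PL (Acts evalF)

/-- the table agrees with the word -/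
theorem eqP4 : ∀ q < 122760, p4 q = wordF WP4 q :=
  eq_of_chunks (f := p4) (g := (fun q => f13 (f15 (f13 (f14 (f14 (f9 (f13 (f15 (f10 (f13 (f9 (f1 (f3 (f2 (f14 (f1 (f15 (q))))))))))))))))))) [(0, 5338), (5338, 5338), (10676, 5338), (16014, 5338), (21352, 5338), (26690, 5338), (32028, 5338), (37366, 5338), (42704, 5338), (48042, 5338), (53380, 5338), (58718, 5338), (64056, 5338), (69394, 5338), (74732, 5338), (80070, 5338), (85408, 5338), (90746, 5338), (96084, 5338), (101422, 5338), (106760, 5338), (112098, 5338), (117436, 5324)] (by decide) (List.forall_mem_cons.2 ⟨eqP4_0, List.forall_mem_cons.2 ⟨eqP4_1, List.forall_mem_cons.2 ⟨eqP4_2, List.forall_mem_cons.2 ⟨eqP4_3, List.forall_mem_cons.2 ⟨eqP4_4, List.forall_mem_cons.2 ⟨eqP4_5, List.forall_mem_cons.2 ⟨eqP4_6, List.forall_mem_cons.2 ⟨eqP4_7, List.forall_mem_cons.2 ⟨eqP4_8, List.forall_mem_cons.2 ⟨eqP4_9, List.forall_mem_cons.2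 ⟨eqP4_10, List.forall_mem_cons.2 ⟨eqP4_11, List.forall_mem_cons.2 ⟨eqP4_12, List.forall_mem_cons.2 ⟨eqP4_13, List.forall_mem_cons.2 ⟨eqP4_14, List.forall_mem_cons.2 ⟨eqP4_15, List.forall_mem_cons.2 ⟨eqP4_16, List.forall_mem_cons.2 ⟨eqP4_17, List.forall_mem_cons.2 ⟨eqP4_18, List.forall_mem_cons.2 ⟨eqP4_19, List.forall_mem_cons.2 ⟨eqP4_20, List.forall_mem_cons.2 ⟨eqP4_21, List.forall_mem_cons.2 ⟨eqP4_22, fun _ h => absurd h List.not_mem_nil⟩⟩⟩⟩⟩⟩⟩⟩⟩⟩⟩⟩⟩⟩⟩⟩⟩⟩⟩⟩⟩⟩⟩)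

end Cfsg.Agent.Lib.Helper5.ONOut
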