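import Cfsg.Agent.Lib.Helper5.ONOut.CP5x0

/-! # The outer automorphism group of the O'Nan group: the image of the letter 5 under the outer automorphism (generated) -/

set_option autoImplicit false
set_option maxRecDepth 100000

namespace Cfsg.Agent.Lib.Helper5.ONOut

open Cfsg.Agent.PF Cfsg.Agent.Lib.Helper6 Cfsg.Agent.Lib.Helper6.TC Cfsg.Agent.Lib.Helper6.NatArr Cfsg.Agent.Lib.Helper5
open Cfsg.Agent.PL (Acts evalF)

/-- the table agrees with the word -/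
theorem eqP5 : ∀ q < 122760, p5 q = wordF WP5 q :=
  eq_of_chunks (f := p5) (g := (fun q => f13 (f15 (f13 (f15 (f9 (f10 (f13 (f13 (f10 (f12 (f15 (f1 (f4 (f8 (f5 (f11 (q)))))))))))))))))) [(0, 5846), (5846, 5846), (11692, 5846), (17538, 5846), (23384, 5846), (29230, 5846), (35076, 5846), (40922, 5846), (46768, 5846), (52614, 5846), (58460, 5846), (64306, 5846), (70152, 5846), (75998, 5846), (81844, 5846), (87690, 5846), (93536, 5846), (99382, 5846), (105228, 5846), (111074, 5846), (116920, 5840)] (by decide) (List.forall_mem_cons.2 ⟨eqP5_0, List.forall_mem_cons.2 ⟨eqP5_1, List.forall_mem_cons.2 ⟨eqP5_2, List.forall_mem_cons.2 ⟨eqP5_3, List.forall_mem_cons.2 ⟨eqP5_4, List.forall_mem_cons.2 ⟨eqP5_5, List.forall_mem_cons.2 ⟨eqP5_6, List.forall_mem_cons.2 ⟨eqP5_7, List.forall_mem_cons.2 ⟨eqP5_8, List.forall_mem_cons.2 ⟨eqP5_9, List.forall_mem_cons.2 ⟨eqP5_10, List.forall_mem_cons.2 ⟨eqP5_11,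 List.forall_mem_cons.2 ⟨eqP5_12, List.forall_mem_cons.2 ⟨eqP5_13, List.forall_mem_cons.2 ⟨eqP5_14, List.forall_mem_cons.2 ⟨eqP5_15, List.forall_mem_cons.2 ⟨eqP5_16, List.forall_mem_cons.2 ⟨eqP5_17, List.forall_mem_cons.2 ⟨eqP5_18, List.forall_mem_cons.2 ⟨eqP5_19, List.forall_mem_cons.2 ⟨eqP5_20, fun _ h => absurd h List.not_mem_nil⟩⟩⟩⟩⟩⟩⟩⟩⟩⟩⟩⟩⟩⟩⟩⟩⟩⟩⟩⟩⟩)

end Cfsg.Agent.Lib.Helper5.ONOut
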