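import Cfsg.Agent.Lib.Helper5.ONOut.CP6x0

/-! # The outer automorphism group of the O'Nan group: the image of the letter 6 under the outer automorphism (generated) -/

set_option autoImplicit false
set_option maxRecDepth 100000

namespace Cfsg.Agent.Lib.Helper5.ONOut

open Cfsg.Agent.PF Cfsg.Agent.Lib.Helper6 Cfsg.Agent.Lib.Helper6.TC Cfsg.Agent.Lib.Helper6.NatArr Cfsg.Agent.Lib.Helper5
open Cfsg.Agent.PL (Acts evalF)

/-- the table agrees with the word -/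
theorem eqP6 : ∀ q < 122760, p6 q = wordF WP6 q :=
  eq_of_chunks (f := p6) (g := (fun q => f13 (f13 (f14 (f13 (f9 (f11 (f10 (f15 (f9 (f10 (f11 (f8 (f2 (f4 (q)))))))))))))))) [(0, 6462), (6462, 6462), (12924, 6462), (19386, 6462), (25848, 6462), (32310, 6462), (38772, 6462), (45234, 6462), (51696, 6462), (58158, 6462), (64620, 6462), (71082, 6462), (77544, 6462), (84006, 6462), (90468, 6462), (96930, 6462), (103392, 6462), (109854, 6462), (116316, 6444)] (by decide) (List.forall_mem_cons.2 ⟨eqP6_0, List.forall_mem_cons.2 ⟨eqP6_1, List.forall_mem_cons.2 ⟨eqP6_2, List.forall_mem_cons.2 ⟨eqP6_3, List.forall_mem_cons.2 ⟨eqP6_4, List.forall_mem_cons.2 ⟨eqP6_5, List.forall_mem_cons.2 ⟨eqP6_6, List.forall_mem_cons.2 ⟨eqP6_7, List.forall_mem_cons.2 ⟨eqP6_8, List.forall_mem_cons.2 ⟨eqP6_9, List.forall_mem_cons.2 ⟨eqP6_10, List.forall_mem_cons.2 ⟨eqP6_11, List.forall_mem_cons.2 ⟨eqP6_12, List.forall_mem_cons.2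 ⟨eqP6_13, List.forall_mem_cons.2 ⟨eqP6_14, List.forall_mem_cons.2 ⟨eqP6_15, List.forall_mem_cons.2 ⟨eqP6_16, List.forall_mem_cons.2 ⟨eqP6_17, List.forall_mem_cons.2 ⟨eqP6_18, fun _ h => absurd h List.not_mem_nil⟩⟩⟩⟩⟩⟩⟩⟩⟩⟩⟩⟩⟩⟩⟩⟩⟩⟩⟩)

end Cfsg.Agent.Lib.Helper5.ONOut
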