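import Cfsg.Agent.Lib.Helper5.ONOut.CP7x0

/-! # The outer automorphism group of the O'Nan group: the image of the letter 7 under the outer automorphism (generated) -/

set_option autoImplicit false
set_option maxRecDepth 100000

namespace Cfsg.Agent.Lib.Helper5.ONOut

open Cfsg.Agent.PF Cfsg.Agent.Lib.Helper6 Cfsg.Agent.Lib.Helper6.TC Cfsg.Agent.Lib.Helper6.NatArr Cfsg.Agent.Lib.Helper5
open Cfsg.Agent.PL (Acts evalF)

/-- the table agrees with the word -/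
theorem eqP7 : ∀ q < 122760, p7 q = wordF WP7 q :=
  eq_of_chunks (f := p7) (g := (fun q => f13 (f13 (f14 (f11 (f10 (f15 (f9 (f14 (f12 (f1 (f4 (f5 (f14 (f14 (f4 (q))))))))))))))))) [(0, 6138), (6138, 6138), (12276, 6138), (18414, 6138), (24552, 6138), (30690, 6138), (36828, 6138), (42966, 6138), (49104, 6138), (55242, 6138), (61380, 6138), (67518, 6138), (73656, 6138), (79794, 6138), (85932, 6138), (92070, 6138), (98208, 6138), (104346, 6138), (110484, 6138), (116622, 6138)] (by decide) (List.forall_mem_cons.2 ⟨eqP7_0, List.forall_mem_cons.2 ⟨eqP7_1, List.forall_mem_cons.2 ⟨eqP7_2, List.forall_mem_cons.2 ⟨eqP7_3, List.forall_mem_cons.2 ⟨eqP7_4, List.forall_mem_cons.2 ⟨eqP7_5, List.forall_mem_cons.2 ⟨eqP7_6, List.forall_mem_cons.2 ⟨eqP7_7, List.forall_mem_cons.2 ⟨eqP7_8, List.forall_mem_cons.2 ⟨eqP7_9, List.forall_mem_cons.2 ⟨eqP7_10, List.forall_mem_cons.2 ⟨eqP7_11, List.forall_mem_cons.2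 ⟨eqP7_12, List.forall_mem_cons.2 ⟨eqP7_13, List.forall_mem_cons.2 ⟨eqP7_14, List.forall_mem_cons.2 ⟨eqP7_15, List.forall_mem_cons.2 ⟨eqP7_16, List.forall_mem_cons.2 ⟨eqP7_17, List.forall_mem_cons.2 ⟨eqP7_18, List.forall_mem_cons.2 ⟨eqP7_19, fun _ h => absurd h List.not_mem_nil⟩⟩⟩⟩⟩⟩⟩⟩⟩⟩⟩⟩⟩⟩⟩⟩⟩⟩⟩⟩)

end Cfsg.Agent.Lib.Helper5.ONOut
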