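import Cfsg.Agent.Lib.Helper5.ONOut.Base
import Cfsg.Agent.Lib.Helper5.ONOut.T0
import Cfsg.Agent.Lib.Helper5.ONOut.T1
import Cfsg.Agent.Lib.Helper5.ONOut.T2
import Cfsg.Agent.Lib.Helper5.ONOut.T3
import Cfsg.Agent.Lib.Helper5.ONOut.T4
import Cfsg.Agent.Lib.Helper5.ONOut.T5
import Cfsg.Agent.Lib.Helper5.ONOut.T6
import Cfsg.Agent.Lib.Helper5.ONOut.T7
import Cfsg.Agent.Lib.Helper5.ONOut.T8
import Cfsg.Agent.Lib.Helper5.ONOut.T9
import Cfsg.Agent.Lib.Helper5.ONOut.T10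
import Cfsg.Agent.Lib.Helper5.ONOut.T11
import Cfsg.Agent.Lib.Helper5.ONOut.T12
import Cfsg.Agent.Lib.Helper5.ONOut.T13
import Cfsg.Agent.Lib.Helper5.ONOut.T14
import Cfsg.Agent.Lib.Helper5.ONOut.T15
import Cfsg.Agent.Lib.Helper5.ONOut.T16
import Cfsg.Agent.Lib.Helper5.ONOut.T17
import Cfsg.Agent.Lib.Helper5.ONOut.T18
import Cfsg.Agent.Lib.Helper5.ONOut.T19
import Cfsg.Agent.Lib.Helper5.ONOut.T20
import Cfsg.Agent.Lib.Helper5.ONOut.T21
import Cfsg.Agent.Lib.Helper5.ONOut.T22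
import Cfsg.Agent.Lib.Helper5.ONOut.T23
import Cfsg.Agent.Lib.Helper5.ONOut.T24
import Cfsg.Agent.Lib.Helper5.ONOut.T25
import Cfsg.Agent.Lib.Helper5.ONOut.T26
import Cfsg.Agent.Lib.Helper5.ONOut.T27
import Cfsg.Agent.Lib.Helper5.ONOut.LevA
import Cfsg.Agent.Lib.Helper5.ONOut.LevB
import Cfsg.Agent.Lib.Helper5.ONOut.LevG
import Cfsg.Agent.Lib.Helper5.ONOut.TP0
import Cfsg.Agent.Lib.Helper5.ONOut.TP1
import Cfsg.Agent.Lib.Helper5.ONOut.TP2
import Cfsg.Agent.Lib.Helper5.ONOut.TP3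
import Cfsg.Agent.Lib.Helper5.ONOut.TP4
import Cfsg.Agent.Lib.Helper5.ONOut.TP5
import Cfsg.Agent.Lib.Helper5.ONOut.TP6
import Cfsg.Agent.Lib.Helper5.ONOut.TP7

/-! # The outer automorphism group of the O'Nan group: the tables are actions of elements of the permutation group (generated) -/

set_option autoImplicit false
set_option maxRecDepth 100000

namespace Cfsg.Agent.Lib.Helper5.ONOut

open Cfsg.Agent.PF Cfsg.Agent.Lib.Helper6 Cfsg.Agent.Lib.Helper6.TC Cfsg.Agent.Lib.Helper6.NatArr Cfsg.Agent.Lib.Helper5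
open Cfsg.Agent.PL (Acts evalF)

theorem rep0 : Rep P f0 := (rep_fgen (i := 0) (by norm_num)).congr eq0

theorem actsP0 : Acts (gP 0) f0 := Cfsg.Agent.PF.Acts.congr (acts_fgen (i := 0) (by norm_num)) eq0

theorem rep1 : Rep P f1 := (rep_fgen (i := 1) (by norm_num)).congr eq1

theorem actsP1 : Acts (gP 1) f1 := Cfsg.Agent.PF.Acts.congr (acts_fgen (i := 1) (by norm_num)) eq1

theorem rep2 : Rep P f2 := (rep_fgen (i := 2) (by norm_num)).congr eq2

theorem actsP2 : Acts (gP 2) f2 := Cfsg.Agent.PF.Acts.congr (acts_fgen (i := 2) (by norm_num)) eq2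

theorem rep3 : Rep P f3 := (rep_fgen (i := 3) (by norm_num)).congr eq3

theorem actsP3 : Acts (gP 3) f3 := Cfsg.Agent.PF.Acts.congr (acts_fgen (i := 3) (by norm_num)) eq3

theorem rep4 : Rep P f4 := (rep_fgen (i := 4) (by norm_num)).congr eq4

theorem actsP4 : Acts (gP 4) f4 := Cfsg.Agent.PF.Acts.congr (acts_fgen (i := 4) (by norm_num)) eq4

theorem rep5 : Rep P f5 := (rep_fgen (i := 5) (by norm_num)).congr eq5

theorem actsP5 : Acts (gP 5) f5 := Cfsg.Agent.PF.Acts.congr (acts_fgen (i := 5) (by norm_num)) eq5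

theorem rep6 : Rep P f6 := (rep_fgen (i := 6) (by norm_num)).congr eq6

theorem actsP6 : Acts (gP 6) f6 := Cfsg.Agent.PF.Acts.congr (acts_fgen (i := 6) (by norm_num)) eq6

theorem rep7 : Rep P f7 := (rep_fgen (i := 7) (by norm_num)).congr eq7

theorem actsP7 : Acts (gP 7) f7 := Cfsg.Agent.PF.Acts.congr (acts_fgen (i := 7) (by norm_num)) eq7

theorem rep8 : Rep P f8 :=
  (rep_wordF (l := W8) (Reps.cons rep1 (Reps.cons rep6 (Reps.cons rep2 (Reps.cons rep3 (Reps.cons rep4 (Reps.nil P))))))).congr eq8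

theorem rep9 : Rep P f9 :=
  (rep_wordF (l := W9) (Reps.cons rep1 (Reps.cons rep0 (Reps.cons rep3 (Reps.cons rep4 (Reps.cons rep4 (Reps.cons rep1 (Reps.cons rep7 (Reps.cons rep7 (Reps.cons rep7 (Reps.cons rep6 (Reps.cons rep3 (Reps.cons rep1 (Reps.nil P)))))))))))))).congr eq9

theorem rep10 : Rep P f10 :=
  (rep_wordF (l := W10) (Reps.cons rep1 (Reps.cons rep3 (Reps.cons rep4 (Reps.cons rep9 (Reps.cons rep6 (Reps.cons rep9 (Reps.cons rep0 (Reps.cons rep7 (Reps.cons rep4 (Reps.cons rep3 (Reps.cons rep9 (Reps.cons rep1 (Reps.nil P)))))))))))))).congr eq10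

theorem rep11 : Rep P f11 :=
  (rep_wordF (l := W11) (Reps.cons rep1 (Reps.cons rep0 (Reps.cons rep0 (Reps.cons rep0 (Reps.cons rep0 (Reps.cons rep10 (Reps.cons rep8 (Reps.cons rep0 (Reps.cons rep6 (Reps.cons rep10 (Reps.nil P)))))))))))).congr eq11

theorem rep12 : Rep P f12 :=
  (rep_wordF (l := W12) (Reps.cons rep2 (Reps.cons rep1 (Reps.cons rep4 (Reps.cons rep8 (Reps.cons rep8 (Reps.cons rep6 (Reps.cons rep3 (Reps.cons rep7 (Reps.cons rep4 (Reps.cons rep0 (Reps.cons rep6 (Reps.cons rep8 (Reps.cons rep10 (Reps.cons rep1 (Reps.cons rep2 (Reps.nil P))))))))))))))))).congr eq12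

theorem rep13 : Rep P f13 :=
  (rep_wordF (l := W13) (Reps.cons rep10 (Reps.cons rep11 (Reps.cons rep12 (Reps.cons rep10 (Reps.cons rep12 (Reps.cons rep12 (Reps.cons rep10 (Reps.cons rep11 (Reps.cons rep11 (Reps.cons rep1 (Reps.cons rep0 (Reps.cons rep2 (Reps.cons rep12 (Reps.cons rep2 (Reps.cons rep9 (Reps.cons rep11 (Reps.cons rep11 (Reps.cons rep4 (Reps.cons rep1 (Reps.cons rep11 (Reps.cons rep5 (Reps.cons rep11 (Reps.cons rep11 (Reps.cons rep8 (Reps.nil P)))))))))))))))))))))))))).congr eq13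

theorem rep14 : Rep P f14 :=
  (rep_wordF (l := W14) (Reps.cons rep9 (Reps.cons rep11 (Reps.cons rep13 (Reps.cons rep12 (Reps.cons rep10 (Reps.cons rep13 (Reps.cons rep9 (Reps.cons rep10 (Reps.cons rep3 (Reps.cons rep12 (Reps.cons rep5 (Reps.cons rep4 (Reps.cons rep13 (Reps.cons rep6 (Reps.cons rep8 (Reps.cons rep13 (Reps.cons rep10 (Reps.cons rep3 (Reps.cons rep4 (Reps.cons rep4 (Reps.cons rep9 (Reps.nil P))))))))))))))))))))))).congr eq14

theorem rep15 : Rep P f15 :=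
  (rep_wordF (l := W15) (Reps.cons rep9 (Reps.cons rep11 (Reps.cons rep12 (Reps.cons rep12 (Reps.cons rep9 (Reps.cons rep12 (Reps.cons rep4 (Reps.cons rep12 (Reps.cons rep11 (Reps.cons rep12 (Reps.cons rep0 (Reps.cons rep7 (Reps.cons rep13 (Reps.cons rep8 (Reps.cons rep6 (Reps.cons rep9 (Reps.cons rep13 (Reps.cons rep0 (Reps.cons rep7 (Reps.nil P))))))))))))))))))))).congr eq15

theorem rep16 : Rep P f16 :=
  (rep_wordF (l := W16) (Reps.cons rep15 (Reps.cons rep13 (Reps.cons rep13 (Reps.cons rep14 (Reps.cons rep9 (Reps.cons rep10 (Reps.cons rep13 (Reps.cons rep9 (Reps.cons rep12 (Reps.cons rep11 (Reps.cons rep4 (Reps.cons rep6 (Reps.cons rep14 (Reps.cons rep7 (Reps.cons rep13 (Reps.nil P))))))))))))))))).congr eq16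

theorem rep17 : Rep P f17 :=
  (rep_wordF (l := W17) (Reps.cons rep11 (Reps.cons rep3 (Reps.cons rep2 (Reps.cons rep1 (Reps.cons rep1 (Reps.cons rep2 (Reps.cons rep2 (Reps.cons rep11 (Reps.cons rep5 (Reps.cons rep9 (Reps.nil P)))))))))))).congr eq17

theorem rep18 : Rep P f18 :=
  (rep_wordF (l := W18) (Reps.cons rep6 (Reps.cons rep16 (Reps.cons rep16 (Reps.cons rep8 (Reps.cons rep6 (Reps.cons rep1 (Reps.cons rep1 (Reps.cons rep5 (Reps.cons rep13 (Reps.cons rep12 (Reps.cons rep16 (Reps.cons rep11 (Reps.nil P)))))))))))))).congr eq18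

theorem rep19 : Rep P f19 :=
  (rep_wordF (l := W19) (Reps.cons rep18 (Reps.cons rep18 (Reps.cons rep17 (Reps.cons rep18 (Reps.cons rep17 (Reps.cons rep18 (Reps.cons rep17 (Reps.cons rep18 (Reps.cons rep17 (Reps.cons rep17 (Reps.cons rep18 (Reps.cons rep17 (Reps.cons rep6 (Reps.cons rep1 (Reps.cons rep4 (Reps.cons rep16 (Reps.cons rep1 (Reps.cons rep14 (Reps.cons rep16 (Reps.cons rep8 (Reps.cons rep1 (Reps.cons rep0 (Reps.cons rep11 (Reps.nil P))))))))))))))))))))))))).congr eq19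

theorem rep20 : Rep P f20 :=
  (rep_wordF (l := W20) (Reps.cons rep17 (Reps.cons rep18 (Reps.cons rep17 (Reps.cons rep19 (Reps.cons rep18 (Reps.cons rep18 (Reps.cons rep18 (Reps.cons rep19 (Reps.cons rep17 (Reps.cons rep19 (Reps.cons rep17 (Reps.nil P))))))))))))).congr eq20

theorem rep21 : Rep P f21 :=
  (rep_wordF (l := W21) (Reps.cons rep17 (Reps.cons rep19 (Reps.cons rep19 (Reps.cons rep20 (Reps.cons rep17 (Reps.cons rep19 (Reps.cons rep18 (Reps.cons rep17 (Reps.cons rep19 (Reps.cons rep17 (Reps.cons rep11 (Reps.cons rep18 (Reps.cons rep8 (Reps.cons rep20 (Reps.cons rep5 (Reps.cons rep10 (Reps.cons rep5 (Reps.cons rep4 (Reps.cons rep16 (Reps.cons rep16 (Reps.nil P)))))))))))))))))))))).congr eq21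

theorem rep22 : Rep P f22 :=
  (rep_wordF (l := W22) (Reps.cons rep17 (Reps.cons rep20 (Reps.cons rep18 (Reps.cons rep21 (Reps.cons rep21 (Reps.cons rep17 (Reps.cons rep21 (Reps.cons rep17 (Reps.cons rep8 (Reps.cons rep4 (Reps.cons rep12 (Reps.cons rep18 (Reps.cons rep11 (Reps.cons rep18 (Reps.cons rep11 (Reps.cons rep11 (Reps.cons rep14 (Reps.cons rep5 (Reps.nil P)))))))))))))))))))).congr eq22

theorem rep23 : Rep P f23 :=
  (rep_wordF (l := W23) (Reps.cons rep14 (Reps.cons rep13 (Reps.cons rep13 (Reps.cons rep14 (Reps.cons rep11 (Reps.cons rep10 (Reps.cons rep14 (Reps.cons rep14 (Reps.cons rep9 (Reps.cons rep11 (Reps.cons rep2 (Reps.cons rep1 (Reps.cons rep13 (Reps.cons rep4 (Reps.cons rep7 (Reps.nil P))))))))))))))))).congr eq23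

/-- the element `x` of order 31, as the image of a word -/
noncomputable def x : Equiv.Perm (Fin 122760) := ONTC.data.ρ (SimpG.wordG ONTC.data [1, 7, 2, 3, 4])
/-- the element `y` normalising `⟨x⟩` -/
noncomputable def y : Equiv.Perm (Fin 122760) := Classical.choose rep16
/-- the element `w` normalising `⟨y⟩` -/
noncomputable def w : Equiv.Perm (Fin 122760) := Classical.choose rep23

theorem hx : x ∈ P := ⟨_, rfl⟩
theorem hy : y ∈ P := (Classical.choose_spec rep16).1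
theorem hw : w ∈ P := (Classical.choose_spec rep23).1

theorem x_eq : x = gP 1 * (gP 6 * (gP 2 * (gP 3 * (gP 4 * (1))))) :=
  GenBridge.ρ_wordG_prod ONTC.data [1, 7, 2, 3, 4] (by decide)

theorem ax : Acts x f8 := by
  rw [x_eq]
  have h := (actsP1.mul (actsP6.mul (actsP2.mul (actsP3.mul (actsP4.mul (Cfsg.Agent.PL.Acts.one (n := 122760)))))))
  exact Cfsg.Agent.PF.Acts.congr h eq8
theorem ay : Acts y f16 := (Classical.choose_spec rep16).2
theorem aw : Acts w f23 := (Classical.choose_spec rep23).2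

/-- the subgroup generated by `x`, `y`, `w` -/
noncomputable abbrev K : Subgroup (Equiv.Perm (Fin 122760)) := Subgroup.closure {x, y, w}

theorem repK8 : Rep K f8 := ⟨x, Subgroup.subset_closure (by simp), ax⟩
theorem repK16 : Rep K f16 := ⟨y, Subgroup.subset_closure (by simp), ay⟩
theorem repK23 : Rep K f23 := ⟨w, Subgroup.subset_closure (by simp), aw⟩

theorem rep24 : Rep K f24 :=
  (rep_wordF (l := W24) (Reps.cons repK23 (Reps.cons repK8 (Reps.cons repK8 (Reps.cons repK23 (Reps.cons repK8 (Reps.cons repK16 (Reps.cons repK23 (Reps.cons repK8 (Reps.cons repK16 (Reps.cons repK23 (Reps.cons repK16 (Reps.cons repK16 (Reps.cons repK8 (Reps.cons repK16 (Reps.cons repK16 (Reps.cons repK16 (Reps.cons repK23 (Reps.cons repK16 (Reps.cons repK8 (Reps.cons repK8 (Reps.cons repK16 (Reps.nil K))))))))))))))))))))))).congr eq24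

theorem rep25 : Rep K f25 :=
  (rep_wordF (l := W25) (Reps.cons repK16 (Reps.cons repK16 (Reps.cons repK23 (Reps.cons repK8 (Reps.cons repK16 (Reps.cons repK8 (Reps.cons repK8 (Reps.cons rep24 (Reps.cons rep24 (Reps.cons repK8 (Reps.cons rep24 (Reps.cons repK23 (Reps.cons repK16 (Reps.cons repK8 (Reps.cons repK23 (Reps.cons repK8 (Reps.cons repK8 (Reps.cons repK8 (Reps.nil K)))))))))))))))))))).congr eq25

theorem rep26 : Rep K f26 :=
  (rep_wordF (l := W26) (Reps.cons rep24 (Reps.cons rep24 (Reps.cons rep24 (Reps.cons rep24 (Reps.cons rep25 (Reps.cons rep24 (Reps.cons rep25 (Reps.cons rep24 (Reps.cons rep25 (Reps.cons rep24 (Reps.cons rep25 (Reps.cons rep24 (Reps.cons rep25 (Reps.cons rep24 (Reps.cons rep24 (Reps.cons rep25 (Reps.cons repK23 (Reps.cons rep25 (Reps.cons rep24 (Reps.cons repK23 (Reps.cons rep25 (Reps.cons repK23 (Reps.cons repK16 (Reps.cons repK8 (Reps.cons rep24 (Reps.cons repK16 (Reps.cons rep24 (Reps.cons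 repK8 (Reps.cons rep25 (Reps.cons repK16 (Reps.cons rep24 (Reps.cons rep24 (Reps.cons rep25 (Reps.nil K))))))))))))))))))))))))))))))))))).congr eq26

theorem rep27 : Rep K f27 :=
  (rep_wordF (l := W27) (Reps.cons rep25 (Reps.cons rep24 (Reps.cons rep25 (Reps.cons rep26 (Reps.cons rep26 (Reps.cons rep26 (Reps.cons rep26 (Reps.cons rep25 (Reps.cons rep24 (Reps.cons rep26 (Reps.cons repK8 (Reps.cons rep26 (Reps.cons repK23 (Reps.cons rep26 (Reps.cons repK16 (Reps.cons repK23 (Reps.cons repK16 (Reps.cons rep26 (Reps.cons repK16 (Reps.cons rep24 (Reps.cons repK23 (Reps.cons repK8 (Reps.cons rep24 (Reps.cons rep25 (Reps.cons rep26 (Reps.cons repK8 (Reps.cons repK16 (Reps.nil K))))))))))))))))))))))))))))).congr eq27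

theorem repsA0 : Reps P LA0.2.1 :=
  (Reps.cons rep0 (Reps.cons rep1 (Reps.cons rep2 (Reps.cons rep3 (Reps.cons rep4 (Reps.cons rep5 (Reps.cons rep6 (Reps.cons rep7 (Reps.cons rep8 (Reps.cons rep9 (Reps.cons rep10 (Reps.cons rep11 (Reps.cons rep12 (Reps.cons rep13 (Reps.cons rep14 (Reps.cons rep15 (Reps.nil P)))))))))))))))))

theorem repsA1 : Reps P LA1.2.1 :=
  (Reps.cons rep9 (Reps.cons rep10 (Reps.cons rep11 (Reps.cons rep12 (Reps.cons rep13 (Reps.cons rep14 (Reps.cons rep15 (Reps.nil P))))))))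

theorem repsA2 : Reps P LA2.2.1 :=
  (Reps.cons rep13 (Reps.cons rep14 (Reps.cons rep15 (Reps.nil P))))

theorem hA : ∀ L ∈ LA0 :: LsA, ∀ c ∈ L.2.1, Rep P c := by
  intro L hL
  simp only [LsA, List.mem_cons, List.not_mem_nil, or_false] at hL
  rcases hL with rfl | rfl | rfl
  · exact repsA0
  · exact repsA1
  · exact repsA2

theorem repsB0 : Reps P LB0.2.1 :=
  (Reps.cons rep0 (Reps.cons rep1 (Reps.cons rep2 (Reps.cons rep3 (Reps.cons rep4 (Reps.cons rep5 (Reps.cons rep6 (Reps.cons rep7 (Reps.cons rep8 (Reps.cons rep9 (Reps.cons rep10 (Reps.cons rep11 (Reps.cons rep12 (Reps.cons rep13 (Reps.cons rep14 (Reps.cons rep15 (Reps.cons rep16 (Reps.cons rep17 (Reps.cons rep18 (Reps.cons rep19 (Reps.cons rep20 (Reps.cons rep21 (Reps.cons rep22 (Reps.nil P))))))))))))))))))))))))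

theorem repsB1 : Reps P LB1.2.1 :=
  (Reps.cons rep17 (Reps.cons rep18 (Reps.cons rep19 (Reps.cons rep20 (Reps.cons rep21 (Reps.cons rep22 (Reps.nil P)))))))

theorem repsB2 : Reps P LB2.2.1 :=
  (Reps.cons rep19 (Reps.cons rep20 (Reps.cons rep21 (Reps.cons rep22 (Reps.nil P)))))

theorem hB : ∀ L ∈ LB0 :: LsB, ∀ c ∈ L.2.1, Rep P c := by
  intro L hL
  simp only [LsB, List.mem_cons, List.not_mem_nil, or_false] at hL
  rcases hL with rfl | rfl | rfl
  · exact repsB0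
  · exact repsB1
  · exact repsB2

theorem repsG0 : Reps K LG0.2.1 :=
  (Reps.cons repK8 (Reps.cons repK16 (Reps.cons repK23 (Reps.cons rep24 (Reps.cons rep25 (Reps.cons rep26 (Reps.cons rep27 (Reps.nil K))))))))

theorem repsG1 : Reps K LG1.2.1 :=
  (Reps.cons rep24 (Reps.cons rep25 (Reps.cons rep26 (Reps.cons rep27 (Reps.nil K)))))

theorem repsG2 : Reps K LG2.2.1 :=
  (Reps.cons rep26 (Reps.cons rep27 (Reps.nil K)))

theorem hG : ∀ L ∈ LG0 :: LsG, ∀ c ∈ L.2.1, Rep K c := by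
  intro L hL
  simp only [LsG, List.mem_cons, List.not_mem_nil, or_false] at hL
  rcases hL with rfl | rfl | rfl
  · exact repsG0
  · exact repsG1
  · exact repsG2

theorem repP0 : Rep P p0 :=
  (rep_wordF (l := WP0) (Reps.cons rep14 (Reps.cons rep13 (Reps.cons rep15 (Reps.cons rep13 (Reps.cons rep11 (Reps.cons rep10 (Reps.cons rep15 (Reps.cons rep13 (Reps.cons rep12 (Reps.cons rep15 (Reps.nil P)))))))))))).congr eqP0

theorem repP1 : Rep P p1 :=
  (rep_wordF (l := WP1) (Reps.cons rep13 (Reps.cons rep13 (Reps.cons rep14 (Reps.cons rep14 (Reps.cons rep13 (Reps.cons rep11 (Reps.cons rep14 (Reps.cons rep11 (Reps.cons rep15 (Reps.cons rep11 (Reps.cons rep11 (Reps.cons rep14 (Reps.cons rep1 (Reps.cons rep0 (Reps.cons rep14 (Reps.cons rep3 (Reps.cons rep13 (Reps.cons rep1 (Reps.nil P)))))))))))))))))))).congr eqP1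

theorem repP2 : Rep P p2 :=
  (rep_wordF (l := WP2) (Reps.cons rep13 (Reps.cons rep14 (Reps.cons rep13 (Reps.cons rep13 (Reps.cons rep15 (Reps.cons rep12 (Reps.cons rep12 (Reps.cons rep9 (Reps.cons rep13 (Reps.cons rep11 (Reps.cons rep2 (Reps.cons rep12 (Reps.cons rep5 (Reps.cons rep12 (Reps.cons rep3 (Reps.nil P))))))))))))))))).congr eqP2

theorem repP3 : Rep P p3 :=
  (rep_wordF (l := WP3) (Reps.cons rep14 (Reps.cons rep15 (Reps.cons rep15 (Reps.cons rep13 (Reps.cons rep13 (Reps.cons rep12 (Reps.cons rep14 (Reps.cons rep12 (Reps.cons rep14 (Reps.cons rep14 (Reps.cons rep10 (Reps.nil P))))))))))))).congr eqP3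

theorem repP4 : Rep P p4 :=
  (rep_wordF (l := WP4) (Reps.cons rep13 (Reps.cons rep15 (Reps.cons rep13 (Reps.cons rep14 (Reps.cons rep14 (Reps.cons rep9 (Reps.cons rep13 (Reps.cons rep15 (Reps.cons rep10 (Reps.cons rep13 (Reps.cons rep9 (Reps.cons rep1 (Reps.cons rep3 (Reps.cons rep2 (Reps.cons rep14 (Reps.cons rep1 (Reps.cons rep15 (Reps.nil P))))))))))))))))))).congr eqP4

theorem repP5 : Rep P p5 :=
  (rep_wordF (l := WP5) (Reps.cons rep13 (Reps.cons rep15 (Reps.cons rep13 (Reps.cons rep15 (Reps.cons rep9 (Reps.cons rep10 (Reps.cons rep13 (Reps.cons rep13 (Reps.cons rep10 (Reps.cons rep12 (Reps.cons rep15 (Reps.cons rep1 (Reps.cons rep4 (Reps.cons rep8 (Reps.cons rep5 (Reps.cons rep11 (Reps.nil P)))))))))))))))))).congr eqP5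

theorem repP6 : Rep P p6 :=
  (rep_wordF (l := WP6) (Reps.cons rep13 (Reps.cons rep13 (Reps.cons rep14 (Reps.cons rep13 (Reps.cons rep9 (Reps.cons rep11 (Reps.cons rep10 (Reps.cons rep15 (Reps.cons rep9 (Reps.cons rep10 (Reps.cons rep11 (Reps.cons rep8 (Reps.cons rep2 (Reps.cons rep4 (Reps.nil P)))))))))))))))).congr eqP6

theorem repP7 : Rep P p7 :=
  (rep_wordF (l := WP7) (Reps.cons rep13 (Reps.cons rep13 (Reps.cons rep14 (Reps.cons rep11 (Reps.cons rep10 (Reps.cons rep15 (Reps.cons rep9 (Reps.cons rep14 (Reps.cons rep12 (Reps.cons rep1 (Reps.cons rep4 (Reps.cons rep5 (Reps.cons rep14 (Reps.cons rep14 (Reps.cons rep4 (Reps.nil P))))))))))))))))).congr eqP7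


end Cfsg.Agent.Lib.Helper5.ONOut
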