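import Cfsg.Agent.Lib.Helper5.ONOut.C22x0

/-! # The outer automorphism group of the O'Nan group: the element number 22 (generated) -/

set_option autoImplicit false
set_option maxRecDepth 100000

namespace Cfsg.Agent.Lib.Helper5.ONOut

open Cfsg.Agent.PF Cfsg.Agent.Lib.Helper6 Cfsg.Agent.Lib.Helper6.TC Cfsg.Agent.Lib.Helper6.NatArr Cfsg.Agent.Lib.Helper5
open Cfsg.Agent.PL (Acts evalF)

/-- the table agrees with the word -/
theorem eq22 : ∀ q < 122760, f22 q = wordF W22 q :=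
  eq_of_chunks (f := f22) (g := (fun q => f17 (f20 (f18 (f21 (f21 (f17 (f21 (f17 (f8 (f4 (f12 (f18 (f11 (f18 (f11 (f11 (f14 (f5 (q)))))))))))))))))))) [(0, 5115), (5115, 5115), (10230, 5115), (15345, 5115), (20460, 5115), (25575, 5115), (30690, 5115), (35805, 5115), (40920, 5115), (46035, 5115), (51150, 5115), (56265, 5115), (61380, 5115), (66495, 5115), (71610, 5115), (76725, 5115), (81840, 5115), (86955, 5115), (92070, 5115), (97185, 5115), (102300, 5115), (107415, 5115), (112530, 5115), (117645, 5115)] (by decide) (List.forall_mem_cons.2 ⟨eq22_0, List.forall_mem_cons.2 ⟨eq22_1, List.forall_mem_cons.2 ⟨eq22_2, List.forall_mem_cons.2 ⟨eq22_3, List.forall_mem_cons.2 ⟨eq22_4, List.forall_mem_cons.2 ⟨eq22_5, List.forall_mem_cons.2 ⟨eq22_6, List.forall_mem_cons.2 ⟨eq22_7, List.forall_mem_cons.2 ⟨eq22_8, List.forall_mem_cons.2 ⟨eq22_9, List.forall_mem_cons.2 ⟨eq22_10, List.forall_mem_cons.2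 ⟨eq22_11, List.forall_mem_cons.2 ⟨eq22_12, List.forall_mem_cons.2 ⟨eq22_13, List.forall_mem_cons.2 ⟨eq22_14, List.forall_mem_cons.2 ⟨eq22_15, List.forall_mem_cons.2 ⟨eq22_16, List.forall_mem_cons.2 ⟨eq22_17, List.forall_mem_cons.2 ⟨eq22_18, List.forall_mem_cons.2 ⟨eq22_19, List.forall_mem_cons.2 ⟨eq22_20, List.forall_mem_cons.2 ⟨eq22_21, List.forall_mem_cons.2 ⟨eq22_22, List.forall_mem_cons.2 ⟨eq22_23, fun _ h => absurd h List.not_mem_nil⟩⟩⟩⟩⟩⟩⟩⟩⟩⟩⟩⟩⟩⟩⟩⟩⟩⟩⟩⟩⟩⟩⟩⟩)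

end Cfsg.Agent.Lib.Helper5.ONOut
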