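import Cfsg.Agent.Lib.Helper5.ONOut.CSXx0

/-! # The outer automorphism group of the O'Nan group: the image of `x` under the outer automorphism (generated) -/

set_option autoImplicit false
set_option maxRecDepth 100000

namespace Cfsg.Agent.Lib.Helper5.ONOut

open Cfsg.Agent.PF Cfsg.Agent.Lib.Helper6 Cfsg.Agent.Lib.Helper6.TC Cfsg.Agent.Lib.Helper6.NatArr Cfsg.Agent.Lib.Helper5
open Cfsg.Agent.PL (Acts evalF)

/-- the images of the letters of `x` -/
noncomputable def WSX : List (ℕ → ℕ) := [p1, p7, p2, p3, p4]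

/-- the table agrees with the word in the images of the letters -/
theorem eqsx : ∀ q < 122760, fsx q = wordF WSX q :=
  eq_of_chunks (f := fsx) (g := (fun q => p1 (p7 (p2 (p3 (p4 (q))))))) [(0, 15345), (15345, 15345), (30690, 15345), (46035, 15345), (61380, 15345), (76725, 15345), (92070, 15345), (107415, 15345)] (by decide) (List.forall_mem_cons.2 ⟨eqsx_0, List.forall_mem_cons.2 ⟨eqsx_1, List.forall_mem_cons.2 ⟨eqsx_2, List.forall_mem_cons.2 ⟨eqsx_3, List.forall_mem_cons.2 ⟨eqsx_4, List.forall_mem_cons.2 ⟨eqsx_5, List.forall_mem_cons.2 ⟨eqsx_6, List.forall_mem_cons.2 ⟨eqsx_7, fun _ h => absurd h List.not_mem_nil⟩⟩⟩⟩⟩⟩⟩⟩)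

end Cfsg.Agent.Lib.Helper5.ONOut
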