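import Cfsg.Agent.Lib.Helper5.ONOut.DP0
import Cfsg.Agent.Lib.Helper5.ONOut.DP5
import Cfsg.Agent.Lib.Helper5.ONOut.DP7

/-! # The outer automorphism group of the O'Nan group: the further relator number 0 for the images of the letters, a part (generated) -/

set_option autoImplicit false
set_option maxRecDepth 100000

namespace Cfsg.Agent.Lib.Helper5.ONOut

open Cfsg.Agent.PF Cfsg.Agent.Lib.Helper6 Cfsg.Agent.Lib.Helper6.TC Cfsg.Agent.Lib.Helper6.NatArr Cfsg.Agent.Lib.Helper5
open Cfsg.Agent.PL (Acts evalF)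

theorem pextra0_0 : allR 0 17538 (fun q => Nat.beq ((fun q => p0 (p5 (p7 (p7 (q))))) q) ((fun q => q) q)) = true := by decide +kernel

theorem pextra0_1 : allR 17538 17538 (fun q => Nat.beq ((fun q => p0 (p5 (p7 (p7 (q))))) q) ((fun q => q) q)) = true := by decide +kernel

theorem pextra0_2 : allR 35076 17538 (fun q => Nat.beq ((fun q => p0 (p5 (p7 (p7 (q))))) q) ((fun q => q) q)) = true := by decide +kernel

theorem pextra0_3 : allR 52614 17538 (fun q => Nat.beq ((fun q => p0 (p5 (p7 (p7 (q))))) q) ((fun q => q) q)) = true := by decide +kernel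

theorem pextra0_4 : allR 70152 17538 (fun q => Nat.beq ((fun q => p0 (p5 (p7 (p7 (q))))) q) ((fun q => q) q)) = true := by decide +kernel

theorem pextra0_5 : allR 87690 17538 (fun q => Nat.beq ((fun q => p0 (p5 (p7 (p7 (q))))) q) ((fun q => q) q)) = true := by decide +kernel

theorem pextra0_6 : allR 105228 17532 (fun q => Nat.beq ((fun q => p0 (p5 (p7 (p7 (q))))) q) ((fun q => q) q)) = true := by decide +kernel


end Cfsg.Agent.Lib.Helper5.ONOut
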