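import Cfsg.Agent.Lib.Helper5.ONOut.DP2
import Cfsg.Agent.Lib.Helper5.ONOut.DP3
import Cfsg.Agent.Lib.Helper5.ONOut.DP6
import Cfsg.Agent.Lib.Helper5.ONOut.DP7

/-! # The outer automorphism group of the O'Nan group: the further relator number 2 for the images of the letters, a part (generated) -/

set_option autoImplicit false
set_option maxRecDepth 100000

namespace Cfsg.Agent.Lib.Helper5.ONOut

open Cfsg.Agent.PF Cfsg.Agent.Lib.Helper6 Cfsg.Agent.Lib.Helper6.TC Cfsg.Agent.Lib.Helper6.NatArr Cfsg.Agent.Lib.Helper5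
open Cfsg.Agent.PL (Acts evalF)

theorem pextra2_0 : allR 0 8769 (fun q => Nat.beq ((fun q => p2 (p7 (p3 (p7 (p3 (p2 (p3 (p6 (p3 (p6 (q))))))))))) q) ((fun q => q) q)) = true := by decide +kernel

theorem pextra2_1 : allR 8769 8769 (fun q => Nat.beq ((fun q => p2 (p7 (p3 (p7 (p3 (p2 (p3 (p6 (p3 (p6 (q))))))))))) q) ((fun q => q) q)) = true := by decide +kernel

theorem pextra2_2 : allR 17538 8769 (fun q => Nat.beq ((fun q => p2 (p7 (p3 (p7 (p3 (p2 (p3 (p6 (p3 (p6 (q))))))))))) q) ((fun q => q) q)) = true := by decide +kernel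

theorem pextra2_3 : allR 26307 8769 (fun q => Nat.beq ((fun q => p2 (p7 (p3 (p7 (p3 (p2 (p3 (p6 (p3 (p6 (q))))))))))) q) ((fun q => q) q)) = true := by decide +kernel

theorem pextra2_4 : allR 35076 8769 (fun q => Nat.beq ((fun q => p2 (p7 (p3 (p7 (p3 (p2 (p3 (p6 (p3 (p6 (q))))))))))) q) ((fun q => q) q)) = true := by decide +kernel

theorem pextra2_5 : allR 43845 8769 (fun q => Nat.beq ((fun q => p2 (p7 (p3 (p7 (p3 (p2 (p3 (p6 (p3 (p6 (q))))))))))) q) ((fun q => q) q)) = true := by decide +kernel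

theorem pextra2_6 : allR 52614 8769 (fun q => Nat.beq ((fun q => p2 (p7 (p3 (p7 (p3 (p2 (p3 (p6 (p3 (p6 (q))))))))))) q) ((fun q => q) q)) = true := by decide +kernel

theorem pextra2_7 : allR 61383 8769 (fun q => Nat.beq ((fun q => p2 (p7 (p3 (p7 (p3 (p2 (p3 (p6 (p3 (p6 (q))))))))))) q) ((fun q => q) q)) = true := by decide +kernel

theorem pextra2_8 : allR 70152 8769 (fun q => Nat.beq ((fun q => p2 (p7 (p3 (p7 (p3 (p2 (p3 (p6 (p3 (p6 (q))))))))))) q) ((fun q => q) q)) = true := by decide +kernel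

theorem pextra2_9 : allR 78921 8769 (fun q => Nat.beq ((fun q => p2 (p7 (p3 (p7 (p3 (p2 (p3 (p6 (p3 (p6 (q))))))))))) q) ((fun q => q) q)) = true := by decide +kernel

theorem pextra2_10 : allR 87690 8769 (fun q => Nat.beq ((fun q => p2 (p7 (p3 (p7 (p3 (p2 (p3 (p6 (p3 (p6 (q))))))))))) q) ((fun q => q) q)) = true := by decide +kernel

theorem pextra2_11 : allR 96459 8769 (fun q => Nat.beq ((fun q => p2 (p7 (p3 (p7 (p3 (p2 (p3 (p6 (p3 (p6 (q))))))))))) q) ((fun q => q) q)) = true := by decide +kernel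

theorem pextra2_12 : allR 105228 8769 (fun q => Nat.beq ((fun q => p2 (p7 (p3 (p7 (p3 (p2 (p3 (p6 (p3 (p6 (q))))))))))) q) ((fun q => q) q)) = true := by decide +kernel

theorem pextra2_13 : allR 113997 8763 (fun q => Nat.beq ((fun q => p2 (p7 (p3 (p7 (p3 (p2 (p3 (p6 (p3 (p6 (q))))))))))) q) ((fun q => q) q)) = true := by decide +kernel


end Cfsg.Agent.Lib.Helper5.ONOut
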