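import Cfsg.Agent.Lib.Helper5.ONOut.DP1
import Cfsg.Agent.Lib.Helper5.ONOut.DP2
import Cfsg.Agent.Lib.Helper5.ONOut.DP3
import Cfsg.Agent.Lib.Helper5.ONOut.DP6

/-! # The outer automorphism group of the O'Nan group: the further relator number 4 for the images of the letters, a part (generated) -/

set_option autoImplicit false
set_option maxRecDepth 100000

namespace Cfsg.Agent.Lib.Helper5.ONOut

open Cfsg.Agent.PF Cfsg.Agent.Lib.Helper6 Cfsg.Agent.Lib.Helper6.TC Cfsg.Agent.Lib.Helper6.NatArr Cfsg.Agent.Lib.Helper5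
open Cfsg.Agent.PL (Acts evalF)

theorem pextra4_0 : allR 0 4722 (fun q => Nat.beq ((fun q => p1 (p2 (p3 (p6 (p1 (p2 (p3 (p6 (p1 (p2 (p3 (p6 (p1 (p2 (p3 (p6 (p1 (p2 (p3 (p6 (q))))))))))))))))))))) q) ((fun q => q) q)) = true := by decide +kernel

theorem pextra4_1 : allR 4722 4722 (fun q => Nat.beq ((fun q => p1 (p2 (p3 (p6 (p1 (p2 (p3 (p6 (p1 (p2 (p3 (p6 (p1 (p2 (p3 (p6 (p1 (p2 (p3 (p6 (q))))))))))))))))))))) q) ((fun q => q) q)) = true := by decide +kernel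

theorem pextra4_2 : allR 9444 4722 (fun q => Nat.beq ((fun q => p1 (p2 (p3 (p6 (p1 (p2 (p3 (p6 (p1 (p2 (p3 (p6 (p1 (p2 (p3 (p6 (p1 (p2 (p3 (p6 (q))))))))))))))))))))) q) ((fun q => q) q)) = true := by decide +kernel

theorem pextra4_3 : allR 14166 4722 (fun q => Nat.beq ((fun q => p1 (p2 (p3 (p6 (p1 (p2 (p3 (p6 (p1 (p2 (p3 (p6 (p1 (p2 (p3 (p6 (p1 (p2 (p3 (p6 (q))))))))))))))))))))) q) ((fun q => q) q)) = true := by decide +kernel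

theorem pextra4_4 : allR 18888 4722 (fun q => Nat.beq ((fun q => p1 (p2 (p3 (p6 (p1 (p2 (p3 (p6 (p1 (p2 (p3 (p6 (p1 (p2 (p3 (p6 (p1 (p2 (p3 (p6 (q))))))))))))))))))))) q) ((fun q => q) q)) = true := by decide +kernel

theorem pextra4_5 : allR 23610 4722 (fun q => Nat.beq ((fun q => p1 (p2 (p3 (p6 (p1 (p2 (p3 (p6 (p1 (p2 (p3 (p6 (p1 (p2 (p3 (p6 (p1 (p2 (p3 (p6 (q))))))))))))))))))))) q) ((fun q => q) q)) = true := by decide +kernel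

theorem pextra4_6 : allR 28332 4722 (fun q => Nat.beq ((fun q => p1 (p2 (p3 (p6 (p1 (p2 (p3 (p6 (p1 (p2 (p3 (p6 (p1 (p2 (p3 (p6 (p1 (p2 (p3 (p6 (q))))))))))))))))))))) q) ((fun q => q) q)) = true := by decide +kernel

theorem pextra4_7 : allR 33054 4722 (fun q => Nat.beq ((fun q => p1 (p2 (p3 (p6 (p1 (p2 (p3 (p6 (p1 (p2 (p3 (p6 (p1 (p2 (p3 (p6 (p1 (p2 (p3 (p6 (q))))))))))))))))))))) q) ((fun q => q) q)) = true := by decide +kernel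

theorem pextra4_8 : allR 37776 4722 (fun q => Nat.beq ((fun q => p1 (p2 (p3 (p6 (p1 (p2 (p3 (p6 (p1 (p2 (p3 (p6 (p1 (p2 (p3 (p6 (p1 (p2 (p3 (p6 (q))))))))))))))))))))) q) ((fun q => q) q)) = true := by decide +kernel

theorem pextra4_9 : allR 42498 4722 (fun q => Nat.beq ((fun q => p1 (p2 (p3 (p6 (p1 (p2 (p3 (p6 (p1 (p2 (p3 (p6 (p1 (p2 (p3 (p6 (p1 (p2 (p3 (p6 (q))))))))))))))))))))) q) ((fun q => q) q)) = true := by decide +kernel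

theorem pextra4_10 : allR 47220 4722 (fun q => Nat.beq ((fun q => p1 (p2 (p3 (p6 (p1 (p2 (p3 (p6 (p1 (p2 (p3 (p6 (p1 (p2 (p3 (p6 (p1 (p2 (p3 (p6 (q))))))))))))))))))))) q) ((fun q => q) q)) = true := by decide +kernel

theorem pextra4_11 : allR 51942 4722 (fun q => Nat.beq ((fun q => p1 (p2 (p3 (p6 (p1 (p2 (p3 (p6 (p1 (p2 (p3 (p6 (p1 (p2 (p3 (p6 (p1 (p2 (p3 (p6 (q))))))))))))))))))))) q) ((fun q => q) q)) = true := by decide +kernel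

theorem pextra4_12 : allR 56664 4722 (fun q => Nat.beq ((fun q => p1 (p2 (p3 (p6 (p1 (p2 (p3 (p6 (p1 (p2 (p3 (p6 (p1 (p2 (p3 (p6 (p1 (p2 (p3 (p6 (q))))))))))))))))))))) q) ((fun q => q) q)) = true := by decide +kernel

theorem pextra4_13 : allR 61386 4722 (fun q => Nat.beq ((fun q => p1 (p2 (p3 (p6 (p1 (p2 (p3 (p6 (p1 (p2 (p3 (p6 (p1 (p2 (p3 (p6 (p1 (p2 (p3 (p6 (q))))))))))))))))))))) q) ((fun q => q) q)) = true := by decide +kernel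

theorem pextra4_14 : allR 66108 4722 (fun q => Nat.beq ((fun q => p1 (p2 (p3 (p6 (p1 (p2 (p3 (p6 (p1 (p2 (p3 (p6 (p1 (p2 (p3 (p6 (p1 (p2 (p3 (p6 (q))))))))))))))))))))) q) ((fun q => q) q)) = true := by decide +kernel

theorem pextra4_15 : allR 70830 4722 (fun q => Nat.beq ((fun q => p1 (p2 (p3 (p6 (p1 (p2 (p3 (p6 (p1 (p2 (p3 (p6 (p1 (p2 (p3 (p6 (p1 (p2 (p3 (p6 (q))))))))))))))))))))) q) ((fun q => q) q)) = true := by decide +kernel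

theorem pextra4_16 : allR 75552 4722 (fun q => Nat.beq ((fun q => p1 (p2 (p3 (p6 (p1 (p2 (p3 (p6 (p1 (p2 (p3 (p6 (p1 (p2 (p3 (p6 (p1 (p2 (p3 (p6 (q))))))))))))))))))))) q) ((fun q => q) q)) = true := by decide +kernel

theorem pextra4_17 : allR 80274 4722 (fun q => Nat.beq ((fun q => p1 (p2 (p3 (p6 (p1 (p2 (p3 (p6 (p1 (p2 (p3 (p6 (p1 (p2 (p3 (p6 (p1 (p2 (p3 (p6 (q))))))))))))))))))))) q) ((fun q => q) q)) = true := by decide +kernel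

theorem pextra4_18 : allR 84996 4722 (fun q => Nat.beq ((fun q => p1 (p2 (p3 (p6 (p1 (p2 (p3 (p6 (p1 (p2 (p3 (p6 (p1 (p2 (p3 (p6 (p1 (p2 (p3 (p6 (q))))))))))))))))))))) q) ((fun q => q) q)) = true := by decide +kernel

theorem pextra4_19 : allR 89718 4722 (fun q => Nat.beq ((fun q => p1 (p2 (p3 (p6 (p1 (p2 (p3 (p6 (p1 (p2 (p3 (p6 (p1 (p2 (p3 (p6 (p1 (p2 (p3 (p6 (q))))))))))))))))))))) q) ((fun q => q) q)) = true := by decide +kernel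

theorem pextra4_20 : allR 94440 4722 (fun q => Nat.beq ((fun q => p1 (p2 (p3 (p6 (p1 (p2 (p3 (p6 (p1 (p2 (p3 (p6 (p1 (p2 (p3 (p6 (p1 (p2 (p3 (p6 (q))))))))))))))))))))) q) ((fun q => q) q)) = true := by decide +kernel

theorem pextra4_21 : allR 99162 4722 (fun q => Nat.beq ((fun q => p1 (p2 (p3 (p6 (p1 (p2 (p3 (p6 (p1 (p2 (p3 (p6 (p1 (p2 (p3 (p6 (p1 (p2 (p3 (p6 (q))))))))))))))))))))) q) ((fun q => q) q)) = true := by decide +kernel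

theorem pextra4_22 : allR 103884 4722 (fun q => Nat.beq ((fun q => p1 (p2 (p3 (p6 (p1 (p2 (p3 (p6 (p1 (p2 (p3 (p6 (p1 (p2 (p3 (p6 (p1 (p2 (p3 (p6 (q))))))))))))))))))))) q) ((fun q => q) q)) = true := by decide +kernel

theorem pextra4_23 : allR 108606 4722 (fun q => Nat.beq ((fun q => p1 (p2 (p3 (p6 (p1 (p2 (p3 (p6 (p1 (p2 (p3 (p6 (p1 (p2 (p3 (p6 (p1 (p2 (p3 (p6 (q))))))))))))))))))))) q) ((fun q => q) q)) = true := by decide +kernel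

theorem pextra4_24 : allR 113328 4722 (fun q => Nat.beq ((fun q => p1 (p2 (p3 (p6 (p1 (p2 (p3 (p6 (p1 (p2 (p3 (p6 (p1 (p2 (p3 (p6 (p1 (p2 (p3 (p6 (q))))))))))))))))))))) q) ((fun q => q) q)) = true := by decide +kernel


end Cfsg.Agent.Lib.Helper5.ONOut
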