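import Cfsg.Agent.Lib.Helper5.ONOut.DP3
import Cfsg.Agent.Lib.Helper5.ONOut.DP4
import Cfsg.Agent.Lib.Helper5.ONOut.DP6

/-! # The outer automorphism group of the O'Nan group: the further relator number 6 for the images of the letters, a part (generated) -/

set_option autoImplicit false
set_option maxRecDepth 100000

namespace Cfsg.Agent.Lib.Helper5.ONOut

open Cfsg.Agent.PF Cfsg.Agent.Lib.Helper6 Cfsg.Agent.Lib.Helper6.TC Cfsg.Agent.Lib.Helper6.NatArr Cfsg.Agent.Lib.Helper5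
open Cfsg.Agent.PL (Acts evalF)

theorem pextra6_0 : allR 0 8184 (fun q => Nat.beq ((fun q => p6 (p4 (p3 (p6 (p3 (p4 (p6 (p4 (p3 (p6 (p3 (q)))))))))))) q) ((fun q => q) q)) = true := by decide +kernel

theorem pextra6_1 : allR 8184 8184 (fun q => Nat.beq ((fun q => p6 (p4 (p3 (p6 (p3 (p4 (p6 (p4 (p3 (p6 (p3 (q)))))))))))) q) ((fun q => q) q)) = true := by decide +kernel

theorem pextra6_2 : allR 16368 8184 (fun q => Nat.beq ((fun q => p6 (p4 (p3 (p6 (p3 (p4 (p6 (p4 (p3 (p6 (p3 (q)))))))))))) q) ((fun q => q) q)) = true := by decide +kernel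

theorem pextra6_3 : allR 24552 8184 (fun q => Nat.beq ((fun q => p6 (p4 (p3 (p6 (p3 (p4 (p6 (p4 (p3 (p6 (p3 (q)))))))))))) q) ((fun q => q) q)) = true := by decide +kernel

theorem pextra6_4 : allR 32736 8184 (fun q => Nat.beq ((fun q => p6 (p4 (p3 (p6 (p3 (p4 (p6 (p4 (p3 (p6 (p3 (q)))))))))))) q) ((fun q => q) q)) = true := by decide +kernel

theorem pextra6_5 : allR 40920 8184 (fun q => Nat.beq ((fun q => p6 (p4 (p3 (p6 (p3 (p4 (p6 (p4 (p3 (p6 (p3 (q)))))))))))) q) ((fun q => q) q)) = true := by decide +kernel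

theorem pextra6_6 : allR 49104 8184 (fun q => Nat.beq ((fun q => p6 (p4 (p3 (p6 (p3 (p4 (p6 (p4 (p3 (p6 (p3 (q)))))))))))) q) ((fun q => q) q)) = true := by decide +kernel

theorem pextra6_7 : allR 57288 8184 (fun q => Nat.beq ((fun q => p6 (p4 (p3 (p6 (p3 (p4 (p6 (p4 (p3 (p6 (p3 (q)))))))))))) q) ((fun q => q) q)) = true := by decide +kernel

theorem pextra6_8 : allR 65472 8184 (fun q => Nat.beq ((fun q => p6 (p4 (p3 (p6 (p3 (p4 (p6 (p4 (p3 (p6 (p3 (q)))))))))))) q) ((fun q => q) q)) = true := by decide +kernel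

theorem pextra6_9 : allR 73656 8184 (fun q => Nat.beq ((fun q => p6 (p4 (p3 (p6 (p3 (p4 (p6 (p4 (p3 (p6 (p3 (q)))))))))))) q) ((fun q => q) q)) = true := by decide +kernel

theorem pextra6_10 : allR 81840 8184 (fun q => Nat.beq ((fun q => p6 (p4 (p3 (p6 (p3 (p4 (p6 (p4 (p3 (p6 (p3 (q)))))))))))) q) ((fun q => q) q)) = true := by decide +kernel

theorem pextra6_11 : allR 90024 8184 (fun q => Nat.beq ((fun q => p6 (p4 (p3 (p6 (p3 (p4 (p6 (p4 (p3 (p6 (p3 (q)))))))))))) q) ((fun q => q) q)) = true := by decide +kernel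

theorem pextra6_12 : allR 98208 8184 (fun q => Nat.beq ((fun q => p6 (p4 (p3 (p6 (p3 (p4 (p6 (p4 (p3 (p6 (p3 (q)))))))))))) q) ((fun q => q) q)) = true := by decide +kernel

theorem pextra6_13 : allR 106392 8184 (fun q => Nat.beq ((fun q => p6 (p4 (p3 (p6 (p3 (p4 (p6 (p4 (p3 (p6 (p3 (q)))))))))))) q) ((fun q => q) q)) = true := by decide +kernel

theorem pextra6_14 : allR 114576 8184 (fun q => Nat.beq ((fun q => p6 (p4 (p3 (p6 (p3 (p4 (p6 (p4 (p3 (p6 (p3 (q)))))))))))) q) ((fun q => q) q)) = true := by decide +kernel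


end Cfsg.Agent.Lib.Helper5.ONOut
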