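import Cfsg.Agent.Lib.Helper5.ONOut.DP0
import Cfsg.Agent.Lib.Helper5.ONOut.DP4

/-! # The outer automorphism group of the O'Nan group: the relator of the images of the letters 0 and 4, a part (generated) -/

set_option autoImplicit false
set_option maxRecDepth 100000

namespace Cfsg.Agent.Lib.Helper5.ONOut

open Cfsg.Agent.PF Cfsg.Agent.Lib.Helper6 Cfsg.Agent.Lib.Helper6.TC Cfsg.Agent.Lib.Helper6.NatArr Cfsg.Agent.Lib.Helper5
open Cfsg.Agent.PL (Acts evalF)

theorem ppair04_0 : allR 0 17538 (fun q => Nat.beq ((fun q => p4 (p0 (p4 (p0 (q))))) q) ((fun q => q) q)) = true := by decide +kernel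

theorem ppair04_1 : allR 17538 17538 (fun q => Nat.beq ((fun q => p4 (p0 (p4 (p0 (q))))) q) ((fun q => q) q)) = true := by decide +kernel

theorem ppair04_2 : allR 35076 17538 (fun q => Nat.beq ((fun q => p4 (p0 (p4 (p0 (q))))) q) ((fun q => q) q)) = true := by decide +kernel

theorem ppair04_3 : allR 52614 17538 (fun q => Nat.beq ((fun q => p4 (p0 (p4 (p0 (q))))) q) ((fun q => q) q)) = true := by decide +kernel

theorem ppair04_4 : allR 70152 17538 (fun q => Nat.beq ((fun q => p4 (p0 (p4 (p0 (q))))) q) ((fun q => q) q)) = true := by decide +kernel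

theorem ppair04_5 : allR 87690 17538 (fun q => Nat.beq ((fun q => p4 (p0 (p4 (p0 (q))))) q) ((fun q => q) q)) = true := by decide +kernel

theorem ppair04_6 : allR 105228 17532 (fun q => Nat.beq ((fun q => p4 (p0 (p4 (p0 (q))))) q) ((fun q => q) q)) = true := by decide +kernel


end Cfsg.Agent.Lib.Helper5.ONOut
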