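import Cfsg.Agent.Lib.Helper5.ONOut.DP1
import Cfsg.Agent.Lib.Helper5.ONOut.DP2

/-! # The outer automorphism group of the O'Nan group: the relator of the images of the letters 1 and 2, a part (generated) -/

set_option autoImplicit false
set_option maxRecDepth 100000

namespace Cfsg.Agent.Lib.Helper5.ONOut

open Cfsg.Agent.PF Cfsg.Agent.Lib.Helper6 Cfsg.Agent.Lib.Helper6.TC Cfsg.Agent.Lib.Helper6.NatArr Cfsg.Agent.Lib.Helper5
open Cfsg.Agent.PL (Acts evalF)

theorem ppair12_0 : allR 0 13640 (fun q => Nat.beq ((fun q => p2 (p1 (p2 (p1 (p2 (p1 (q))))))) q) ((fun q => q) q)) = true := by decide +kernel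

theorem ppair12_1 : allR 13640 13640 (fun q => Nat.beq ((fun q => p2 (p1 (p2 (p1 (p2 (p1 (q))))))) q) ((fun q => q) q)) = true := by decide +kernel

theorem ppair12_2 : allR 27280 13640 (fun q => Nat.beq ((fun q => p2 (p1 (p2 (p1 (p2 (p1 (q))))))) q) ((fun q => q) q)) = true := by decide +kernel

theorem ppair12_3 : allR 40920 13640 (fun q => Nat.beq ((fun q => p2 (p1 (p2 (p1 (p2 (p1 (q))))))) q) ((fun q => q) q)) = true := by decide +kernel

theorem ppair12_4 : allR 54560 13640 (fun q => Nat.beq ((fun q => p2 (p1 (p2 (p1 (p2 (p1 (q))))))) q) ((fun q => q) q)) = true := by decide +kernel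

theorem ppair12_5 : allR 68200 13640 (fun q => Nat.beq ((fun q => p2 (p1 (p2 (p1 (p2 (p1 (q))))))) q) ((fun q => q) q)) = true := by decide +kernel

theorem ppair12_6 : allR 81840 13640 (fun q => Nat.beq ((fun q => p2 (p1 (p2 (p1 (p2 (p1 (q))))))) q) ((fun q => q) q)) = true := by decide +kernel

theorem ppair12_7 : allR 95480 13640 (fun q => Nat.beq ((fun q => p2 (p1 (p2 (p1 (p2 (p1 (q))))))) q) ((fun q => q) q)) = true := by decide +kernel

theorem ppair12_8 : allR 109120 13640 (fun q => Nat.beq ((fun q => p2 (p1 (p2 (p1 (p2 (p1 (q))))))) q) ((fun q => q) q)) = true := by decide +kernel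


end Cfsg.Agent.Lib.Helper5.ONOut
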