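import Cfsg.Agent.Lib.Helper5.ONOut.DP2
import Cfsg.Agent.Lib.Helper5.ONOut.DP3

/-! # The outer automorphism group of the O'Nan group: the relator of the images of the letters 2 and 3, a part (generated) -/

set_option autoImplicit false
set_option maxRecDepth 100000

namespace Cfsg.Agent.Lib.Helper5.ONOut

open Cfsg.Agent.PF Cfsg.Agent.Lib.Helper6 Cfsg.Agent.Lib.Helper6.TC Cfsg.Agent.Lib.Helper6.NatArr Cfsg.Agent.Lib.Helper5
open Cfsg.Agent.PL (Acts evalF)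

theorem ppair23_0 : allR 0 5846 (fun q => Nat.beq ((fun q => p3 (p2 (p3 (p2 (p3 (p2 (p3 (p2 (p3 (p2 (p3 (p2 (p3 (p2 (p3 (p2 (q))))))))))))))))) q) ((fun q => q) q)) = true := by decide +kernel

theorem ppair23_1 : allR 5846 5846 (fun q => Nat.beq ((fun q => p3 (p2 (p3 (p2 (p3 (p2 (p3 (p2 (p3 (p2 (p3 (p2 (p3 (p2 (p3 (p2 (q))))))))))))))))) q) ((fun q => q) q)) = true := by decide +kernel

theorem ppair23_2 : allR 11692 5846 (fun q => Nat.beq ((fun q => p3 (p2 (p3 (p2 (p3 (p2 (p3 (p2 (p3 (p2 (p3 (p2 (p3 (p2 (p3 (p2 (q))))))))))))))))) q) ((fun q => q) q)) = true := by decide +kernel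

theorem ppair23_3 : allR 17538 5846 (fun q => Nat.beq ((fun q => p3 (p2 (p3 (p2 (p3 (p2 (p3 (p2 (p3 (p2 (p3 (p2 (p3 (p2 (p3 (p2 (q))))))))))))))))) q) ((fun q => q) q)) = true := by decide +kernel

theorem ppair23_4 : allR 23384 5846 (fun q => Nat.beq ((fun q => p3 (p2 (p3 (p2 (p3 (p2 (p3 (p2 (p3 (p2 (p3 (p2 (p3 (p2 (p3 (p2 (q))))))))))))))))) q) ((fun q => q) q)) = true := by decide +kernel

theorem ppair23_5 : allR 29230 5846 (fun q => Nat.beq ((fun q => p3 (p2 (p3 (p2 (p3 (p2 (p3 (p2 (p3 (p2 (p3 (p2 (p3 (p2 (p3 (p2 (q))))))))))))))))) q) ((fun q => q) q)) = true := by decide +kernel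

theorem ppair23_6 : allR 35076 5846 (fun q => Nat.beq ((fun q => p3 (p2 (p3 (p2 (p3 (p2 (p3 (p2 (p3 (p2 (p3 (p2 (p3 (p2 (p3 (p2 (q))))))))))))))))) q) ((fun q => q) q)) = true := by decide +kernel

theorem ppair23_7 : allR 40922 5846 (fun q => Nat.beq ((fun q => p3 (p2 (p3 (p2 (p3 (p2 (p3 (p2 (p3 (p2 (p3 (p2 (p3 (p2 (p3 (p2 (q))))))))))))))))) q) ((fun q => q) q)) = true := by decide +kernel

theorem ppair23_8 : allR 46768 5846 (fun q => Nat.beq ((fun q => p3 (p2 (p3 (p2 (p3 (p2 (p3 (p2 (p3 (p2 (p3 (p2 (p3 (p2 (p3 (p2 (q))))))))))))))))) q) ((fun q => q) q)) = true := by decide +kernel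

theorem ppair23_9 : allR 52614 5846 (fun q => Nat.beq ((fun q => p3 (p2 (p3 (p2 (p3 (p2 (p3 (p2 (p3 (p2 (p3 (p2 (p3 (p2 (p3 (p2 (q))))))))))))))))) q) ((fun q => q) q)) = true := by decide +kernel

theorem ppair23_10 : allR 58460 5846 (fun q => Nat.beq ((fun q => p3 (p2 (p3 (p2 (p3 (p2 (p3 (p2 (p3 (p2 (p3 (p2 (p3 (p2 (p3 (p2 (q))))))))))))))))) q) ((fun q => q) q)) = true := by decide +kernel

theorem ppair23_11 : allR 64306 5846 (fun q => Nat.beq ((fun q => p3 (p2 (p3 (p2 (p3 (p2 (p3 (p2 (p3 (p2 (p3 (p2 (p3 (p2 (p3 (p2 (q))))))))))))))))) q) ((fun q => q) q)) = true := by decide +kernel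

theorem ppair23_12 : allR 70152 5846 (fun q => Nat.beq ((fun q => p3 (p2 (p3 (p2 (p3 (p2 (p3 (p2 (p3 (p2 (p3 (p2 (p3 (p2 (p3 (p2 (q))))))))))))))))) q) ((fun q => q) q)) = true := by decide +kernel

theorem ppair23_13 : allR 75998 5846 (fun q => Nat.beq ((fun q => p3 (p2 (p3 (p2 (p3 (p2 (p3 (p2 (p3 (p2 (p3 (p2 (p3 (p2 (p3 (p2 (q))))))))))))))))) q) ((fun q => q) q)) = true := by decide +kernel

theorem ppair23_14 : allR 81844 5846 (fun q => Nat.beq ((fun q => p3 (p2 (p3 (p2 (p3 (p2 (p3 (p2 (p3 (p2 (p3 (p2 (p3 (p2 (p3 (p2 (q))))))))))))))))) q) ((fun q => q) q)) = true := by decide +kernel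

theorem ppair23_15 : allR 87690 5846 (fun q => Nat.beq ((fun q => p3 (p2 (p3 (p2 (p3 (p2 (p3 (p2 (p3 (p2 (p3 (p2 (p3 (p2 (p3 (p2 (q))))))))))))))))) q) ((fun q => q) q)) = true := by decide +kernel

theorem ppair23_16 : allR 93536 5846 (fun q => Nat.beq ((fun q => p3 (p2 (p3 (p2 (p3 (p2 (p3 (p2 (p3 (p2 (p3 (p2 (p3 (p2 (p3 (p2 (q))))))))))))))))) q) ((fun q => q) q)) = true := by decide +kernel

theorem ppair23_17 : allR 99382 5846 (fun q => Nat.beq ((fun q => p3 (p2 (p3 (p2 (p3 (p2 (p3 (p2 (p3 (p2 (p3 (p2 (p3 (p2 (p3 (p2 (q))))))))))))))))) q) ((fun q => q) q)) = true := by decide +kernel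

theorem ppair23_18 : allR 105228 5846 (fun q => Nat.beq ((fun q => p3 (p2 (p3 (p2 (p3 (p2 (p3 (p2 (p3 (p2 (p3 (p2 (p3 (p2 (p3 (p2 (q))))))))))))))))) q) ((fun q => q) q)) = true := by decide +kernel

theorem ppair23_19 : allR 111074 5846 (fun q => Nat.beq ((fun q => p3 (p2 (p3 (p2 (p3 (p2 (p3 (p2 (p3 (p2 (p3 (p2 (p3 (p2 (p3 (p2 (q))))))))))))))))) q) ((fun q => q) q)) = true := by decide +kernel

theorem ppair23_20 : allR 116920 5840 (fun q => Nat.beq ((fun q => p3 (p2 (p3 (p2 (p3 (p2 (p3 (p2 (p3 (p2 (p3 (p2 (p3 (p2 (p3 (p2 (q))))))))))))))))) q) ((fun q => q) q)) = true := by decide +kernel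


end Cfsg.Agent.Lib.Helper5.ONOut
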