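import Cfsg.Agent.Lib.Helper5.ONOut.DP3
import Cfsg.Agent.Lib.Helper5.ONOut.DP4

/-! # The outer automorphism group of the O'Nan group: the relator of the images of the letters 3 and 4, a part (generated) -/

set_option autoImplicit false
set_option maxRecDepth 100000

namespace Cfsg.Agent.Lib.Helper5.ONOut

open Cfsg.Agent.PF Cfsg.Agent.Lib.Helper6 Cfsg.Agent.Lib.Helper6.TC Cfsg.Agent.Lib.Helper6.NatArr Cfsg.Agent.Lib.Helper5
open Cfsg.Agent.PL (Acts evalF)

theorem ppair34_0 : allR 0 13640 (fun q => Nat.beq ((fun q => p4 (p3 (p4 (p3 (p4 (p3 (q))))))) q) ((fun q => q) q)) = true := by decide +kernel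

theorem ppair34_1 : allR 13640 13640 (fun q => Nat.beq ((fun q => p4 (p3 (p4 (p3 (p4 (p3 (q))))))) q) ((fun q => q) q)) = true := by decide +kernel

theorem ppair34_2 : allR 27280 13640 (fun q => Nat.beq ((fun q => p4 (p3 (p4 (p3 (p4 (p3 (q))))))) q) ((fun q => q) q)) = true := by decide +kernel

theorem ppair34_3 : allR 40920 13640 (fun q => Nat.beq ((fun q => p4 (p3 (p4 (p3 (p4 (p3 (q))))))) q) ((fun q => q) q)) = true := by decide +kernel

theorem ppair34_4 : allR 54560 13640 (fun q => Nat.beq ((fun q => p4 (p3 (p4 (p3 (p4 (p3 (q))))))) q) ((fun q => q) q)) = true := by decide +kernel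

theorem ppair34_5 : allR 68200 13640 (fun q => Nat.beq ((fun q => p4 (p3 (p4 (p3 (p4 (p3 (q))))))) q) ((fun q => q) q)) = true := by decide +kernel

theorem ppair34_6 : allR 81840 13640 (fun q => Nat.beq ((fun q => p4 (p3 (p4 (p3 (p4 (p3 (q))))))) q) ((fun q => q) q)) = true := by decide +kernel

theorem ppair34_7 : allR 95480 13640 (fun q => Nat.beq ((fun q => p4 (p3 (p4 (p3 (p4 (p3 (q))))))) q) ((fun q => q) q)) = true := by decide +kernel

theorem ppair34_8 : allR 109120 13640 (fun q => Nat.beq ((fun q => p4 (p3 (p4 (p3 (p4 (p3 (q))))))) q) ((fun q => q) q)) = true := by decide +kernel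


end Cfsg.Agent.Lib.Helper5.ONOut
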